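import Groth.Agent.Misc12.AzI.Form
import Mathlib.Data.Matrix.Basis
import Mathlib.Data.Matrix.Composition
import Mathlib.LinearAlgebra.Matrix.Reindex

/-!
Classification of involutions of the second or first kind on matrix algebras over rings where every automorphism of a
matrix algebra is inner: the split case and the local case.
-/

set_option autoImplicit false
set_option linter.unusedSectionVars false
set_option linter.style.haveILetI false

universe u v w w'

open Matrix IsLocalRing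

noncomputable section

namespace Groth.Misc12.AzI

variable {B : Type u} [CommRing B] {σ : B ≃+* B}

/-- Transport of an involution along an isomorphism. -/
def transp {A : Type v} [Ring A] [Algebra B A] {A' : Type w} [Ring A'] [Algebra B A'] {lam : B → B}
    (t : AzInv.LamInv B A lam) (F : A ≃ₐ[B] A') : AzInv.LamInv B A' lam where
  toFun x := F (t (F.symm x))
  map_add' a b := by rw [map_add, t.map_add, map_add]
  map_mul' a b := by rw [map_mul, t.map_mul, map_mul]
  map_smul' r a := by rw [map_smul, t.map_smul, map_smul]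
  invol' a := by rw [F.symm_apply_apply, t.invol, F.apply_symm_apply]

theorem transp_apply {A : Type v} [Ring A] [Algebra B A] {A' : Type w} [Ring A'] [Algebra B A'] {lam : B → B}
    (t : AzInv.LamInv B A lam) (F : A ≃ₐ[B] A') (x : A) : transp t F (F x) = F (t x) :=
  congrArg (fun y => F (t y)) (F.symm_apply_apply x)

/-- Isomorphism of algebras with involution. -/
def InvIso {A : Type v} [Ring A] [Algebra B A] {A' : Type w} [Ring A'] [Algebra B A'] {lam : B → B}
    (t : AzInv.LamInv B A lam) (t' : AzInv.LamInv B A' lam) : Prop :=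
  ∃ F : A ≃ₐ[B] A', AzInv.IsInvHom t t' F

section InvIso

variable {A : Type v} [Ring A] [Algebra B A] {A' : Type w} [Ring A'] [Algebra B A'] {A'' : Type w'} [Ring A'']
  [Algebra B A''] {lam : B → B} {t : AzInv.LamInv B A lam} {t' : AzInv.LamInv B A' lam} {t'' : AzInv.LamInv B A'' lam}

theorem InvIso.symm (h : InvIso t t') : InvIso t' t := by
  obtain ⟨F, hF⟩ := h
  exact ⟨F.symm, fun a => F.injective (by rw [hF, F.apply_symm_apply, F.apply_symm_apply])⟩

theorem InvIso.trans (h : InvIso t t') (h' : InvIso t' t'') : InvIso t t'' := by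
  obtain ⟨F, hF⟩ := h
  obtain ⟨G, hG⟩ := h'
  exact ⟨F.trans G, fun a => by simp [hF a, hG (F a)]⟩

theorem invIso_transp (t : AzInv.LamInv B A lam) (F : A ≃ₐ[B] A') : InvIso t (transp t F) :=
  ⟨F, fun a => (transp_apply t F a).symm⟩

end InvIso

/-- Every automorphism of a matrix algebra over `B` is inner. -/
def InnerHyp (B : Type u) [CommRing B] (n : ℕ) : Prop :=
  ∀ φ : Matrix (Fin n) (Fin n) B ≃ₐ[B] Matrix (Fin n) (Fin n) B,
    ∃ v : (Matrix (Fin n) (Fin n) B)ˣ, ∀ x, φ x = v * x * (v⁻¹ : (Matrix (Fin n) (Fin n) B)ˣ)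

theorem scalar_of_comm {n : ℕ} (M : Matrix (Fin n) (Fin n) B) (h : ∀ x, x * M = M * x) :
    ∃ c : B, M = c • (1 : Matrix (Fin n) (Fin n) B) := by
  obtain ⟨c, hc⟩ := Matrix.mem_range_scalar_iff_commute_single'.2 fun i j => h (single i j 1)
  exact ⟨c, by rw [← hc, Matrix.smul_one_eq_diagonal]; rfl⟩

theorem smul_one_inj {n : ℕ} (hn : 0 < n) {a b : B}
    (h : a • (1 : Matrix (Fin n) (Fin n) B) = b • (1 : Matrix (Fin n) (Fin n) B)) : a = b := by
  simpa using congrFun (congrFun h ⟨0, hn⟩) ⟨0, hn⟩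

variable (hσ : ∀ b, σ (σ b) = b) {n : ℕ}

local notation "T₀" => AzInv.LamInv.transpose σ (Fin n) hσ

/-- `t` is `x ↦ u · transpose x · u⁻¹` with `transpose u = e u`. -/
def Rep (t : AzInv.LamInv B (Matrix (Fin n) (Fin n) B) σ) (u : (Matrix (Fin n) (Fin n) B)ˣ) (e : B) : Prop :=
  T₀ (u : Matrix (Fin n) (Fin n) B) = e • (u : Matrix (Fin n) (Fin n) B) ∧
    ∀ x, t x = u * T₀ x * (u⁻¹ : (Matrix (Fin n) (Fin n) B)ˣ)

theorem rep_transpose : Rep hσ T₀ 1 1 :=
  ⟨by rw [Units.val_one, AzInv.LamInv.map_one, one_smul], fun x => by simp⟩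

theorem rep_conj (u : (Matrix (Fin n) (Fin n) B)ˣ) (e : B)
    (hu : T₀ (u : Matrix (Fin n) (Fin n) B) = e • (u : Matrix (Fin n) (Fin n) B)) (he : σ e * e = 1) :
    Rep hσ ((T₀).conj u e hu he) u e := ⟨hu, fun _ => rfl⟩

variable {hσ} {t t' : AzInv.LamInv B (Matrix (Fin n) (Fin n) B) σ} {u u' : (Matrix (Fin n) (Fin n) B)ˣ} {e e' : B}

theorem Rep.norm (hn : 0 < n) (h : Rep hσ t u e) : σ e * e = 1 := by
  have h1 := congrArg (T₀) h.1
  rw [AzInv.LamInv.invol, AzInv.LamInv.map_smul, h.1, smul_smul] at h1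
  have h2 := congrArg (fun M => M * (↑u⁻¹ : Matrix (Fin n) (Fin n) B)) h1
  simp only [smul_mul_assoc, Units.mul_inv] at h2
  exact (smul_one_inj hn ((one_smul B (1 : Matrix (Fin n) (Fin n) B)).trans h2)).symm

theorem Rep.apply_eq (h : Rep hσ t u e) (i j : Fin n) :
    σ ((u : Matrix (Fin n) (Fin n) B) j i) = e * (u : Matrix (Fin n) (Fin n) B) i j :=
  congrFun (congrFun h.1 i) j

theorem exists_rep (hin : InnerHyp B n) (t : AzInv.LamInv B (Matrix (Fin n) (Fin n) B) σ) :
    ∃ u e, Rep hσ t u e := by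
  let φ : Matrix (Fin n) (Fin n) B ≃ₐ[B] Matrix (Fin n) (Fin n) B :=
    { toFun := fun x => t (T₀ x)
      invFun := fun x => T₀ (t x)
      left_inv := fun x => by simp
      right_inv := fun x => by simp
      map_mul' := fun x y => by rw [(T₀).map_mul, t.map_mul]
      map_add' := fun x y => by rw [(T₀).map_add, t.map_add]
      commutes' := fun r => by
        rw [AzInv.LamInv.map_algebraMap, AzInv.LamInv.map_algebraMap, hσ] }
  obtain ⟨u, hu⟩ := hin φ
  have ht : ∀ x, t x = u * T₀ x * (u⁻¹ : (Matrix (Fin n) (Fin n) B)ˣ) := fun x => by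
    rw [← hu]; exact congrArg t ((T₀).invol x).symm
  have hc : ∀ x, x * ((↑u⁻¹ : Matrix (Fin n) (Fin n) B) * T₀ u) = ((↑u⁻¹ : Matrix (Fin n) (Fin n) B) * T₀ u) * x := by
    intro x
    obtain ⟨y, rfl⟩ := (T₀).surjective x
    have h1 := t.invol y
    rw [ht (t y), ht y, (T₀).map_mul, (T₀).map_mul, (T₀).invol] at h1
    -- `u (t₀ u⁻¹) y (t₀ u) u⁻¹ = y`
    have h2 : y * ((u : Matrix (Fin n) (Fin n) B) * T₀ ↑u⁻¹) = ((u : Matrix (Fin n) (Fin n) B) * T₀ ↑u⁻¹) * y := by
      conv_lhs => rw [← h1]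
      simp only [Matrix.mul_assoc]
      rw [Units.inv_mul_cancel_left]
      simp only [← Matrix.mul_assoc, Matrix.mul_assoc ((u : Matrix (Fin n) (Fin n) B) * T₀ ↑u⁻¹ * y),
        AzInv.LamInv.map_units_inv', mul_one]
    have h3 := congrArg (T₀) h2
    simp only [(T₀).map_mul, (T₀).invol] at h3
    exact h3.symm
  obtain ⟨c, hc⟩ := scalar_of_comm _ hc
  refine ⟨u, c, ?_, ht⟩
  rw [← one_mul (T₀ (u : Matrix (Fin n) (Fin n) B)), ← Units.mul_inv u, Matrix.mul_assoc, hc, mul_smul_comm, mul_one]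

theorem Rep.scale (h : Rep hσ t u e) (c : Bˣ) (he : σ c * e = e' * c) :
    Rep hσ t (Units.map (algebraMap B (Matrix (Fin n) (Fin n) B)).toMonoidHom c * u) e' := by
  refine ⟨?_, fun x => ?_⟩
  · rw [Units.val_mul]
    change T₀ (algebraMap B _ (c : B) * (u : Matrix (Fin n) (Fin n) B)) = _ • (algebraMap B _ (c : B) * (u : Matrix (Fin n) (Fin n) B))
    rw [← Algebra.smul_def, (T₀).map_smul, h.1, smul_smul, smul_smul, he]
  · rw [h.2, _root_.mul_inv_rev, Units.val_mul, Units.val_mul]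
    change _ = algebraMap B _ (c : B) * (u : Matrix (Fin n) (Fin n) B) * T₀ x *
      ((↑u⁻¹ : Matrix (Fin n) (Fin n) B) * algebraMap B _ (↑c⁻¹ : B))
    rw [← Algebra.commutes (↑c⁻¹ : B), ← Algebra.smul_def, ← Algebra.smul_def]
    simp only [smul_mul_assoc, mul_smul_comm, smul_smul, Units.inv_mul, one_smul]

/-- Congruent representations give isomorphic involutions. -/
theorem Rep.invIso (h : Rep hσ t u e) (h' : Rep hσ t' u' e') (V : (Matrix (Fin n) (Fin n) B)ˣ)
    (hV : (V : Matrix (Fin n) (Fin n) B) * u * T₀ (V : Matrix (Fin n) (Fin n) B) = u') : InvIso t t' := by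
  let F : Matrix (Fin n) (Fin n) B ≃ₐ[B] Matrix (Fin n) (Fin n) B :=
    { toFun := fun x => V * x * (↑V⁻¹ : Matrix (Fin n) (Fin n) B)
      invFun := fun x => (↑V⁻¹ : Matrix (Fin n) (Fin n) B) * x * V
      left_inv := fun x => by simp [Matrix.mul_assoc]
      right_inv := fun x => by simp [Matrix.mul_assoc]
      map_mul' := fun x y => by simp [Matrix.mul_assoc]
      map_add' := fun x y => by simp [Matrix.mul_add, Matrix.add_mul]
      commutes' := fun r => by rw [← Algebra.commutes r, Matrix.mul_assoc, Units.mul_inv, mul_one] }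
  refine ⟨F, fun x => ?_⟩
  change (V : Matrix (Fin n) (Fin n) B) * t x * (↑V⁻¹ : Matrix (Fin n) (Fin n) B) = t' ((V : Matrix (Fin n) (Fin n) B) * x * (↑V⁻¹ : Matrix (Fin n) (Fin n) B))
  have huV : (u' : Matrix (Fin n) (Fin n) B) * T₀ ↑V⁻¹ = V * u := by
    rw [← hV, Matrix.mul_assoc, AzInv.LamInv.map_units_inv', mul_one]
  have hinv : T₀ (V : Matrix (Fin n) (Fin n) B) * (↑u'⁻¹ : Matrix (Fin n) (Fin n) B) = (↑u⁻¹ : Matrix (Fin n) (Fin n) B) * (↑V⁻¹ : Matrix (Fin n) (Fin n) B) := by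
    refine (Units.mul_right_inj (V * u)).1 ?_
    rw [Units.val_mul, ← Matrix.mul_assoc, hV, Units.mul_inv, Matrix.mul_assoc, Units.mul_inv_cancel_left, Units.mul_inv]
  rw [h.2, h'.2, (T₀).map_mul, (T₀).map_mul]
  simp only [Matrix.mul_assoc, hinv]
  simp only [← Matrix.mul_assoc, huV]

/-- Two representations of the same involution differ by a scalar. -/
theorem Rep.unique (h : Rep hσ t u e) (h' : Rep hσ t u' e') :
    ∃ c : B, (u' : Matrix (Fin n) (Fin n) B) = c • (u : Matrix (Fin n) (Fin n) B) := by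
  obtain ⟨c, hc⟩ := scalar_of_comm ((↑u⁻¹ : Matrix (Fin n) (Fin n) B) * (u' : Matrix (Fin n) (Fin n) B)) fun x => by
    obtain ⟨y, rfl⟩ := (T₀).surjective x
    have h1 := (h.2 y).symm.trans (h'.2 y)
    have h2 := congrArg (fun z => (↑u⁻¹ : Matrix (Fin n) (Fin n) B) * z * (u' : Matrix (Fin n) (Fin n) B)) h1
    simp only [← Matrix.mul_assoc, Units.inv_mul, one_mul] at h2
    simpa [Matrix.mul_assoc] using h2
  exact ⟨c, by rw [← one_mul (u' : Matrix (Fin n) (Fin n) B), ← Units.mul_inv u, Matrix.mul_assoc, hc, mul_smul_comm, mul_one]⟩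

/-- In the split case every involution is isomorphic to the transpose. -/
theorem invIso_transpose_of_idem (hin : InnerHyp B n) (hn : 0 < n) (e₀ : B) (he₀ : IsIdempotentElem e₀)
    (hσe₀ : σ e₀ = 1 - e₀) (t : AzInv.LamInv B (Matrix (Fin n) (Fin n) B) σ) : InvIso t T₀ := by
  obtain ⟨u, e, h⟩ := exists_rep (hσ := hσ) hin t
  have hee : e₀ * e₀ = e₀ := he₀
  have hne := h.norm hn
  let c : Bˣ :=
    { val := e * e₀ + (1 - e₀)
      inv := σ e * e₀ + (1 - e₀)
      val_inv := by linear_combination (e₀ * e₀) * hne + (2 - e - σ e) * hee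
      inv_val := by linear_combination (e₀ * e₀) * hne + (2 - e - σ e) * hee }
  have h1 := h.scale (e' := 1) c (by
    change σ (e * e₀ + (1 - e₀)) * e = 1 * (e * e₀ + (1 - e₀))
    rw [map_add, map_mul, map_sub, map_one, hσe₀]
    linear_combination (1 - e₀) * hne)
  set w := Units.map (algebraMap B (Matrix (Fin n) (Fin n) B)).toMonoidHom c * u
  have hw : T₀ (w : Matrix (Fin n) (Fin n) B) = w := h1.1.trans (one_smul _ _)
  have hwi : T₀ (↑w⁻¹ : Matrix (Fin n) (Fin n) B) = (↑w⁻¹ : Matrix (Fin n) (Fin n) B) := by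
    have h2 := (T₀).map_units_inv w
    rw [hw] at h2
    exact left_inv_eq_right_inv h2 (Units.mul_inv w)
  have h0 : e₀ * (1 - e₀) = 0 := by linear_combination -hee
  have h0' : (1 - e₀) * e₀ = 0 := by linear_combination -hee
  have h00 : (1 - e₀) * (1 - e₀) = 1 - e₀ := by linear_combination hee
  let V : (Matrix (Fin n) (Fin n) B)ˣ :=
    { val := e₀ • (↑w⁻¹ : Matrix (Fin n) (Fin n) B) + (1 - e₀) • 1
      inv := e₀ • (↑w : Matrix (Fin n) (Fin n) B) + (1 - e₀) • 1
      val_inv := by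
        simp only [add_mul, mul_add, smul_add, smul_mul_assoc, mul_smul_comm, smul_smul, Units.inv_mul, one_mul, mul_one, hee, h0,
          h0', h00, zero_smul, add_zero, zero_add, ← add_smul, add_sub_cancel, one_smul]
      inv_val := by
        simp only [add_mul, mul_add, smul_add, smul_mul_assoc, mul_smul_comm, smul_smul, Units.mul_inv, one_mul, mul_one, hee, h0,
          h0', h00, zero_smul, add_zero, zero_add, ← add_smul, add_sub_cancel, one_smul] }
  refine h1.invIso (rep_transpose hσ) V ?_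
  change (e₀ • (↑w⁻¹ : Matrix (Fin n) (Fin n) B) + (1 - e₀) • 1) * w *
    T₀ (e₀ • (↑w⁻¹ : Matrix (Fin n) (Fin n) B) + (1 - e₀) • 1) = 1
  rw [(T₀).map_add, (T₀).map_smul, (T₀).map_smul, hwi, (T₀).map_one, map_sub, map_one, hσe₀, sub_sub_cancel]
  simp only [add_mul, mul_add, smul_add, smul_mul_assoc, mul_smul_comm, smul_smul, Units.inv_mul, Units.mul_inv, one_mul, mul_one,
    hee, h0, h0', h00, zero_smul, add_zero, zero_add, ← add_smul, add_sub_cancel, sub_add_cancel, one_smul]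

section Local

variable [IsLocalRing B] (hres : ∀ b, σ b - b ∈ maximalIdeal B)
variable (hsq : ∀ a : B, IsUnit a → σ a = a → ∃ y : B, σ y = y ∧ y * y = a)

/-- `t` has sign `ε`. -/
def Sgn (hσ : ∀ b, σ (σ b) = b) (t : AzInv.LamInv B (Matrix (Fin n) (Fin n) B) σ) (ε : B) : Prop :=
  ∃ u e, Rep hσ t u e ∧ e - ε ∈ maximalIdeal B

include hres hsq in
theorem Rep.invIso_transpose (h : Rep hσ t u 1) (hz : IsUnit (2 : B) ∨ Odd n) : InvIso t T₀ := by
  have hu : ∀ i j, σ ((u : Matrix (Fin n) (Fin n) B) j i) = (u : Matrix (Fin n) (Fin n) B) i j := fun i j =>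
    (congrFun (congrFun h.1 i) j).trans (one_mul _)
  obtain ⟨V, hV, hVu⟩ := congr_one σ hσ hres u hsq hu fun hn => by
    rcases hz with h2 | hodd
    · exact exists_unit_value_of_two σ hσ hres u hu h2 hn
    · exact exists_unit_value_of_odd σ hσ hres u hu hodd
  exact h.invIso (rep_transpose hσ) hV.unit hVu

include hres hsq in
theorem invIso_transpose_of_odd (hin : InnerHyp B n) (hodd : Odd n)
    (t : AzInv.LamInv B (Matrix (Fin n) (Fin n) B) σ) : InvIso t T₀ := by
  obtain ⟨u, e, h⟩ := exists_rep (hσ := hσ) hin t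
  obtain ⟨k, hk⟩ := hodd
  set d := (u : Matrix (Fin n) (Fin n) B).det
  have hd : σ d = e ^ n * d := by
    have h1 := congrArg Matrix.det h.1
    rw [Matrix.det_smul, Fintype.card_fin] at h1
    rw [← h1, show T₀ (u : Matrix (Fin n) (Fin n) B) = ((u : Matrix (Fin n) (Fin n) B).map σ)ᵀ from rfl,
      Matrix.det_transpose]
    exact RingHom.map_det σ.toRingHom _
  have hne := h.norm (by omega)
  have hcu : IsUnit (d * e ^ (k + 1)) :=
    ((Matrix.isUnit_iff_isUnit_det _).1 u.isUnit).mul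
      ((IsUnit.of_mul_eq_one _ (by rw [mul_comm]; exact hne)).pow _)
  refine (h.scale (e' := 1) hcu.unit ?_).invIso_transpose hres hsq (Or.inr ⟨k, hk⟩)
  rw [IsUnit.unit_spec, one_mul, map_mul, map_pow, hd, hk,
    show e ^ (2 * k + 1) * d * σ e ^ (k + 1) * e = d * e ^ (k + 1) * (σ e * e) ^ (k + 1) by ring, hne, one_pow, mul_one]

variable (h2 : IsUnit (2 : B))

include h2 in
/-- With `2` a unit the representing matrix can be made symmetric or antisymmetric. -/
theorem exists_rep_sign (hin : InnerHyp B n) (hn : 0 < n) (t : AzInv.LamInv B (Matrix (Fin n) (Fin n) B) σ) :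
    (∃ u, Rep hσ t u 1) ∨ ∃ u, Rep hσ t u (-1) := by
  obtain ⟨u, e, h⟩ := exists_rep (hσ := hσ) hin t
  have hne := h.norm hn
  rcases IsLocalRing.isUnit_or_isUnit_of_isUnit_add (a := 1 + e) (b := 1 - e) (by convert h2 using 1; ring) with h1 | h1
  · refine Or.inl ⟨_, h.scale h1.unit ?_⟩
    rw [IsUnit.unit_spec, map_add, map_one]
    linear_combination hne
  · refine Or.inr ⟨_, h.scale h1.unit ?_⟩
    rw [IsUnit.unit_spec, map_sub, map_one]
    linear_combination -hne

include hres in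
theorem Sgn.unique (hn : 0 < n) {ε ε' : B} (h : Sgn hσ t ε) (h' : Sgn hσ t ε') : ε - ε' ∈ maximalIdeal B := by
  obtain ⟨u, e, hr, he⟩ := h
  obtain ⟨u', e', hr', he'⟩ := h'
  obtain ⟨c, hc⟩ := hr.unique hr'
  have h1 := hr'.1
  rw [hc, (T₀).map_smul, hr.1, smul_smul, smul_smul] at h1
  have h2 := congrArg (fun M => M * (↑u⁻¹ : Matrix (Fin n) (Fin n) B)) h1
  simp only [smul_mul_assoc, Units.mul_inv] at h2
  have h3 := smul_one_inj hn h2
  have hcu : IsUnit c := by
    have := congrArg (fun M => M * (↑u'⁻¹ : Matrix (Fin n) (Fin n) B)) hc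
    simp only [smul_mul_assoc, Units.mul_inv] at this
    refine IsUnit.of_mul_eq_one (((u : Matrix (Fin n) (Fin n) B) * (↑u'⁻¹ : Matrix (Fin n) (Fin n) B)) ⟨0, hn⟩ ⟨0, hn⟩) ?_
    simpa using (congrFun (congrFun this.symm ⟨0, hn⟩) ⟨0, hn⟩)
  have h4 : e - e' ∈ maximalIdeal B := by
    refine (Ideal.unit_mul_mem_iff_mem _ hcu).1 ?_
    rw [show c * (e - e') = -(σ c - c) * e by linear_combination h3]
    exact Ideal.mul_mem_right _ _ (Ideal.neg_mem_iff _ |>.2 (hres c))
  have := Ideal.add_mem _ (Ideal.sub_mem _ h4 he) he'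
  convert this using 1
  ring

theorem not_one_sub_neg_one (h2 : IsUnit (2 : B)) : (1 : B) - -1 ∉ maximalIdeal B := fun h =>
  (mem_maximalIdeal _).1 h (by convert h2 using 1; ring)

include hres h2 hsq in
theorem sgn_cases (hin : InnerHyp B n) (hn : 0 < n) (t : AzInv.LamInv B (Matrix (Fin n) (Fin n) B) σ) :
    Sgn hσ t 1 ∨ Sgn hσ t (-1) := by
  rcases exists_rep_sign h2 (hσ := hσ) hin hn t with ⟨u, hu⟩ | ⟨u, hu⟩
  · exact Or.inl ⟨u, 1, hu, by simp⟩
  · exact Or.inr ⟨u, -1, hu, by simp⟩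

include hres h2 hsq in
theorem Sgn.invIso_transpose (hin : InnerHyp B n) (hn : 0 < n) (h : Sgn hσ t 1) : InvIso t T₀ := by
  rcases exists_rep_sign h2 (hσ := hσ) hin hn t with ⟨u, hu⟩ | ⟨u, hu⟩
  · exact hu.invIso_transpose hres hsq (Or.inl h2)
  · exact absurd (Sgn.unique hres hn h ⟨u, -1, hu, by simp⟩) (not_one_sub_neg_one h2)

include hres h2 hsq in
theorem Sgn.invIso_neg (hin : InnerHyp B n) (hn : 0 < n) (h : Sgn hσ t (-1)) (h' : Sgn hσ t' (-1)) :
    Even n ∧ InvIso t t' := by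
  have get : ∀ {t : AzInv.LamInv B (Matrix (Fin n) (Fin n) B) σ}, Sgn hσ t (-1) → ∃ u, Rep hσ t u (-1) := fun {t} h => by
    rcases exists_rep_sign h2 (hσ := hσ) hin hn t with ⟨u, hu⟩ | hu
    · exact absurd (Sgn.unique hres hn ⟨u, 1, hu, by simp⟩ h) (not_one_sub_neg_one h2)
    · exact hu
  obtain ⟨u, hu⟩ := get h
  obtain ⟨u', hu'⟩ := get h'
  obtain ⟨he, V, hV⟩ := congr_skew σ u hσ hres h2 hsq u'
    (fun i j => (congrFun (congrFun hu.1 i) j).trans (neg_one_mul _))
    (fun i j => (congrFun (congrFun hu'.1 i) j).trans (neg_one_mul _))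
  exact ⟨he, hu.invIso hu' V hV⟩

theorem Sgn.of_invIso (hin : InnerHyp B n) {ε : B} (hiso : InvIso t t') (h : Sgn hσ t ε) : Sgn hσ t' ε := by
  obtain ⟨u, e, hr, he⟩ := h
  obtain ⟨F, hF⟩ := hiso
  obtain ⟨V, hV⟩ := hin F
  let T0V : (Matrix (Fin n) (Fin n) B)ˣ :=
    ⟨T₀ (V : Matrix (Fin n) (Fin n) B), T₀ (↑V⁻¹ : Matrix (Fin n) (Fin n) B), (T₀).map_units_inv' V, (T₀).map_units_inv V⟩
  refine ⟨V * u * T0V, e, ⟨?_, fun x => ?_⟩, he⟩
  · simp only [Units.val_mul, T0V, (T₀).map_mul, (T₀).invol, hr.1]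
    rw [smul_mul_assoc, mul_smul_comm, Matrix.mul_assoc]
  · obtain ⟨y, rfl⟩ := F.surjective x
    rw [← hF y, hV, hr.2, hV, (T₀).map_mul, (T₀).map_mul]
    have hinv : (↑(V * u * T0V)⁻¹ : Matrix (Fin n) (Fin n) B) = T₀ (↑V⁻¹ : Matrix (Fin n) (Fin n) B) * (↑u⁻¹ : Matrix (Fin n) (Fin n) B) * (↑V⁻¹ : Matrix (Fin n) (Fin n) B) := by
      simp [_root_.mul_inv_rev, T0V, Matrix.mul_assoc]
    rw [hinv]
    simp only [Units.val_mul, T0V, Matrix.mul_assoc]
    have hc1 : ∀ z, T₀ (V : Matrix (Fin n) (Fin n) B) * (T₀ ↑V⁻¹ * z) = z := fun z => by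
      rw [← Matrix.mul_assoc, (T₀).map_units_inv', one_mul]
    simp only [hc1]

end Local

section Blocks

variable (m : ℕ)

/-- `M_m(M_n B) ≅ M_{mn}(B)`. -/
def blockEquiv (m n : ℕ) : Matrix (Fin m) (Fin m) (Matrix (Fin n) (Fin n) B) ≃ₐ[B] Matrix (Fin (m * n)) (Fin (m * n)) B :=
  (Matrix.compAlgEquiv (Fin m) (Fin n) B B).trans (Matrix.reindexAlgEquiv B B finProdFinEquiv)

theorem blockEquiv_transpose (X : Matrix (Fin m) (Fin m) (Matrix (Fin n) (Fin n) B)) :
    AzInv.LamInv.transpose σ (Fin (m * n)) hσ (blockEquiv m n X) = blockEquiv m n ((T₀).matrix (Fin m) X) := by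
  ext i j
  simp [blockEquiv, Matrix.comp]

theorem Sgn.blocks [IsLocalRing B] {ε : B} (h : Sgn hσ t ε) :
    Sgn hσ (transp (t.matrix (Fin m)) (blockEquiv m n)) ε := by
  obtain ⟨u, e, hr, he⟩ := h
  let D : (Matrix (Fin m) (Fin m) (Matrix (Fin n) (Fin n) B))ˣ :=
    Units.map (Matrix.scalar (Fin m) : Matrix (Fin n) (Fin n) B →+* _).toMonoidHom u
  let U : (Matrix (Fin (m * n)) (Fin (m * n)) B)ˣ := Units.map (blockEquiv (B := B) m n).toAlgHom.toRingHom.toMonoidHom D
  refine ⟨U, e, ⟨?_, fun x => ?_⟩, he⟩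
  · change AzInv.LamInv.transpose σ (Fin (m * n)) hσ (blockEquiv m n (Matrix.scalar (Fin m) (u : Matrix (Fin n) (Fin n) B))) =
      e • blockEquiv m n (Matrix.scalar (Fin m) (u : Matrix (Fin n) (Fin n) B))
    rw [blockEquiv_transpose, ← map_smul]
    congr 1
    refine Matrix.ext fun i j => ?_
    rcases eq_or_ne i j with rfl | hij
    · simpa using hr.1
    · simp [hij, hij.symm]
  · obtain ⟨y, rfl⟩ := (blockEquiv (B := B) m n).surjective x
    rw [transp_apply]
    change _ = blockEquiv m n (Matrix.scalar (Fin m) (u : Matrix (Fin n) (Fin n) B)) * _ *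
      blockEquiv m n (Matrix.scalar (Fin m) (↑u⁻¹ : Matrix (Fin n) (Fin n) B))
    rw [blockEquiv_transpose, ← map_mul, ← map_mul]
    congr 1
    refine Matrix.ext fun i j => ?_
    simp [Matrix.mul_diagonal, Matrix.diagonal_mul, hr.2]

end Blocks

end Groth.Misc12.AzI
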