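import Groth.Agent.Sga3.Spreading
import Mathlib.RingTheory.Etale.Pi
import Mathlib.RingTheory.Flat.FaithfullyFlat.Algebra
import Mathlib.RingTheory.Spectrum.Prime.Chevalley
import Mathlib.LinearAlgebra.TensorProduct.Pi

/-!
From strict henselizations to one étale covering: lifting to stages and gluing finitely many of them.
-/

set_option autoImplicit false
set_option linter.unusedSectionVars false

universe u w

open TensorProduct
open Groth.Hensel1 Groth.Sga3.HensPoint

noncomputable section

namespace Groth.Misc12.AzI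

variable {S : Type u} [CommRing S] {Ω : Type u} [Field Ω] [Algebra S Ω]
variable {N : Type w} [AddCommGroup N] [Module S N]

theorem rTensor_comp_apply {E F G : Type u} [CommRing E] [CommRing F] [CommRing G] [Algebra S E] [Algebra S F]
    [Algebra S G] (f : E →ₐ[S] F) (g : F →ₐ[S] G) (z : E ⊗[S] N) :
    g.toLinearMap.rTensor N (f.toLinearMap.rTensor N z) = (g.comp f).toLinearMap.rTensor N z := by
  rw [AlgHom.comp_toLinearMap, LinearMap.rTensor_comp_apply]

/-- Finitely many elements of `T ⊗ N` come from a stage. -/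
theorem exists_lift {κ : Type*} [Finite κ] (z : κ → Hens S Ω ⊗[S] N) :
    ∃ (St : Stage S Ω) (y : κ → St.E ⊗[S] N), ∀ k, St.h.toLinearMap.rTensor N (y k) = z k := by
  classical
  cases nonempty_fintype κ
  choose F hF using fun k => TensorProduct.exists_finset (z k)
  obtain ⟨St, y, hy⟩ := exists_stage (R := S) (Ω := Ω) (κ := Σ k, F k) fun q => q.2.1.1
  refine ⟨St, fun k => ∑ q : F k, y ⟨k, q⟩ ⊗ₜ[S] q.1.2, fun k => ?_⟩
  rw [map_sum, hF k, ← Finset.sum_coe_sort (F k)]
  refine Finset.sum_congr rfl fun q _ => ?_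
  rw [LinearMap.rTensor_tmul, AlgHom.toLinearMap_apply, hy]

theorem exists_kill_finsupp {ι : Type*} {κ : Type*} [Finite κ] (St : Stage S Ω) (z : κ → St.E ⊗[S] (ι →₀ S))
    (hz : ∀ k, St.h.toLinearMap.rTensor (ι →₀ S) (z k) = 0) :
    ∃ (T : Stage S Ω) (g : StageHom St T), ∀ k, g.f.toLinearMap.rTensor (ι →₀ S) (z k) = 0 := by
  classical
  cases nonempty_fintype κ
  let P : ∀ (E : Type u) [CommRing E] [Algebra S E], E ⊗[S] (ι →₀ S) ≃ₗ[S] ι →₀ E := fun E _ _ =>
    TensorProduct.finsuppScalarRight S S E ι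
  have hnat : ∀ (E E' : Type u) [CommRing E] [Algebra S E] [CommRing E'] [Algebra S E']
      (f : E →ₐ[S] E') (x : E ⊗[S] (ι →₀ S)) (i : ι),
      P E' (f.toLinearMap.rTensor (ι →₀ S) x) i = f (P E x i) := by
    intro E E' _ _ _ _ f x i
    induction x using TensorProduct.induction_on with
    | zero => simp
    | tmul t a => simp [P]
    | add p q hp hq => simp [map_add, hp, hq]
  let J := Σ k : κ, ((P St.E (z k)).support : Finset ι)
  obtain ⟨T, g, hg⟩ := Groth.Sga3.HensPoint.exists_kill St (fun q : J => P St.E (z q.1) q.2.1) fun q => by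
    rw [← hnat, hz, map_zero, Finsupp.zero_apply]
  refine ⟨T, g, fun k => (P T.E).injective ?_⟩
  rw [map_zero]
  refine Finsupp.ext fun i => ?_
  rw [hnat, Finsupp.zero_apply]
  by_cases hi : i ∈ (P St.E (z k)).support
  · exact hg ⟨k, i, hi⟩
  · rw [Finsupp.notMem_support_iff.1 hi, map_zero]

/-- Finitely many equalities in `T ⊗ N` hold at a stage, for any module `N`. -/
theorem exists_kill {κ : Type*} [Finite κ] (St : Stage S Ω) (z z' : κ → St.E ⊗[S] N)
    (hz : ∀ k, St.h.toLinearMap.rTensor N (z k) = St.h.toLinearMap.rTensor N (z' k)) :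
    ∃ (T : Stage S Ω) (g : StageHom St T), ∀ k, g.f.toLinearMap.rTensor N (z k) = g.f.toLinearMap.rTensor N (z' k) := by
  classical
  cases nonempty_fintype κ
  let p : (N →₀ S) →ₗ[S] N := Finsupp.linearCombination S id
  have hp : Function.Surjective p := fun n => ⟨Finsupp.single n 1, by simp [p]⟩
  let K := LinearMap.ker p
  have hexact : Function.Exact K.subtype p := LinearMap.exact_subtype_ker_map p
  have hTexact := lTensor_exact (R := S) (M := ↥K) (N := N →₀ S) (P := N) (f := K.subtype) (g := p) (Hens S Ω) hexact hp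
  choose x hx using fun k => LinearMap.lTensor_surjective St.E hp (z k - z' k)
  have hnat : ∀ {A B : Type u} [CommRing A] [CommRing B] [Algebra S A] [Algebra S B] (f : A →ₐ[S] B)
      (v : A ⊗[S] (N →₀ S)), p.lTensor B (f.toLinearMap.rTensor (N →₀ S) v) = f.toLinearMap.rTensor N (p.lTensor A v) := by
    intro A B _ _ _ _ f v
    rw [← LinearMap.comp_apply, LinearMap.lTensor_comp_rTensor, ← LinearMap.rTensor_comp_lTensor]
    rfl
  choose y hy using fun k => (hTexact (St.h.toLinearMap.rTensor (N →₀ S) (x k))).1 (by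
    rw [hnat, hx, map_sub, hz, sub_self])
  obtain ⟨St', y', hy'⟩ := exists_lift (S := S) (Ω := Ω) (N := ↥K) y
  obtain ⟨T, ⟨g⟩, ⟨g'⟩⟩ := exists_merge St St'
  have hnatK : ∀ {A B : Type u} [CommRing A] [CommRing B] [Algebra S A] [Algebra S B] (f : A →ₐ[S] B)
      (v : A ⊗[S] K), f.toLinearMap.rTensor (N →₀ S) (K.subtype.lTensor A v) = K.subtype.lTensor B (f.toLinearMap.rTensor K v) := by
    intro A B _ _ _ _ f v
    rw [← LinearMap.comp_apply, LinearMap.rTensor_comp_lTensor, ← LinearMap.lTensor_comp_rTensor]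
    rfl
  obtain ⟨T', g'', hT'⟩ := exists_kill_finsupp T
    (fun k => g.f.toLinearMap.rTensor (N →₀ S) (x k) - K.subtype.lTensor T.E (g'.f.toLinearMap.rTensor K (y' k)))
    (fun k => by
      rw [map_sub, rTensor_comp_apply, g.comm, hnatK, ← LinearMap.rTensor_comp_apply, ← AlgHom.comp_toLinearMap, g'.comm, hy', hy, sub_self])
  refine ⟨T', ⟨g''.f.comp g.f, by rw [← AlgHom.comp_assoc, g''.comm, g.comm]⟩, fun k => sub_eq_zero.1 ?_⟩
  rw [← map_sub, ← hx, ← hnat, ← rTensor_comp_apply g.f g''.f (x k)]
  have h := hT' k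
  rw [map_sub, sub_eq_zero] at h
  rw [h, hnatK]
  change p.lTensor T'.E (K.subtype.lTensor T'.E _) = 0
  rw [← LinearMap.comp_apply, ← LinearMap.lTensor_comp, LinearMap.comp_ker_subtype, LinearMap.lTensor_zero, LinearMap.zero_apply]

/-- Elements over a finite product agree when their components do, and components can be prescribed. -/
theorem pi_bijective {ι : Type u} [Finite ι] (E : ι → Type u) [∀ i, CommRing (E i)] [∀ i, Algebra S (E i)] :
    Function.Bijective fun (z : (∀ i, E i) ⊗[S] N) (i : ι) => (Pi.evalAlgHom S E i).toLinearMap.rTensor N z := by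
  classical
  cases nonempty_fintype ι
  have h : (fun (z : (∀ i, E i) ⊗[S] N) (i : ι) => (Pi.evalAlgHom S E i).toLinearMap.rTensor N z) =
      ⇑(TensorProduct.piLeft S N E) := by
    funext z i
    induction z using TensorProduct.induction_on with
    | zero => simp
    | tmul a b => simp
    | add x y hx hy => simp only [map_add, Pi.add_apply, hx, hy]
  rw [h]
  exact (TensorProduct.piLeft S N E).bijective

/-- A property of étale algebras which holds at a stage over every prime and passes to finite products holds for a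
faithfully flat étale algebra. -/
theorem exists_etale_cover (P : ∀ (E : Type u) [CommRing E] [Algebra S E], Prop)
    (hprod : ∀ (ι : Type u) [Finite ι] (E : ι → Type u) [∀ i, CommRing (E i)] [∀ i, Algebra S (E i)],
      (∀ i, P (E i)) → P (∀ i, E i))
    (hloc : ∀ (p : Ideal S) [p.IsPrime], ∃ St : Stage S (SeparableClosure p.ResidueField), P St.E) :
    ∃ (E : Type u) (_ : CommRing E) (_ : Algebra S E) (_ : Algebra.Etale S E) (_ : Module.FaithfullyFlat S E), P E := by
  classical
  choose St hSt using fun p : PrimeSpectrum S => hloc p.asIdeal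
  haveI : ∀ p : PrimeSpectrum S, Module.Flat S (St p).E := fun p => inferInstance
  let U : PrimeSpectrum S → Set (PrimeSpectrum S) := fun p =>
    Set.range (PrimeSpectrum.comap (algebraMap S (St p).E))
  have hmem : ∀ p, p ∈ U p := fun p => by
    obtain ⟨q, hq, hqp⟩ := exists_prime_over p.asIdeal (St p)
    exact ⟨⟨q, hq⟩, PrimeSpectrum.ext hqp⟩
  have hopen : ∀ p, IsOpen (U p) := fun p =>
    (PrimeSpectrum.isOpenMap_comap_of_hasGoingDown_of_finitePresentation (R := S) (S := (St p).E)).isOpen_range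
  obtain ⟨t, ht⟩ := isCompact_univ.elim_finite_subcover U hopen fun p _ => Set.mem_iUnion.2 ⟨p, hmem p⟩
  let E : t → Type u := fun i => (St i.1).E
  refine ⟨∀ i, E i, inferInstance, inferInstance, inferInstance, ?_, hprod t E fun i => hSt i.1⟩
  haveI : Module.Flat S (∀ i, E i) := inferInstance
  refine Module.FaithfullyFlat.of_comap_surjective fun p => ?_
  obtain ⟨j, hj, q, hq⟩ := Set.mem_iUnion₂.1 (ht (Set.mem_univ p))
  exact ⟨PrimeSpectrum.comap (Pi.evalRingHom E ⟨j, hj⟩) q, by rw [← PrimeSpectrum.comap_comp_apply, ← hq]; rfl⟩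

end Groth.Misc12.AzI
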