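import Groth.Agent.Misc12.AzI.Local
import Groth.Agent.Misc12.AzI.Cover

/-!
Strictly henselian local rings: the involution is trivial on the residue field, and units are squares.
-/

set_option autoImplicit false
set_option linter.unusedSectionVars false
set_option linter.style.haveILetI false

universe u v w

open TensorProduct Polynomial IsLocalRing
open Groth.Hensel1 Groth.Sga3.HensPoint

noncomputable section

namespace Groth.Misc12.AzI

/-- An étale faithfully flat algebra over a strictly henselian local ring has a section. -/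
theorem exists_section' (B : Type u) [CommRing B] [SHLR B] (R' : Type u) [CommRing R'] [Algebra B R']
    [Algebra.Etale B R'] [Module.FaithfullyFlat B R'] : Nonempty (R' →ₐ[B] B) := by
  let k := ResidueField B
  haveI : Nontrivial (k ⊗[B] R') := Module.FaithfullyFlat.rTensor_nontrivial B R' k
  obtain ⟨M, hM⟩ := Ideal.exists_maximal (k ⊗[B] R')
  letI iA : Algebra k ((k ⊗[B] R') ⧸ M) := Ideal.Quotient.algebra k
  letI := Ideal.Quotient.field M
  haveI : Algebra.FormallyUnramified k ((k ⊗[B] R') ⧸ M) :=
    Algebra.FormallyUnramified.comp k (k ⊗[B] R') _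
  haveI : Algebra.IsSeparable k ((k ⊗[B] R') ⧸ M) := Algebra.FormallyUnramified.isSeparable k _
  have hb : Function.Bijective (algebraMap k ((k ⊗[B] R') ⧸ M)) :=
    ⟨RingHom.injective _, IsSepClosed.algebraMap_surjective k _⟩
  let σ : R' →ₐ[B] k := (((AlgEquiv.ofBijective (Algebra.ofId k ((k ⊗[B] R') ⧸ M)) hb).symm.toAlgHom.comp
    (Ideal.Quotient.mkₐ k M)).restrictScalars B).comp Algebra.TensorProduct.includeRight
  obtain ⟨τ, -, -⟩ := Groth.Hensel1.existsUnique_algHom_etale_lift (A := B) (C := B) (J := maximalIdeal B) (E := R') σ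
  exact ⟨τ⟩

/-- Monic quadratic polynomials with unit discriminant have roots. -/
theorem exists_root_quadratic (W : Type u) [CommRing W] [SHLR W] (s p : W) (hD : IsUnit (s * s - 4 * p)) :
    ∃ x, x * x - s * x + p = 0 := by
  let k := ResidueField W
  set s' := residue W s with hs'
  set p' := residue W p with hp'
  let D := s' * s' - 4 * p'
  have hD0 : D ≠ 0 := by
    have := hD.map (residue W)
    rw [map_sub, map_mul, map_mul, map_ofNat] at this
    exact this.ne_zero
  let f : k[X] := X ^ 2 + (C (-s') * X + C p')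
  have hdeg : f.degree = 2 := by
    refine (degree_add_eq_left_of_degree_lt ?_).trans (degree_X_pow 2)
    rw [degree_X_pow]
    exact degree_linear_le.trans_lt (by exact_mod_cast one_lt_two)
  have hder : derivative f = 2 * X + C (-s') := by
    simp only [f, derivative_add, derivative_X_pow, derivative_mul, derivative_C, derivative_X, Nat.cast_ofNat, map_ofNat,
      pow_one]
    ring
  have hsep : f.Separable := by
    refine separable_def' f |>.2 ⟨C (-4 / D), (2 * X + C (-s')) * C (1 / D), ?_⟩
    have h1 : C (-4 / D) = -4 * C (1 / D) := by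
      rw [show (-4 : k[X]) = C (-4) by rw [map_neg, map_ofNat], ← map_mul]; congr 1; ring
    have h2 : C D * C (1 / D) = 1 := by rw [← map_mul, mul_one_div_cancel hD0, map_one]
    have h3 : C D = C s' * C s' - 4 * C p' := by simp only [D, map_sub, map_mul, map_ofNat]
    rw [h1, hder]
    simp only [f, map_neg]
    linear_combination h2 - C (1 / D) * h3
  obtain ⟨x', hx'⟩ := IsSepClosed.exists_root f (by rw [hdeg]; decide) hsep
  obtain ⟨x₀, rfl⟩ := residue_surjective x'
  simp only [f, IsRoot, eval_add, eval_pow, eval_X, eval_mul, eval_C] at hx'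
  obtain ⟨x, hx, -⟩ := HenselianLocalRing.is_henselian (X ^ 2 + (C (-s) * X + C p)) (by monicity!) x₀ (by
    rw [← residue_eq_zero_iff]
    simp only [eval_add, eval_pow, eval_X, eval_mul, eval_C]
    simp only [map_add, map_pow, map_mul, map_neg]
    exact hx') (by
    by_contra hn
    have h0 : residue W (2 * x₀ - s) = 0 := by
      rw [residue_eq_zero_iff, mem_maximalIdeal, mem_nonunits_iff]
      simp only [derivative_add, derivative_X_pow, derivative_mul, derivative_C, derivative_X, zero_mul, zero_add,
        mul_one, add_zero, eval_add, eval_mul, eval_C, eval_pow, eval_X] at hn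
      convert hn using 2
      push_cast
      ring
    rw [map_sub, map_mul, map_ofNat, ← hs'] at h0
    exact hD0 (by linear_combination (2 * residue W x₀ - s') * h0 - 4 * hx'))
  refine ⟨x, ?_⟩
  have := hx.eq_zero
  simp only [eval_add, eval_pow, eval_X, eval_mul, eval_C] at this
  linear_combination this

theorem exists_sqrt_of_two (W : Type u) [CommRing W] [SHLR W] (h2 : IsUnit (2 : W)) (x : W) (hx : IsUnit x) :
    ∃ y, y * y = x := by
  obtain ⟨y, hy⟩ := exists_root_quadratic W 0 (-x) (by
    rw [show (0 : W) * 0 - 4 * -x = 2 * 2 * x by ring]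
    exact (h2.mul h2).mul hx)
  exact ⟨y, by linear_combination hy⟩

/-- The involution is trivial on the residue field. -/
theorem residue_trivial {W : Type u} [CommRing W] [SHLR W] {B : Type v} [CommRing B] [IsLocalRing B] [Algebra W B]
    (σ : B ≃ₐ[W] B) (hσ : ∀ b, σ (σ b) = b) (hinj : Function.Injective (algebraMap W B))
    (hfix : ∀ b, σ b = b → b ∈ Set.range (algebraMap W B)) (y : B) : σ y - y ∈ maximalIdeal B := by
  by_contra h0
  have hu : IsUnit (σ y - y) := by simpa using h0
  obtain ⟨s, hs⟩ := hfix (y + σ y) (by rw [map_add, hσ, add_comm])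
  obtain ⟨p, hp⟩ := hfix (y * σ y) (by rw [map_mul, hσ, mul_comm])
  have hunit : ∀ w : W, IsUnit (algebraMap W B w) → IsUnit w := fun w hw => by
    obtain ⟨c, hc⟩ := hw.exists_left_inv
    have hcfix : σ c = c := by
      have h1 := congrArg σ hc
      rw [map_mul, σ.commutes, map_one] at h1
      exact left_inv_eq_right_inv h1 ((mul_comm _ _).trans hc)
    obtain ⟨c', rfl⟩ := hfix c hcfix
    exact IsUnit.of_mul_eq_one c' (hinj (by rw [map_mul, map_one, mul_comm, hc]))
  have hD : IsUnit (s * s - 4 * p) := hunit _ (by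
    rw [map_sub, map_mul, map_mul, map_ofNat, hs, hp]
    convert hu.mul hu using 1
    ring)
  obtain ⟨x, hx⟩ := exists_root_quadratic W s p hD
  have h1 : (algebraMap W B x - y) * (algebraMap W B x - σ y) = 0 := by
    have h2 := congrArg (algebraMap W B) hx
    rw [map_add, map_sub, map_mul, map_mul, hs, hp, map_zero] at h2
    linear_combination h2
  have hne : σ y = y := by
    rcases IsLocalRing.isUnit_or_isUnit_of_isUnit_add (a := algebraMap W B x - y) (b := -(algebraMap W B x - σ y))
      (by convert hu using 1; ring) with h3 | h3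
    · have h4 := sub_eq_zero.1 (h3.mul_right_eq_zero.1 h1)
      have h5 := congrArg σ h4
      rw [σ.commutes, hσ] at h5
      rw [← h4, h5]
    · have h4 := sub_eq_zero.1 ((IsUnit.neg_iff _).1 h3 |>.mul_left_eq_zero.1 h1)
      have h5 := congrArg σ h4
      rw [σ.commutes] at h5
      rw [← h5, h4]
  exact h0 (by rw [hne, sub_self]; exact zero_mem _)

/-- The square root hypothesis over the fixed ring gives square roots in its strict henselizations. -/
theorem exists_sqrt_hens {S : Type u} [CommRing S]
    (hsq : ∀ (S₁ : Type u) [CommRing S₁] [Algebra S S₁] [Algebra.Etale S S₁] (x : S₁ˣ),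
      ∃ (S₂ : Type u) (_ : CommRing S₂) (_ : Algebra S₁ S₂) (_ : Algebra.Etale S₁ S₂)
        (_ : Module.FaithfullyFlat S₁ S₂) (y : S₂), y * y = algebraMap S₁ S₂ ↑x)
    (Ω : Type u) [Field Ω] [Algebra S Ω] [SHLR (Hens S Ω)] (x : Hens S Ω) (hx : IsUnit x) : ∃ y, y * y = x := by
  obtain ⟨xu, rfl⟩ := hx
  obtain ⟨St, y, hy⟩ := exists_stage (R := S) (Ω := Ω) fun b : Bool => if b then (xu : Hens S Ω) else ↑xu⁻¹
  obtain ⟨T₁, g, hg⟩ := Groth.Sga3.HensPoint.exists_kill St (fun _ : Unit => y true * y false - 1) fun _ => by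
    rw [map_sub, map_mul, hy, hy, map_one]
    simp
  have h1 : g.f (y true) * g.f (y false) = 1 := by
    have := hg ()
    rwa [map_sub, map_mul, map_one, sub_eq_zero] at this
  obtain ⟨S₂, i1, i2, i3, i4, r, hr⟩ := hsq T₁.E ⟨g.f (y true), g.f (y false), h1, (mul_comm _ _).trans h1⟩
  letI : Algebra T₁.E (Hens S Ω) := T₁.h.toRingHom.toAlgebra
  obtain ⟨τ⟩ := exists_section' (Hens S Ω) (Hens S Ω ⊗[T₁.E] S₂)
  refine ⟨τ (1 ⊗ₜ r), ?_⟩
  rw [← map_mul, Algebra.TensorProduct.tmul_mul_tmul, one_mul, hr]
  have h2 : ((1 : Hens S Ω) ⊗ₜ[T₁.E] algebraMap T₁.E S₂ (g.f (y true)) : Hens S Ω ⊗[T₁.E] S₂) =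
      algebraMap (Hens S Ω) _ (T₁.h (g.f (y true))) := by
    rw [Algebra.TensorProduct.algebraMap_apply, Algebra.algebraMap_eq_smul_one, ← TensorProduct.smul_tmul,
      Algebra.smul_def, mul_one]
    rfl
  refine (congrArg τ h2).trans ((τ.commutes _).trans ?_)
  rw [Algebra.algebraMap_self_apply, ← AlgHom.comp_apply, g.comm, hy]
  rfl

end Groth.Misc12.AzI
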