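import Groth.Agent.Misc12.AzI.Split
import Groth.Agent.Misc12.AzI.Class
import Groth.Agent.Misc12.AzI.Sqrt
import Mathlib.LinearAlgebra.Matrix.Unique
import Mathlib.RingTheory.Unramified.Field
import Mathlib.RingTheory.Artinian.Ring

/-!
An algebra with involution over the strict henselization of the fixed ring, compared with matrix algebras.
-/

set_option autoImplicit false
set_option linter.unusedSectionVars false
set_option linter.style.haveILetI false

universe u v w w'

open TensorProduct IsLocalRing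
open Groth.Hensel1 Groth.Sga3.HensPoint

noncomputable section

namespace Groth.Misc12.AzI

variable {S : Type u} [CommRing S] {R : Type v} [CommRing R] [Algebra S R] {lam : R ≃ₐ[S] R}
variable (T : Type u) [CommRing T] [Algebra S T]
variable {A : Type w} [Ring A] [Algebra S A] [Algebra R A] [IsScalarTower S R A]
variable {A' : Type w'} [Ring A'] [Algebra S A'] [Algebra R A'] [IsScalarTower S R A']

/-- The involution of `T ⊗ R` as a ring automorphism. -/
abbrev σT (lam : R ≃ₐ[S] R) : T ⊗[S] R ≃+* T ⊗[S] R := (lamT lam T).toRingEquiv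

theorem σT_invol (hlam : ∀ r, lam (lam r) = r) (z : T ⊗[S] R) : σT T lam (σT T lam z) = z := lamT_lamT lam T hlam z

theorem sc_eq (r : R) : sc A T r = algebraMap (T ⊗[S] R) (T ⊗[S] A) ((1 : T) ⊗ₜ[S] r) := rfl

/-- The base change of an involution. -/
def bcInv (t : AzInv.LamInv R A lam) : AzInv.LamInv (T ⊗[S] R) (T ⊗[S] A) (σT T lam) where
  toFun x := t.bc S lam T x
  map_add' a b := map_add _ _ _
  map_mul' a b := by
    induction a using TensorProduct.induction_on with
    | zero => simp
    | add x y hx hy => simp only [add_mul, mul_add, map_add, hx, hy]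
    | tmul p x =>
      induction b using TensorProduct.induction_on with
      | zero => simp
      | add y z hy hz => simp only [add_mul, mul_add, map_add, hy, hz]
      | tmul q y =>
        rw [Algebra.TensorProduct.tmul_mul_tmul, AzInv.LamInv.bc_tmul, AzInv.LamInv.bc_tmul, AzInv.LamInv.bc_tmul,
          Algebra.TensorProduct.tmul_mul_tmul, t.map_mul, mul_comm p q]
  map_smul' r a := by
    rw [Algebra.smul_def, Algebra.smul_def, taAlgebra_map, taAlgebra_map]
    induction r using TensorProduct.induction_on with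
    | zero => simp
    | add x y hx hy => simp only [map_add, add_mul, hx, hy]
    | tmul p r =>
      induction a using TensorProduct.induction_on with
      | zero => simp
      | add y z hy hz => simp only [mul_add, map_add, hy, hz]
      | tmul q y =>
        change t.bc S lam T ((p ⊗ₜ[S] algebraMap R A r) * (q ⊗ₜ[S] y)) = (p ⊗ₜ[S] algebraMap R A (lam r)) * _
        rw [Algebra.TensorProduct.tmul_mul_tmul, AzInv.LamInv.bc_tmul, AzInv.LamInv.bc_tmul,
          Algebra.TensorProduct.tmul_mul_tmul, ← Algebra.smul_def, t.map_smul, Algebra.smul_def]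
  invol' a := by
    induction a using TensorProduct.induction_on with
    | zero => simp
    | add x y hx hy => rw [map_add, map_add, hx, hy]
    | tmul p x => simp

theorem bcInv_apply (t : AzInv.LamInv R A lam) (x : T ⊗[S] A) : bcInv T t x = t.bc S lam T x := rfl

theorem bcInv_tmul (t : AzInv.LamInv R A lam) (p : T) (x : A) : bcInv T t (p ⊗ₜ[S] x) = p ⊗ₜ[S] t x := by
  rw [bcInv_apply, AzInv.LamInv.bc_tmul]

variable (A A') in
/-- `T`-algebra isomorphisms compatible with `R` are `T ⊗ R`-algebra isomorphisms. -/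
def ofCompat (f : T ⊗[S] A ≃ₐ[T] T ⊗[S] A')
    (hf : ∀ (r : R) (x : T ⊗[S] A), f (sc A T r * x) = sc A' T r * f x) : T ⊗[S] A ≃ₐ[T ⊗[S] R] T ⊗[S] A' :=
  AlgEquiv.ofRingEquiv (f := f.toRingEquiv) fun c => by
    rw [taAlgebra_map, taAlgebra_map]
    induction c using TensorProduct.induction_on with
    | zero => simp
    | add a b ha hb => simp only [map_add, ha, hb]
    | tmul t r =>
      change f (t ⊗ₜ[S] algebraMap R A r) = t ⊗ₜ[S] algebraMap R A' r
      have h1 := hf r 1
      rw [mul_one, map_one, mul_one] at h1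
      rw [show (t ⊗ₜ[S] algebraMap R A r : T ⊗[S] A) = t • sc A T r by simp [TensorProduct.smul_tmul'], map_smul, h1]
      simp [TensorProduct.smul_tmul']

theorem isoAt_of_invIso {t : AzInv.LamInv R A lam} {t' : AzInv.LamInv R A' lam}
    (h : InvIso (bcInv T t) (bcInv T t')) : IsoAt (R := R) A A' (t.linS S lam) (t'.linS S lam) T := by
  obtain ⟨F, hF⟩ := h
  refine ⟨F.restrictScalars T, fun r x => ?_, fun x => hF x⟩
  change F (sc A T r * x) = sc A' T r * F x
  rw [map_mul, sc_eq, sc_eq, F.commutes]

theorem invIso_of_isoAt {t : AzInv.LamInv R A lam} {t' : AzInv.LamInv R A' lam}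
    (h : IsoAt (R := R) A A' (t.linS S lam) (t'.linS S lam) T) : InvIso (bcInv T t) (bcInv T t') := by
  obtain ⟨f, hf, hτ⟩ := h
  exact ⟨ofCompat T A A' f hf, hτ⟩

theorem moveHom {E : Type u} [CommRing E] [Algebra S E] (g : E →ₐ[S] T) {P : Type w} [Ring P] [Algebra S P]
    {Q : Type w'} [Ring Q] [Algebra S Q] (φ : E ⊗[S] P →ₐ[E] E ⊗[S] Q) :
    ∃ F : T ⊗[S] P →ₐ[T] T ⊗[S] Q, ∀ z, F (mv P g z) = mv Q g (φ z) := by
  let φ₀ : P →ₐ[S] T ⊗[S] Q :=
    ((mv Q g).comp (φ.restrictScalars S)).comp (Algebra.TensorProduct.includeRight : P →ₐ[S] E ⊗[S] P)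
  refine ⟨Algebra.TensorProduct.lift (Algebra.ofId T _) φ₀ fun t _ => Algebra.commutes t _, fun z => ?_⟩
  induction z using TensorProduct.induction_on with
  | zero => simp
  | add x y hx hy => simp only [map_add, hx, hy]
  | tmul e a =>
    change Algebra.TensorProduct.lift _ _ _ (g e ⊗ₜ[S] a) = _
    rw [Algebra.TensorProduct.lift_tmul, show (e ⊗ₜ[S] a : E ⊗[S] P) = algebraMap E _ e * ((1 : E) ⊗ₜ[S] a) by simp,
      map_mul, map_mul, AlgHom.commutes]
    congr 1

theorem move_eq_id {E : Type u} [CommRing E] [Algebra S E] (g : E →ₐ[S] T) {P : Type w} [Ring P] [Algebra S P]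
    (H : T ⊗[S] P →ₐ[T] T ⊗[S] P) (hH : ∀ z : E ⊗[S] P, H (mv P g z) = mv P g z) : H = AlgHom.id T _ := by
  refine Algebra.TensorProduct.ext (Subsingleton.elim _ _) (AlgHom.ext fun a => ?_)
  simpa [mv] using hH ((1 : E) ⊗ₜ[S] a)

/-- Isomorphisms move along maps of base algebras. -/
theorem IsoAt.map {τ : A →ₗ[S] A} {τ' : A' →ₗ[S] A'} {E : Type u} [CommRing E] [Algebra S E] (g : E →ₐ[S] T)
    (h : IsoAt (R := R) A A' τ τ' E) : IsoAt (R := R) A A' τ τ' T := by
  obtain ⟨f, hfR, hfτ⟩ := h
  obtain ⟨F, hF⟩ := moveHom T g f.toAlgHom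
  obtain ⟨G, hG⟩ := moveHom T g f.symm.toAlgHom
  let F' : T ⊗[S] A ≃ₐ[T] T ⊗[S] A' := AlgEquiv.ofAlgHom F G
    (move_eq_id T g _ fun z => by
      rw [AlgHom.comp_apply, hG, hF]; exact congrArg (mv A' g) (f.apply_symm_apply z))
    (move_eq_id T g _ fun z => by
      rw [AlgHom.comp_apply, hF, hG]; exact congrArg (mv A g) (f.symm_apply_apply z))
  have hdense : ∀ x : T ⊗[S] A, x ∈ Submodule.span T (Set.range (mv A g)) := fun x => by
    induction x using TensorProduct.induction_on with
    | zero => exact zero_mem _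
    | add x y hx hy => exact add_mem hx hy
    | tmul t a =>
      rw [show (t ⊗ₜ[S] a : T ⊗[S] A) = t • mv A g ((1 : E) ⊗ₜ[S] a) by simp [mv, TensorProduct.smul_tmul']]
      exact Submodule.smul_mem _ _ (Submodule.subset_span ⟨_, rfl⟩)
  refine ⟨F', fun r x => ?_, fun x => ?_⟩
  · change F (sc A T r * x) = sc A' T r * F x
    rw [map_mul, ← mv_sc A g, hF, ← mv_sc A' g]
    congr 2
    have := hfR r 1
    rwa [mul_one, map_one, mul_one] at this
  · change F (τ.baseChange T x) = τ'.baseChange T (F x)
    induction hdense x using Submodule.span_induction with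
    | mem x hx =>
      obtain ⟨z, rfl⟩ := hx
      rw [← mv_baseChange, hF, hF, ← mv_baseChange]
      exact congrArg (mv A' g) (hfτ z)
    | zero => simp
    | add x y _ _ hx hy => simp only [map_add, hx, hy]
    | smul c x _ hx => simp only [map_smul, hx]

/-! ### Matrices -/

variable (A)

/-- `T ⊗ M_m(A) → M_m(T ⊗ A)`. -/
def amHom (m : ℕ) : T ⊗[S] Matrix (Fin m) (Fin m) A →ₐ[T] Matrix (Fin m) (Fin m) (T ⊗[S] A) :=
  Algebra.TensorProduct.lift (Algebra.ofId T _)
    (Algebra.TensorProduct.includeRight : A →ₐ[S] T ⊗[S] A).mapMatrix fun t _ => Algebra.commutes t _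

theorem amHom_tmul (m : ℕ) (t : T) (M : Matrix (Fin m) (Fin m) A) (i j : Fin m) :
    amHom T A m (t ⊗ₜ[S] M) i j = t ⊗ₜ[S] M i j := by
  simp [amHom, Matrix.algebraMap_eq_diagonal, Matrix.diagonal_mul, Algebra.TensorProduct.algebraMap_apply]

/-- `T ⊗ M_m(A) ≅ M_m(T ⊗ A)` over `T ⊗ R`. -/
def amEquiv (m : ℕ) : T ⊗[S] Matrix (Fin m) (Fin m) A ≃ₐ[T ⊗[S] R] Matrix (Fin m) (Fin m) (T ⊗[S] A) :=
  AlgEquiv.ofRingEquiv (f := (AlgEquiv.ofBijective (amHom T A m) (by
    let g : Matrix (Fin m) (Fin m) (T ⊗[S] A) → T ⊗[S] Matrix (Fin m) (Fin m) A := fun N =>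
      ∑ i, ∑ j, (Matrix.singleLinearMap (α := A) S i j).lTensor T (N i j)
    have hg0 : g 0 = 0 := by simp [g]
    have hgadd : ∀ a b, g (a + b) = g a + g b := fun a b => by simp [g, Finset.sum_add_distrib]
    have hsingle : ∀ (i j : Fin m) (z : T ⊗[S] A),
        amHom T A m ((Matrix.singleLinearMap (α := A) S i j).lTensor T z) = Matrix.single i j z := by
      intro i j z
      induction z using TensorProduct.induction_on with
      | zero => simp
      | add a b ha hb => rw [map_add, map_add, ha, hb, Matrix.single_add]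
      | tmul t r =>
        ext k l
        rw [LinearMap.lTensor_tmul, amHom_tmul, show Matrix.singleLinearMap (α := A) S i j r = Matrix.single i j r from rfl,
          Matrix.single_apply, Matrix.single_apply]
        split_ifs <;> simp
    refine Function.bijective_iff_has_inverse.2 ⟨g, fun x => ?_, fun N => ?_⟩
    · induction x using TensorProduct.induction_on with
      | zero => rw [map_zero, hg0]
      | add a b ha hb => rw [map_add, hgadd, ha, hb]
      | tmul t M =>
        simp only [g, amHom_tmul, LinearMap.lTensor_tmul, ← TensorProduct.tmul_sum]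
        exact congrArg (t ⊗ₜ[S] ·) (Matrix.matrix_eq_sum_single M).symm
    · simp only [g, map_sum, hsingle]
      exact (Matrix.matrix_eq_sum_single N).symm)).toRingEquiv) fun c => by
    rw [taAlgebra_map]
    induction c using TensorProduct.induction_on with
    | zero => simp
    | add a b ha hb => simp only [map_add, ha, hb]
    | tmul t r =>
      ext i j
      change amHom T A m (t ⊗ₜ[S] algebraMap R (Matrix (Fin m) (Fin m) A) r) i j = _
      rw [amHom_tmul, Matrix.algebraMap_matrix_apply, Matrix.algebraMap_matrix_apply]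
      split_ifs
      · rfl
      · exact TensorProduct.tmul_zero _ _

variable {A}

theorem amEquiv_tmul (m : ℕ) (t : T) (M : Matrix (Fin m) (Fin m) A) (i j : Fin m) :
    amEquiv (R := R) T A m (t ⊗ₜ[S] M) i j = t ⊗ₜ[S] M i j := amHom_tmul T A m t M i j

theorem bc_matrix (t : AzInv.LamInv R A lam) (m : ℕ) :
    InvIso (bcInv T (t.matrix (Fin m))) ((bcInv T t).matrix (Fin m)) := by
  refine ⟨amEquiv T A m, fun x => ?_⟩
  induction x using TensorProduct.induction_on with
  | zero => rw [(bcInv T (t.matrix (Fin m))).map_zero, map_zero, AzInv.LamInv.map_zero]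
  | add a b ha hb => rw [AzInv.LamInv.map_add, map_add, map_add, AzInv.LamInv.map_add, ha, hb]
  | tmul p M =>
    ext i j
    rw [bcInv_tmul, amEquiv_tmul, AzInv.LamInv.matrix_apply, AzInv.LamInv.matrix_apply, amEquiv_tmul, bcInv_tmul]

theorem bc_transpose (hlam : ∀ r, lam (lam r) = r) (n : ℕ) :
    InvIso (bcInv T (AzInv.LamInv.transpose lam (Fin n) hlam))
      (AzInv.LamInv.transpose (σT T lam) (Fin n) (σT_invol T hlam)) := by
  let ξ : T ⊗[S] Matrix (Fin n) (Fin n) R ≃ₐ[T ⊗[S] R] Matrix (Fin n) (Fin n) (T ⊗[S] R) :=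
    AlgEquiv.ofRingEquiv (f := (tmEquiv (S := S) (R := R) T n).toRingEquiv) fun c => by
      induction c using TensorProduct.induction_on with
      | zero => simp
      | add a b ha hb => rw [map_add, map_add, ha, hb, map_add]
      | tmul t r =>
        ext i j
        rw [taAlgebra_map, taHom_tmul]
        change tmEquiv (S := S) (R := R) T n (t ⊗ₜ[S] algebraMap R (Matrix (Fin n) (Fin n) R) r) i j = _
        rw [tmEquiv_tmul, Matrix.algebraMap_matrix_apply, Matrix.algebraMap_matrix_apply]
        split_ifs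
        · rfl
        · exact TensorProduct.tmul_zero _ _
  have hξ : ∀ (p : T) (M : Matrix (Fin n) (Fin n) R) i j, ξ (p ⊗ₜ[S] M) i j = p ⊗ₜ[S] M i j :=
    tmEquiv_tmul T n
  refine ⟨ξ, fun x => ?_⟩
  induction x using TensorProduct.induction_on with
  | zero => rw [AzInv.LamInv.map_zero, map_zero, AzInv.LamInv.map_zero]
  | add a b ha hb => rw [AzInv.LamInv.map_add, map_add, map_add, AzInv.LamInv.map_add, ha, hb]
  | tmul p M =>
    ext i j
    rw [bcInv_tmul, hξ, AzInv.LamInv.transpose_apply, AzInv.LamInv.transpose_apply, hξ]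
    rfl

theorem InvIso.matrix {B : Type u} [CommRing B] {lamB : B → B} {C : Type v} [Ring C] [Algebra B C] {C' : Type w} [Ring C']
    [Algebra B C'] {c : AzInv.LamInv B C lamB} {c' : AzInv.LamInv B C' lamB} (h : InvIso c c') (m : ℕ) :
    InvIso (c.matrix (Fin m)) (c'.matrix (Fin m)) := by
  obtain ⟨F, hF⟩ := h
  exact ⟨F.mapMatrix, fun M => Matrix.ext fun i j => by simpa using hF (M j i)⟩

theorem invIso_matrix_one (c : AzInv.LamInv R A lam) : InvIso (c.matrix (Fin 1)) c :=
  ⟨{ toFun := fun M => M 0 0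
     invFun := fun a => Matrix.scalar (Fin 1) a
     left_inv := fun M => Matrix.ext fun i j => by simp [Subsingleton.elim i 0, Subsingleton.elim j 0]
     right_inv := fun a => by simp
     map_mul' := fun M N => by simp [Matrix.mul_apply]
     map_add' := fun M N => rfl
     commutes' := fun r => by simp [Matrix.algebraMap_matrix_apply] }, fun M => rfl⟩

theorem self_matrix (hlam : ∀ r, lam (lam r) = r) (n : ℕ) :
    (AzInv.LamInv.self lam hlam).matrix (Fin n) = AzInv.LamInv.transpose lam (Fin n) hlam := rfl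

/-- A quadratic étale algebra does not stay local over a strictly henselian ring. -/
theorem not_isLocalRing_of_quadEtale [SHLR T] (hq : RInv.IsQuadEtale S R) : ¬ IsLocalRing (T ⊗[S] R) := by
  intro hloc
  obtain ⟨hfin, hproj, hunr, hrk⟩ := hq
  haveI : Module.Free T (T ⊗[S] R) := Module.free_of_flat_of_isLocalRing
  have h1 : Module.finrank T (T ⊗[S] R) = 2 := by
    have := Module.rankAtStalk_baseChange (R := S) (M := R) (S := T) (closedPoint T)
    rw [hrk, Module.rankAtStalk_eq_finrank_of_free] at this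
    exact this
  let k := ResidueField T
  let Q := k ⊗[T] (T ⊗[S] R)
  have h2 : Module.finrank k Q = 2 := by rw [Module.finrank_baseChange, h1]
  haveI : Nontrivial Q := Module.nontrivial_of_finrank_eq_succ h2
  haveI : IsLocalRing Q := IsLocalRing.of_surjective' (Algebra.TensorProduct.includeRight : T ⊗[S] R →ₐ[T] Q).toRingHom
    (fun z => by
      induction z using TensorProduct.induction_on with
      | zero => exact ⟨0, map_zero _⟩
      | add x y hx hy => obtain ⟨a, rfl⟩ := hx; obtain ⟨b, rfl⟩ := hy; exact ⟨a + b, map_add _ _ _⟩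
      | tmul c x =>
        obtain ⟨c, rfl⟩ := residue_surjective c
        refine ⟨c • x, ?_⟩
        change (1 : k) ⊗ₜ[T] (c • x) = _
        rw [← TensorProduct.smul_tmul, Algebra.smul_def, mul_one]
        rfl)
  haveI : Algebra.FormallyUnramified T (T ⊗[S] R) := inferInstance
  haveI : Algebra.FormallyUnramified k (k ⊗[T] (T ⊗[S] R)) := Algebra.FormallyUnramified.base_change (R := T) (A := T ⊗[S] R) k
  haveI : IsReduced Q := Algebra.FormallyUnramified.isReduced_of_field k Q
  haveI : IsArtinianRing Q := IsArtinianRing.of_finite k Q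
  have hbot : maximalIdeal Q = ⊥ :=
    IsLocalRing.isField_iff_maximalIdeal_eq.1 (IsArtinianRing.isField_of_isReduced_of_isLocalRing Q)
  letI iA : Algebra k (Q ⧸ maximalIdeal Q) := Ideal.Quotient.algebra k
  letI := Ideal.Quotient.field (maximalIdeal Q)
  haveI : Algebra.FormallyUnramified k (Q ⧸ maximalIdeal Q) := Algebra.FormallyUnramified.comp k Q _
  haveI : Algebra.IsSeparable k (Q ⧸ maximalIdeal Q) := Algebra.FormallyUnramified.isSeparable k _
  have hb1 : Function.Bijective (algebraMap k (Q ⧸ maximalIdeal Q)) :=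
    ⟨RingHom.injective _, IsSepClosed.algebraMap_surjective k _⟩
  have hb2 : Function.Bijective (Ideal.Quotient.mkₐ k (maximalIdeal Q)) :=
    ⟨(RingHom.injective_iff_ker_eq_bot _).2 (Ideal.mk_ker.trans hbot), Ideal.Quotient.mk_surjective⟩
  have h3 : Module.finrank k Q = 1 :=
    ((LinearEquiv.ofBijective (Ideal.Quotient.mkₐ k (maximalIdeal Q)).toLinearMap hb2).finrank_eq.trans
      (LinearEquiv.ofBijective (Algebra.linearMap k (Q ⧸ maximalIdeal Q)) hb1).finrank_eq.symm).trans (Module.finrank_self k)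
  omega

end Groth.Misc12.AzI
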