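import Groth.Agent.Misc12.AzI.Local
import Groth.Agent.Misc1.Azumaya.InnerLocal
import Mathlib.Algebra.Azumaya.Basic

/-!
Azumaya algebras over a ring with involution whose fixed ring is strictly henselian: they split and their
automorphisms are inner.
-/

set_option autoImplicit false
set_option linter.unusedSectionVars false
set_option linter.style.haveILetI false

universe u v w

open TensorProduct IsLocalRing

noncomputable section

namespace Groth.Misc12.AzI

theorem isAzumayaDeg_baseChange (R : Type u) [CommRing R] (A : Type w) [Ring A] [Algebra R A] (n : ℕ)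
    (hA : AzInv.IsAzumayaDeg R A n) (R' : Type v) [CommRing R'] [Algebra R R'] :
    AzInv.IsAzumayaDeg R' (R' ⊗[R] A) n := by
  haveI := hA.1
  exact ⟨Groth.Azum.baseChange R A R', fun p => by rw [Module.rankAtStalk_baseChange]; exact hA.2 _⟩

theorem isAzumayaDeg_of_algEquiv {R : Type u} [CommRing R] {A : Type v} [Ring A] [Algebra R A] {A' : Type w} [Ring A']
    [Algebra R A'] (e : A ≃ₐ[R] A') (n : ℕ) (hA : AzInv.IsAzumayaDeg R A n) : AzInv.IsAzumayaDeg R A' n := by
  haveI := hA.1
  exact ⟨IsAzumaya.of_AlgEquiv R A A' e, fun p => by rw [← Module.rankAtStalk_eq_of_equiv e.toLinearEquiv]; exact hA.2 p⟩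

theorem split_shlr_aux (B : Type v) [CommRing B] [SHLR B] (C : Type w) [Ring C] [Algebra B C] (n : ℕ)
    (hC : AzInv.IsAzumayaDeg B C n) (B' : Type (max v w)) [CommRing B'] (ρ : B' ≃+* B) :
    Nonempty (C ≃ₐ[B] Matrix (Fin n) (Fin n) B) := by
  letI : Algebra B B' := ρ.symm.toRingHom.toAlgebra
  letI : Algebra B' B := ρ.toRingHom.toAlgebra
  haveI : IsScalarTower B B' B := IsScalarTower.of_algebraMap_eq fun x => (ρ.apply_symm_apply x).symm
  haveI : SHLR B' := shlr_of_ringEquiv ρ.symm
  obtain ⟨ψ⟩ := split_shlr B' (B' ⊗[B] C) n (isAzumayaDeg_baseChange B C n hC B')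
  refine ⟨(Algebra.TensorProduct.lid B C).symm.trans
    (((Groth.Azum.cancelEquiv B C B' B).symm.trans
      ((Algebra.TensorProduct.congr (AlgEquiv.refl : B ≃ₐ[B] B) ψ).trans
        ((matrixEquivTensor (Fin n) B' B).symm.restrictScalars B))))⟩

/-- Splitting over a strictly henselian local ring, any universes. -/
theorem split_shlr' (B : Type v) [CommRing B] [SHLR B] (C : Type w) [Ring C] [Algebra B C] (n : ℕ)
    (hC : AzInv.IsAzumayaDeg B C n) : Nonempty (C ≃ₐ[B] Matrix (Fin n) (Fin n) B) :=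
  split_shlr_aux B C n hC (ULift.{w} B) ULift.ringEquiv

/-- The trichotomy at work: either `B` is strictly henselian, or it is split. -/
theorem shlr_or_split {W : Type u} [CommRing W] [SHLR W] {B : Type v} [CommRing B] [Algebra W B]
    (σ : B ≃ₐ[W] B) (hσ : ∀ b, σ (σ b) = b) (hinj : Function.Injective (algebraMap W B))
    (hfix : ∀ b, σ b = b → b ∈ Set.range (algebraMap W B)) :
    SHLR B ∨ ∃ (e : B) (π : B →ₐ[W] W), IsIdempotentElem e ∧ σ e = 1 - e ∧ π e = 1 ∧
      ∀ b, algebraMap W B (π b) * e = b * e := by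
  haveI : Nontrivial B := hinj.nontrivial
  rcases local_or_idempotent σ hσ hinj hfix with hloc | ⟨e, he, hσe⟩
  · left
    haveI : Algebra.IsIntegral W B := ⟨fun y => by
      obtain ⟨s, hs⟩ := hfix (y + σ y) (by rw [map_add, hσ, add_comm])
      obtain ⟨p, hp⟩ := hfix (y * σ y) (by rw [map_mul, hσ, mul_comm])
      refine ⟨Polynomial.X ^ 2 + (Polynomial.C (-s) * Polynomial.X + Polynomial.C p), by monicity!, ?_⟩
      simp only [Polynomial.eval₂_add, Polynomial.eval₂_pow, Polynomial.eval₂_X, Polynomial.eval₂_mul, Polynomial.eval₂_C]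
      simp only [map_neg, hs, hp]
      ring⟩
    let W' := ULift.{v} W
    let B' := ULift.{u} B
    letI : Algebra W' B' :=
      ((ULift.ringEquiv.symm.toRingHom : B →+* B').comp ((algebraMap W B).comp ULift.ringEquiv.toRingHom)).toAlgebra
    haveI : Algebra.IsIntegral W' B' := ⟨fun y => by
      obtain ⟨p, hp, hp0⟩ := Algebra.IsIntegral.isIntegral (R := W) y.down
      refine ⟨p.map (ULift.ringEquiv.symm.toRingHom : W →+* W'), hp.map _, ?_⟩
      rw [Polynomial.eval₂_map]
      have h := congrArg (ULift.ringEquiv.symm.toRingHom : B →+* B') hp0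
      rw [Polynomial.hom_eval₂, map_zero] at h
      exact h⟩
    haveI : SHLR W' := shlr_of_ringEquiv (ULift.ringEquiv : ULift.{v} W ≃+* W).symm
    haveI : IsLocalRing B' := (ULift.ringEquiv : ULift.{u} B ≃+* B).symm.isLocalRing
    haveI := shlr_of_isIntegral W' B'
    exact shlr_of_ringEquiv (ULift.ringEquiv : ULift.{u} B ≃+* B)
  · right
    have hee : e * e = e := he
    have key : ∀ b, ∃ w, algebraMap W B w = b * e + σ (b * e) := fun b => hfix _ (by rw [map_add, hσ, add_comm])
    have hmul : ∀ b, (b * e + σ (b * e)) * e = b * e := fun b => by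
      rw [map_mul, hσe]
      linear_combination (b - σ b) * hee
    have uniq : ∀ w : W, algebraMap W B w * e = 0 → w = 0 := fun w hw => by
      refine hinj ?_
      have h2 := congrArg σ hw
      rw [map_mul, σ.commutes, hσe, map_zero] at h2
      rw [map_zero]
      linear_combination hw + h2
    choose w hw using key
    have hwe : ∀ b, algebraMap W B (w b) * e = b * e := fun b => by rw [hw, hmul]
    have cancel : ∀ x y : W, algebraMap W B x * e = algebraMap W B y * e → x = y := fun x y h =>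
      sub_eq_zero.1 (uniq _ (by rw [map_sub, sub_mul, h, sub_self]))
    refine ⟨e, { toFun := w
                 map_one' := cancel _ _ (by rw [hwe, map_one])
                 map_mul' := fun x y => cancel _ _ (by
                   rw [hwe, map_mul]
                   linear_combination -y * hwe x - algebraMap W B (w x) * hwe y)
                 map_zero' := cancel _ _ (by rw [hwe, map_zero])
                 map_add' := fun x y => cancel _ _ (by rw [hwe, map_add]; linear_combination -hwe x - hwe y)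
                 commutes' := fun r => cancel _ _ (hwe _) }, he, hσe,
      cancel _ _ ((hwe e).trans (by rw [map_one, one_mul, hee])), hwe⟩

section Split

variable {W : Type u} [CommRing W] {B : Type v} [CommRing B] [Algebra W B] {σ : B ≃ₐ[W] B}
variable (e : B) (π : B →ₐ[W] W) (hσe : σ e = 1 - e) (hπe : π e = 1)
variable (hπ : ∀ b, algebraMap W B (π b) * e = b * e)

/-- The element with prescribed components. -/
def glue (x y : W) : B := algebraMap W B x * e + algebraMap W B y * (1 - e)

include hσe hπe hπ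

theorem glue_components (b : B) (hσ : ∀ b, σ (σ b) = b) : glue e (π b) (π (σ b)) = b := by
  have h2 : algebraMap W B (π (σ b)) * (1 - e) = b * (1 - e) := by
    have := congrArg σ (hπ (σ b))
    rwa [map_mul, map_mul, hσ, σ.commutes, hσe] at this
  rw [glue, hπ, h2]
  ring

theorem pi_glue (x y : W) : π (glue e x y) = x := by simp [glue, hπe]

theorem pi_sigma_glue (x y : W) : π (σ (glue e x y)) = y := by simp [glue, hπe, hσe]

end Split

/-- Splitting in the split case. -/
theorem split_of_idem {W : Type u} [CommRing W] [SHLR W] {B : Type v} [CommRing B] [Algebra W B]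
    {σ : B ≃ₐ[W] B} (hσ : ∀ b, σ (σ b) = b) (e : B) (π : B →ₐ[W] W) (hσe : σ e = 1 - e) (hπe : π e = 1)
    (hπ : ∀ b, algebraMap W B (π b) * e = b * e) (C : Type w) [Ring C] [Algebra B C] (n : ℕ)
    (hC : AzInv.IsAzumayaDeg B C n) : Nonempty (C ≃ₐ[B] Matrix (Fin n) (Fin n) B) := by
  classical
  -- the two components
  have comp : ∀ (ρ : B →ₐ[W] W) (f : B), (∀ b, algebraMap W B (ρ b) * f = b * f) →
      ∃ η : C →+* Matrix (Fin n) (Fin n) W, (∀ b c, η (b • c) = ρ b • η c) ∧ Function.Surjective η ∧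
        ∀ c, η c = 0 → f • c = 0 := by
    intro ρ f hρ
    letI : Algebra B W := ρ.toRingHom.toAlgebra
    obtain ⟨ψ⟩ := split_shlr' W (W ⊗[B] C) n (isAzumayaDeg_baseChange B C n hC W)
    let inc : C →ₐ[B] W ⊗[B] C := Algebra.TensorProduct.includeRight
    refine ⟨ψ.toRingEquiv.toRingHom.comp inc.toRingHom, fun b c => ?_, ?_, fun c hc => ?_⟩
    · change ψ (inc (b • c)) = ρ b • ψ (inc c)
      rw [map_smul, show (b • inc c : W ⊗[B] C) = algebraMap B W b • inc c from (algebraMap_smul W b (inc c)).symm, map_smul]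
      rfl
    · refine ψ.surjective.comp fun z => ?_
      induction z using TensorProduct.induction_on with
      | zero => exact ⟨0, map_zero _⟩
      | add x y hx hy => obtain ⟨a, rfl⟩ := hx; obtain ⟨b, rfl⟩ := hy; exact ⟨a + b, map_add _ _ _⟩
      | tmul x c =>
        refine ⟨algebraMap W B x • c, ?_⟩
        change (1 : W) ⊗ₜ[B] (algebraMap W B x • c) = x ⊗ₜ[B] c
        rw [← TensorProduct.smul_tmul, Algebra.smul_def, mul_one]
        congr 1
        exact ρ.commutes x
    · let back : W ⊗[B] C →ₗ[B] C := TensorProduct.lift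
        (LinearMap.mk₂ B (fun x c => (algebraMap W B x * f) • c) (fun x y c => by rw [map_add, add_mul, add_smul])
          (fun b x c => by
            rw [smul_smul, show b • x = ρ b * x from Algebra.smul_def b x, map_mul, mul_right_comm, hρ]
            congr 1
            ring)
          (fun x c c' => smul_add _ _ _) (fun b x c => smul_comm _ _ _))
      have h0 : inc c = 0 := ψ.injective (hc.trans (map_zero ψ).symm)
      have h1 := congrArg back h0
      simpa [back, inc] using h1
  obtain ⟨η₁, hη₁, hη₁s, hη₁k⟩ := comp π e hπ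
  obtain ⟨η₂, hη₂, hη₂s, hη₂k⟩ := comp (π.comp σ.toAlgHom) (1 - e) fun b => by
    have := congrArg σ (hπ (σ b))
    rwa [map_mul, map_mul, hσ, σ.commutes, hσe] at this
  have hinjC : ∀ c, η₁ c = 0 → η₂ c = 0 → c = 0 := fun c h1 h2 => by
    rw [← one_smul B c, ← add_sub_cancel e 1, add_smul, hη₁k c h1, hη₂k c h2, add_zero]
  let Ψ₀ : C → Matrix (Fin n) (Fin n) B := fun c => Matrix.of fun i j => glue e (η₁ c i j) (η₂ c i j)
  have hg := glue_components (σ := σ) e π hσe hπe hπ
  have extM : ∀ M M' : Matrix (Fin n) (Fin n) B, M.map π = M'.map π → (M.map σ).map π = (M'.map σ).map π → M = M' := by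
    intro M M' h1 h2
    ext i j
    have h1' : π (M i j) = π (M' i j) := by simpa using congrFun (congrFun h1 i) j
    have h2' : π (σ (M i j)) = π (σ (M' i j)) := by simpa using congrFun (congrFun h2 i) j
    rw [← hg (M i j) hσ, ← hg (M' i j) hσ, h1', h2']
  have hΨ1 : ∀ c, (Ψ₀ c).map π = η₁ c := fun c => by
    ext i j; exact pi_glue (σ := σ) e π hσe hπe hπ _ _
  have hΨ2 : ∀ c, ((Ψ₀ c).map σ).map π = η₂ c := fun c => by
    ext i j; exact pi_sigma_glue (σ := σ) e π hσe hπe hπ _ _
  let Ψ : C →ₐ[B] Matrix (Fin n) (Fin n) B :=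
    { toFun := Ψ₀
      map_one' := extM _ _ (by rw [hΨ1, map_one, Matrix.map_one _ (map_zero π) (map_one π)])
        (by rw [hΨ2, map_one, Matrix.map_one _ (map_zero σ) (map_one σ), Matrix.map_one _ (map_zero π) (map_one π)])
      map_mul' := fun c d => extM _ _ (by rw [Matrix.map_mul, hΨ1, hΨ1, hΨ1, map_mul])
        (by rw [Matrix.map_mul, Matrix.map_mul, hΨ2, hΨ2, hΨ2, map_mul])
      map_zero' := extM _ _ (by rw [hΨ1, map_zero, Matrix.map_zero _ (map_zero π)])
        (by rw [hΨ2, map_zero, Matrix.map_zero _ (map_zero σ), Matrix.map_zero _ (map_zero π)])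
      map_add' := fun c d => extM _ _ (by rw [Matrix.map_add _ (map_add π), hΨ1, hΨ1, hΨ1, map_add])
        (by rw [Matrix.map_add _ (map_add σ), Matrix.map_add _ (map_add π), hΨ2, hΨ2, hΨ2, map_add])
      commutes' := fun b => extM _ _
        (by rw [hΨ1, Algebra.algebraMap_eq_smul_one, Algebra.algebraMap_eq_smul_one, hη₁, map_one,
          Matrix.map_smul' _ _ _ (map_mul π), Matrix.map_one _ (map_zero π) (map_one π)])
        (by rw [hΨ2, Algebra.algebraMap_eq_smul_one, Algebra.algebraMap_eq_smul_one, hη₂, map_one,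
          Matrix.map_smul' _ _ _ (map_mul σ), Matrix.map_smul' _ _ _ (map_mul π),
          Matrix.map_one _ (map_zero σ) (map_one σ), Matrix.map_one _ (map_zero π) (map_one π)]
            <;> rfl) }
  refine ⟨AlgEquiv.ofBijective Ψ ⟨(injective_iff_map_eq_zero Ψ).2 fun c hc => ?_, fun M => ?_⟩⟩
  · replace hc : Ψ₀ c = 0 := hc
    refine hinjC c ?_ ?_
    · rw [← hΨ1, hc, Matrix.map_zero _ (map_zero π)]
    · rw [← hΨ2, hc, Matrix.map_zero _ (map_zero σ), Matrix.map_zero _ (map_zero π)]
  · obtain ⟨c₁, hc₁⟩ := hη₁s (M.map π)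
    obtain ⟨c₂, hc₂⟩ := hη₂s ((M.map σ).map π)
    refine ⟨e • c₁ + (1 - e) • c₂, extM _ _ ?_ ?_⟩
    · change (Ψ₀ _).map π = _
      rw [hΨ1, map_add, hη₁, hη₁, hc₁, hπe, map_sub, map_one, hπe]
      simp
    · change ((Ψ₀ _).map σ).map π = _
      rw [hΨ2, map_add, hη₂, hη₂, hc₂]
      simp [hσe, hπe]

/-- Azumaya algebras split over a ring with involution whose fixed ring is strictly henselian. -/
theorem split_core {W : Type u} [CommRing W] [SHLR W] {B : Type v} [CommRing B] [Algebra W B]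
    (σ : B ≃ₐ[W] B) (hσ : ∀ b, σ (σ b) = b) (hinj : Function.Injective (algebraMap W B))
    (hfix : ∀ b, σ b = b → b ∈ Set.range (algebraMap W B))
    (C : Type w) [Ring C] [Algebra B C] (n : ℕ) (hC : AzInv.IsAzumayaDeg B C n) :
    Nonempty (C ≃ₐ[B] Matrix (Fin n) (Fin n) B) := by
  rcases shlr_or_split σ hσ hinj hfix with h | ⟨e, π, -, hσe, hπe, hπ⟩
  · exact split_shlr' B C n hC
  · exact split_of_idem hσ e π hσe hπe hπ C n hC

/-- Automorphisms of matrix algebras are inner over such rings. -/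
theorem inner_core {W : Type u} [CommRing W] [SHLR W] {B : Type v} [CommRing B] [Algebra W B]
    (σ : B ≃ₐ[W] B) (hσ : ∀ b, σ (σ b) = b) (hinj : Function.Injective (algebraMap W B))
    (hfix : ∀ b, σ b = b → b ∈ Set.range (algebraMap W B)) (n : ℕ)
    (φ : Matrix (Fin n) (Fin n) B ≃ₐ[B] Matrix (Fin n) (Fin n) B) :
    ∃ u : (Matrix (Fin n) (Fin n) B)ˣ, ∀ x, φ x = u * x * (u⁻¹ : (Matrix (Fin n) (Fin n) B)ˣ) := by
  classical
  rcases Nat.eq_zero_or_pos n with rfl | hn
  · exact ⟨1, fun x => Subsingleton.elim _ _⟩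
  haveI : Nonempty (Fin n) := ⟨⟨0, hn⟩⟩
  rcases shlr_or_split σ hσ hinj hfix with h | ⟨e, π, -, hσe, hπe, hπ⟩
  · haveI : IsAzumaya B (Matrix (Fin n) (Fin n) B) := IsAzumaya.matrix B (Fin n)
    exact Groth.Azum.aut_inner _ φ
  · haveI : IsAzumaya W (Matrix (Fin n) (Fin n) W) := IsAzumaya.matrix W (Fin n)
    have hg := glue_components (σ := σ) e π hσe hπe hπ
    let ι : Matrix (Fin n) (Fin n) W →ₐ[W] Matrix (Fin n) (Fin n) B := (Algebra.ofId W B).mapMatrix
    have comp : ∀ (ρ : B →ₐ[W] W) (f : B), ρ f = 1 → (∀ b, algebraMap W B (ρ b) * f = b * f) →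
        ∃ u : (Matrix (Fin n) (Fin n) W)ˣ, ∀ M, ρ.mapMatrix (φ M) = u * ρ.mapMatrix M * (u⁻¹ : (Matrix (Fin n) (Fin n) W)ˣ) := by
      intro ρ f hρf hρ
      have hlin : ∀ (b : B) (M : Matrix (Fin n) (Fin n) B), ρ.mapMatrix (b • M) = ρ b • ρ.mapMatrix M := fun b M => by
        ext i j; simp
      have hfM : ∀ (g : Matrix (Fin n) (Fin n) B ≃ₐ[B] Matrix (Fin n) (Fin n) B) M,
          ρ.mapMatrix (g M) = ρ.mapMatrix (g (ι (ρ.mapMatrix M))) := fun g M => by
        have h : f • M = f • ι (ρ.mapMatrix M) := by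
          ext i j
          simp [ι, mul_comm f, hρ]
        have h' := congrArg (fun X => ρ.mapMatrix (g X)) h
        simpa [hlin, hρf] using h'
      have hρι : ∀ N, ρ.mapMatrix (ι N) = N := fun N => by ext i j; simp [ι]
      let mk : (Matrix (Fin n) (Fin n) B ≃ₐ[B] Matrix (Fin n) (Fin n) B) →
          (Matrix (Fin n) (Fin n) W →ₐ[W] Matrix (Fin n) (Fin n) W) := fun g =>
        ρ.mapMatrix.comp ((g.toAlgHom.restrictScalars W).comp ι)
      have hcomp : ∀ g g' : Matrix (Fin n) (Fin n) B ≃ₐ[B] Matrix (Fin n) (Fin n) B, (∀ x, g (g' x) = x) →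
          (mk g).comp (mk g') = AlgHom.id W _ := fun g g' hgg' => AlgHom.ext fun N => by
        change ρ.mapMatrix (g (ι (ρ.mapMatrix (g' (ι N))))) = N
        rw [← hfM, hgg', hρι]
      obtain ⟨u, hu⟩ := Groth.Azum.aut_inner _ (AlgEquiv.ofAlgHom (mk φ) (mk φ.symm)
        (hcomp _ _ φ.apply_symm_apply) (hcomp _ _ φ.symm_apply_apply))
      exact ⟨u, fun M => (hfM φ M).trans (hu _)⟩
    obtain ⟨u₁, hu₁⟩ := comp π e hπe hπ
    obtain ⟨u₂, hu₂⟩ := comp (π.comp σ.toAlgHom) (1 - e) (by simp [hσe, hπe]) fun b => by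
      have := congrArg σ (hπ (σ b))
      rwa [map_mul, map_mul, hσ, σ.commutes, hσe] at this
    have extM : ∀ M M' : Matrix (Fin n) (Fin n) B, π.mapMatrix M = π.mapMatrix M' →
        (π.comp σ.toAlgHom).mapMatrix M = (π.comp σ.toAlgHom).mapMatrix M' → M = M' := by
      intro M M' h1 h2
      ext i j
      have h1' : π (M i j) = π (M' i j) := by simpa using congrFun (congrFun h1 i) j
      have h2' : π (σ (M i j)) = π (σ (M' i j)) := by simpa using congrFun (congrFun h2 i) j
      rw [← hg (M i j) hσ, ← hg (M' i j) hσ, h1', h2']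
    let G : Matrix (Fin n) (Fin n) W → Matrix (Fin n) (Fin n) W → Matrix (Fin n) (Fin n) B := fun a b =>
      Matrix.of fun i j => glue e (a i j) (b i j)
    have hG1 : ∀ a b, π.mapMatrix (G a b) = a := fun a b => by
      ext i j; exact pi_glue (σ := σ) e π hσe hπe hπ _ _
    have hG2 : ∀ a b, (π.comp σ.toAlgHom).mapMatrix (G a b) = b := fun a b => by
      ext i j; exact pi_sigma_glue (σ := σ) e π hσe hπe hπ _ _
    refine ⟨⟨G u₁ u₂, G ↑u₁⁻¹ ↑u₂⁻¹, extM _ _ ?_ ?_, extM _ _ ?_ ?_⟩, fun x => extM _ _ ?_ ?_⟩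
    · rw [map_mul, hG1, hG1, map_one, Units.mul_inv]
    · rw [map_mul, hG2, hG2, map_one, Units.mul_inv]
    · rw [map_mul, hG1, hG1, map_one, Units.inv_mul]
    · rw [map_mul, hG2, hG2, map_one, Units.inv_mul]
    · change π.mapMatrix (φ x) = π.mapMatrix (G u₁ u₂ * x * G ↑u₁⁻¹ ↑u₂⁻¹)
      rw [map_mul, map_mul, hG1, hG1]; exact hu₁ x
    · change (π.comp σ.toAlgHom).mapMatrix (φ x) = (π.comp σ.toAlgHom).mapMatrix (G u₁ u₂ * x * G ↑u₁⁻¹ ↑u₂⁻¹)
      rw [map_mul, map_mul, hG2, hG2]; exact hu₂ x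

end Groth.Misc12.AzI
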