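import Groth.Agent.Misc12.AzI.Cover
import Mathlib.RingTheory.TensorProduct.Maps
import Mathlib.Algebra.Algebra.Bilinear
import Mathlib.LinearAlgebra.TensorProduct.Tower
import Mathlib.Algebra.Module.Projective

/-!
An isomorphism of algebras with a semilinear map, and a unit, found over every strict henselization descend to a
faithfully flat étale algebra.
-/

set_option autoImplicit false
set_option linter.unusedSectionVars false

universe u v w w'

open TensorProduct
open Groth.Hensel1 Groth.Sga3.HensPoint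

noncomputable section

namespace Groth.Misc12.AzI

variable {S : Type u} [CommRing S] {R : Type v} [CommRing R] [Algebra S R]
variable (A : Type w) [Ring A] [Algebra S A] [Algebra R A] [IsScalarTower S R A]
variable (A' : Type w') [Ring A'] [Algebra S A'] [Algebra R A'] [IsScalarTower S R A']

/-- `1 ⊗ r` in `E ⊗ A`. -/
abbrev sc (E : Type u) [CommRing E] [Algebra S E] (r : R) : E ⊗[S] A := (1 : E) ⊗ₜ[S] algebraMap R A r

theorem sc_commute (E : Type u) [CommRing E] [Algebra S E] (r : R) (x : E ⊗[S] A) : sc A E r * x = x * sc A E r := by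
  induction x using TensorProduct.induction_on with
  | zero => simp
  | tmul e a => rw [Algebra.TensorProduct.tmul_mul_tmul, Algebra.TensorProduct.tmul_mul_tmul, one_mul, mul_one, Algebra.commutes]
  | add x y hx hy => rw [mul_add, add_mul, hx, hy]

/-- The map on `E ⊗ A` induced by a map of base algebras. -/
def mv {E F : Type u} [CommRing E] [CommRing F] [Algebra S E] [Algebra S F] (f : E →ₐ[S] F) :
    E ⊗[S] A →ₐ[S] F ⊗[S] A := Algebra.TensorProduct.map f (AlgHom.id S A)

theorem mv_eq {E F : Type u} [CommRing E] [CommRing F] [Algebra S E] [Algebra S F] (f : E →ₐ[S] F) (z : E ⊗[S] A) :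
    mv A f z = f.toLinearMap.rTensor A z := by
  induction z using TensorProduct.induction_on with
  | zero => simp
  | tmul e a => simp [mv]
  | add x y hx hy => simp only [map_add, hx, hy]

@[simp] theorem mv_sc {E F : Type u} [CommRing E] [CommRing F] [Algebra S E] [Algebra S F] (f : E →ₐ[S] F) (r : R) :
    mv A f (sc A E r) = sc A F r := by
  simp [mv]

theorem mv_baseChange {E F : Type u} [CommRing E] [CommRing F] [Algebra S E] [Algebra S F] (f : E →ₐ[S] F)
    (τ : A →ₗ[S] A') (z : E ⊗[S] A) : mv A' f (τ.baseChange E z) = τ.baseChange F (mv A f z) := by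
  induction z using TensorProduct.induction_on with
  | zero => simp
  | tmul e a => simp [mv]
  | add x y hx hy => simp only [map_add, hx, hy]

theorem exists_kill_alg {Ω : Type u} [Field Ω] [Algebra S Ω] {κ : Type*} [Finite κ] (St : Stage S Ω)
    (z z' : κ → St.E ⊗[S] A) (hz : ∀ k, mv A St.h (z k) = mv A St.h (z' k)) :
    ∃ (T : Stage S Ω) (g : StageHom St T), ∀ k, mv A g.f (z k) = mv A g.f (z' k) := by
  obtain ⟨T, g, hg⟩ := exists_kill St z z' fun k => by rw [← mv_eq, ← mv_eq]; exact hz k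
  exact ⟨T, g, fun k => by rw [mv_eq, mv_eq]; exact hg k⟩

section Lin

variable {k : ℕ} (φ : Fin k → (A →ₗ[R] R))

/-- The linear extension of `a_i ↦ y_i`. -/
def ext (E : Type u) [CommRing E] [Algebra S E] (y : Fin k → E ⊗[S] A') : E ⊗[S] A →ₗ[E] E ⊗[S] A' :=
  LinearMap.liftBaseChange E
    (∑ i, (LinearMap.mulRight S (y i)).comp
      ((Algebra.TensorProduct.includeRight : A' →ₐ[S] E ⊗[S] A').toLinearMap.comp
        (((IsScalarTower.toAlgHom S R A').toLinearMap).comp ((φ i).restrictScalars S))))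

theorem ext_tmul (E : Type u) [CommRing E] [Algebra S E] (y : Fin k → E ⊗[S] A') (e : E) (x : A) :
    ext A A' φ E y (e ⊗ₜ[S] x) = e • ∑ i, sc A' E (φ i x) * y i := by
  simp [ext, LinearMap.sum_apply, Finset.smul_sum]

theorem ext_sc_mul (E : Type u) [CommRing E] [Algebra S E] (y : Fin k → E ⊗[S] A') (r : R) (x : E ⊗[S] A) :
    ext A A' φ E y (sc A E r * x) = sc A' E r * ext A A' φ E y x := by
  induction x using TensorProduct.induction_on with
  | zero => simp
  | add x y hx hy => rw [mul_add, map_add, map_add, mul_add, hx, hy]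
  | tmul e a =>
    rw [Algebra.TensorProduct.tmul_mul_tmul, one_mul, ext_tmul, ext_tmul, mul_smul_comm, Finset.mul_sum]
    congr 1
    refine Finset.sum_congr rfl fun i _ => ?_
    rw [← Algebra.smul_def, map_smul, smul_eq_mul, ← mul_assoc, Algebra.TensorProduct.tmul_mul_tmul, one_mul, ← map_mul]

theorem mv_ext {E F : Type u} [CommRing E] [CommRing F] [Algebra S E] [Algebra S F] (f : E →ₐ[S] F)
    (y : Fin k → E ⊗[S] A') (x : E ⊗[S] A) :
    mv A' f (ext A A' φ E y x) = ext A A' φ F (fun i => mv A' f (y i)) (mv A f x) := by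
  induction x using TensorProduct.induction_on with
  | zero => simp
  | add x y hx hy => simp only [map_add, hx, hy]
  | tmul e a =>
    rw [ext_tmul, show mv A f (e ⊗ₜ[S] a) = f e ⊗ₜ[S] a from rfl, ext_tmul, Algebra.smul_def, Algebra.smul_def,
      map_mul, map_sum]
    simp only [map_mul, mv_sc]
    congr 1

variable {A A'}

theorem eq_ext (E : Type u) [CommRing E] [Algebra S E] (a : Fin k → A) (hdual : ∀ x, ∑ i, φ i x • a i = x)
    (g : E ⊗[S] A →ₗ[E] E ⊗[S] A') (hg : ∀ (r : R) x, g (sc A E r * x) = sc A' E r * g x) :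
    g = ext (R := R) A A' φ E fun i => g ((1 : E) ⊗ₜ[S] a i) := by
  refine LinearMap.ext fun x => ?_
  induction x using TensorProduct.induction_on with
  | zero => simp
  | add x y hx hy => simp only [map_add, hx, hy]
  | tmul e x =>
    rw [ext_tmul]
    conv_lhs => rw [← mul_one e, ← smul_eq_mul, ← TensorProduct.smul_tmul', map_smul, ← hdual x]
    congr 1
    rw [TensorProduct.tmul_sum, map_sum]
    refine Finset.sum_congr rfl fun i _ => ?_
    rw [← hg, Algebra.TensorProduct.tmul_mul_tmul, one_mul, ← Algebra.smul_def]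

/-- Two `E`-linear maps compatible with `R` agree if they agree on generators. -/
theorem eq_of_gens (E : Type u) [CommRing E] [Algebra S E] (a : Fin k → A) (hdual : ∀ x, ∑ i, φ i x • a i = x)
    (g g' : E ⊗[S] A →ₗ[E] E ⊗[S] A') (hg : ∀ (r : R) x, g (sc A E r * x) = sc A' E r * g x)
    (hg' : ∀ (r : R) x, g' (sc A E r * x) = sc A' E r * g' x)
    (h : ∀ i, g ((1 : E) ⊗ₜ[S] a i) = g' ((1 : E) ⊗ₜ[S] a i)) (x : E ⊗[S] A) : g x = g' x := by
  rw [eq_ext φ E a hdual g hg, eq_ext φ E a hdual g' hg']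
  simp only [h]

end Lin

/-- An isomorphism over `E` compatible with `R` and intertwining `τ` and `τ'`. -/
def IsoAt (τ : A →ₗ[S] A) (τ' : A' →ₗ[S] A') (E : Type u) [CommRing E] [Algebra S E] : Prop :=
  ∃ f : E ⊗[S] A ≃ₐ[E] E ⊗[S] A',
    (∀ (r : R) (x : E ⊗[S] A), f (sc A E r * x) = sc A' E r * f x) ∧
      ∀ x : E ⊗[S] A, f (τ.baseChange E x) = τ'.baseChange E (f x)

variable {A A'}

theorem baseChange_sc_mul (E : Type u) [CommRing E] [Algebra S E] (τ : A →ₗ[S] A) (c : R → R)
    (hτ : ∀ (r : R) (x : A), τ (r • x) = c r • τ x) (r : R) (z : E ⊗[S] A) :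
    τ.baseChange E (sc A E r * z) = sc A E (c r) * τ.baseChange E z := by
  induction z using TensorProduct.induction_on with
  | zero => simp
  | add x y hx hy => rw [mul_add, map_add, map_add, mul_add, hx, hy]
  | tmul e a => simp [← Algebra.smul_def, hτ]

/-- Isomorphisms over all strict henselizations give one over an étale covering. -/
theorem exists_isoAt [Module.Finite R A] [Module.Projective R A] [Module.Finite R A'] [Module.Projective R A']
    (τ : A →ₗ[S] A) (τ' : A' →ₗ[S] A') (c : R → R) (hτ : ∀ (r : R) (x : A), τ (r • x) = c r • τ x)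
    (hτ' : ∀ (r : R) (x : A'), τ' (r • x) = c r • τ' x)
    (h : ∀ (p : Ideal S) [p.IsPrime], IsoAt (R := R) A A' τ τ' (Hens S (SeparableClosure p.ResidueField))) :
    ∃ (E : Type u) (_ : CommRing E) (_ : Algebra S E) (_ : Algebra.Etale S E) (_ : Module.FaithfullyFlat S E),
      IsoAt (R := R) A A' τ τ' E := by
  classical
  obtain ⟨k, P, Qc, hP, hPi, hPQ⟩ := Module.Finite.exists_comp_eq_id_of_projective R A
  obtain ⟨k', P', Qc', hP', hPi', hPQ'⟩ := Module.Finite.exists_comp_eq_id_of_projective R A'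
  let a : Fin k → A := fun i => P (Pi.single i 1)
  let φ : Fin k → (A →ₗ[R] R) := fun i => (LinearMap.proj i).comp Qc
  let a' : Fin k' → A' := fun i => P' (Pi.single i 1)
  let φ' : Fin k' → (A' →ₗ[R] R) := fun i => (LinearMap.proj i).comp Qc'
  have hdual : ∀ x, ∑ i, φ i x • a i = x := fun x => by
    conv_rhs => rw [← LinearMap.id_apply (R := R) x, ← hPQ, LinearMap.comp_apply, pi_eq_sum_univ' (Qc x), map_sum]
    refine Finset.sum_congr rfl fun i _ => ?_
    rw [map_smul]
    rfl
  have hdual' : ∀ x, ∑ i, φ' i x • a' i = x := fun x => by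
    conv_rhs => rw [← LinearMap.id_apply (R := R) x, ← hPQ', LinearMap.comp_apply, pi_eq_sum_univ' (Qc' x), map_sum]
    refine Finset.sum_congr rfl fun i _ => ?_
    rw [map_smul]
    rfl
  -- the data
  let Idx := Unit ⊕ (Fin k × Fin k) ⊕ Fin k ⊕ Fin k' ⊕ Fin k
  let lhs : ∀ (E : Type u) [CommRing E] [Algebra S E], (Fin k → E ⊗[S] A') → (Fin k' → E ⊗[S] A) → Idx → E ⊗[S] A' :=
    fun E _ _ y z =>
    Sum.elim (fun _ => ext A A' φ E y 1) (Sum.elim (fun ij => ext A A' φ E y ((1 : E) ⊗ₜ[S] (a ij.1 * a ij.2)))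
      (Sum.elim (fun i => ext A A' φ E y (τ.baseChange E ((1 : E) ⊗ₜ[S] a i)))
        (Sum.elim (fun j => ext A A' φ E y (z j)) fun i => ext A A' φ E y ((1 : E) ⊗ₜ[S] a i))))
  let rhs : ∀ (E : Type u) [CommRing E] [Algebra S E], (Fin k → E ⊗[S] A') → Idx → E ⊗[S] A' :=
    fun E _ _ y =>
    Sum.elim (fun _ => 1) (Sum.elim (fun ij => y ij.1 * y ij.2)
      (Sum.elim (fun i => τ'.baseChange E (y i)) (Sum.elim (fun j => (1 : E) ⊗ₜ[S] a' j) fun i => y i)))
  let lhs' : ∀ (E : Type u) [CommRing E] [Algebra S E], (Fin k → E ⊗[S] A') → (Fin k' → E ⊗[S] A) →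
      Fin k ⊕ Fin k' → E ⊗[S] A := fun E _ _ y z =>
    Sum.elim (fun i => ext A' A φ' E z (y i)) fun j => ext A' A φ' E z ((1 : E) ⊗ₜ[S] a' j)
  let rhs' : ∀ (E : Type u) [CommRing E] [Algebra S E], (Fin k' → E ⊗[S] A) → Fin k ⊕ Fin k' → E ⊗[S] A :=
    fun E _ _ z => Sum.elim (fun i => (1 : E) ⊗ₜ[S] a i) fun j => z j
  let Good : ∀ (E : Type u) [CommRing E] [Algebra S E], (Fin k → E ⊗[S] A') → (Fin k' → E ⊗[S] A) → Prop :=
    fun E _ _ y z => (∀ o, lhs E y z o = rhs E y o) ∧ ∀ o, lhs' E y z o = rhs' E z o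
  have hnat : ∀ {E F : Type u} [CommRing E] [CommRing F] [Algebra S E] [Algebra S F] (f : E →ₐ[S] F)
      (y : Fin k → E ⊗[S] A') (z : Fin k' → E ⊗[S] A),
      (∀ o, mv A' f (lhs E y z o) = lhs F (fun i => mv A' f (y i)) (fun j => mv A f (z j)) o ∧
        mv A' f (rhs E y o) = rhs F (fun i => mv A' f (y i)) o) ∧
      ∀ o, mv A f (lhs' E y z o) = lhs' F (fun i => mv A' f (y i)) (fun j => mv A f (z j)) o ∧
        mv A f (rhs' E z o) = rhs' F (fun j => mv A f (z j)) o := by
    intro E F _ _ _ _ f y z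
    have hone : ∀ x : A, mv A f ((1 : E) ⊗ₜ[S] x) = (1 : F) ⊗ₜ[S] x := fun x => by simp [mv]
    have hone' : ∀ x : A', mv A' f ((1 : E) ⊗ₜ[S] x) = (1 : F) ⊗ₜ[S] x := fun x => by simp [mv]
    refine ⟨?_, ?_⟩
    · rintro (_ | ij | i | j | i) <;>
        simp only [lhs, rhs, Sum.elim_inl, Sum.elim_inr, mv_ext, mv_baseChange, map_one, map_mul, hone, hone', and_self]
    · rintro (i | j) <;> simp only [lhs', rhs', Sum.elim_inl, Sum.elim_inr, mv_ext, hone, hone', and_self]
  -- data give an isomorphism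
  have hgood : ∀ (E : Type u) [CommRing E] [Algebra S E] y z, Good E y z → IsoAt (R := R) A A' τ τ' E := by
    intro E _ _ y z ⟨hL, hL'⟩
    set F := ext A A' φ E y
    set G := ext A' A φ' E z
    have h1 : F 1 = 1 := hL (Sum.inl ())
    have hy : ∀ i, F ((1 : E) ⊗ₜ[S] a i) = y i := fun i => hL (Sum.inr (Sum.inr (Sum.inr (Sum.inr i))))
    have hz : ∀ i, G (y i) = (1 : E) ⊗ₜ[S] a i := fun i => hL' (Sum.inl i)
    have hmul : ∀ x x', F (x * x') = F x * F x' := by
      have key : ∀ i x', F (((1 : E) ⊗ₜ[S] a i) * x') = F ((1 : E) ⊗ₜ[S] a i) * F x' := fun i => by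
        refine eq_of_gens φ E a hdual (F.comp (LinearMap.mulLeft E ((1 : E) ⊗ₜ[S] a i)))
          ((LinearMap.mulLeft E (F ((1 : E) ⊗ₜ[S] a i))).comp F) (fun r x => ?_) (fun r x => ?_) fun j => ?_
        · simp only [LinearMap.comp_apply, LinearMap.mulLeft_apply]
          rw [← mul_assoc, ← sc_commute, mul_assoc, ext_sc_mul]
        · simp only [LinearMap.comp_apply, LinearMap.mulLeft_apply]
          rw [ext_sc_mul, ← mul_assoc, ← sc_commute, mul_assoc]
        · simp only [LinearMap.comp_apply, LinearMap.mulLeft_apply, Algebra.TensorProduct.tmul_mul_tmul, one_mul]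
          rw [hy, hy]
          exact hL (Sum.inr (Sum.inl (i, j)))
      intro x x'
      refine eq_of_gens φ E a hdual (F.comp (LinearMap.mulRight E x')) ((LinearMap.mulRight E (F x')).comp F)
        (fun r x => ?_) (fun r x => ?_) (fun i => key i x') x
      · simp only [LinearMap.comp_apply, LinearMap.mulRight_apply]
        rw [mul_assoc, ext_sc_mul]
      · simp only [LinearMap.comp_apply, LinearMap.mulRight_apply]
        rw [ext_sc_mul, mul_assoc]
    have hGF : ∀ x, G (F x) = x := fun x =>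
      eq_of_gens φ E a hdual (G.comp F) LinearMap.id
        (fun r x => by rw [LinearMap.comp_apply, LinearMap.comp_apply, ext_sc_mul, ext_sc_mul]) (fun _ _ => rfl)
        (fun i => by rw [LinearMap.comp_apply, hy, hz]; rfl) x
    have hFG : ∀ x, F (G x) = x := fun x =>
      eq_of_gens φ' E a' hdual' (F.comp G) LinearMap.id
        (fun r x => by rw [LinearMap.comp_apply, LinearMap.comp_apply, ext_sc_mul, ext_sc_mul]) (fun _ _ => rfl)
        (fun j => by
          rw [LinearMap.comp_apply, LinearMap.id_apply, show G ((1 : E) ⊗ₜ[S] a' j) = z j from hL' (Sum.inr j)]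
          exact hL (Sum.inr (Sum.inr (Sum.inr (Sum.inl j))))) x
    let f0 : E ⊗[S] A →ₐ[E] E ⊗[S] A' := AlgHom.ofLinearMap F h1 hmul
    refine ⟨AlgEquiv.ofBijective f0 ⟨fun x x' he => by rw [← hGF x, ← hGF x']; exact congrArg G he,
      fun x => ⟨G x, hFG x⟩⟩, fun r x => ext_sc_mul A A' φ E y r x, fun x => ?_⟩
    change F (τ.baseChange E x) = τ'.baseChange E (F x)
    induction x using TensorProduct.induction_on with
    | zero => simp
    | add x y hx hy => simp only [map_add, hx, hy]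
    | tmul e x =>
      rw [← mul_one e, ← smul_eq_mul, ← TensorProduct.smul_tmul', map_smul, map_smul, map_smul, map_smul, ← hdual x,
        TensorProduct.tmul_sum]
      congr 1
      simp only [map_sum]
      refine Finset.sum_congr rfl fun i _ => ?_
      rw [Algebra.smul_def, ← one_mul (1 : E), ← Algebra.TensorProduct.tmul_mul_tmul, ext_sc_mul,
        baseChange_sc_mul E τ' c hτ', baseChange_sc_mul E τ c hτ, ext_sc_mul, hy]
      exact congrArg (_ * ·) (hL (Sum.inr (Sum.inr (Sum.inl i))))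
  -- the property
  refine (fun ⟨E, iE, iA, hEt, hFF, y, z, hyz⟩ => ⟨E, iE, iA, hEt, hFF, @hgood E iE iA y z hyz⟩)
    (exists_etale_cover (fun E [CommRing E] [Algebra S E] => ∃ y z, Good E y z) ?_ ?_)
  · intro ι _ E _ _ hi
    choose y z hyz using hi
    choose Y hY using fun j : Fin k => (pi_bijective (N := A') E).2 (fun i => y i j)
    choose Z hZ using fun j : Fin k' => (pi_bijective (N := A) E).2 (fun i => z i j)
    have hY' : ∀ i, (fun j => mv A' (Pi.evalAlgHom S E i) (Y j)) = y i := fun i => funext fun j => by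
      rw [mv_eq]; exact congrFun (hY j) i
    have hZ' : ∀ i, (fun j => mv A (Pi.evalAlgHom S E i) (Z j)) = z i := fun i => funext fun j => by
      rw [mv_eq]; exact congrFun (hZ j) i
    refine ⟨Y, Z, fun o => ?_, fun o => ?_⟩
    · refine (pi_bijective (N := A') E).1 (funext fun i => ?_)
      simp only [← mv_eq]
      rw [((hnat (Pi.evalAlgHom S E i) Y Z).1 o).1, ((hnat (Pi.evalAlgHom S E i) Y Z).1 o).2, hY', hZ']
      exact (hyz i).1 o
    · refine (pi_bijective (N := A) E).1 (funext fun i => ?_)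
      simp only [← mv_eq]
      rw [((hnat (Pi.evalAlgHom S E i) Y Z).2 o).1, ((hnat (Pi.evalAlgHom S E i) Y Z).2 o).2, hY', hZ']
      exact (hyz i).2 o
  · intro p _
    obtain ⟨f, hfR, hfτ⟩ := h p
    let Ω := SeparableClosure p.ResidueField
    let T := Hens S Ω
    let y₀ : Fin k → T ⊗[S] A' := fun i => f ((1 : T) ⊗ₜ[S] a i)
    let z₀ : Fin k' → T ⊗[S] A := fun j => f.symm ((1 : T) ⊗ₜ[S] a' j)
    have hF : ∀ x, ext A A' φ T y₀ x = f x := fun x =>
      (LinearMap.congr_fun (eq_ext φ T a hdual f.toLinearMap hfR) x).symm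
    have hfs : ∀ r x, f.symm (sc A' T r * x) = sc A T r * f.symm x := fun r x =>
      f.injective (by rw [hfR, f.apply_symm_apply, f.apply_symm_apply])
    have hG : ∀ x, ext A' A φ' T z₀ x = f.symm x := fun x =>
      (LinearMap.congr_fun (eq_ext φ' T a' hdual' f.symm.toLinearMap hfs) x).symm
    have hg0 : Good T y₀ z₀ := by
      refine ⟨?_, ?_⟩
      · rintro (_ | ij | i | j | i)
        · exact (hF 1).trans (map_one f)
        · refine (hF _).trans ?_
          change _ = f _ * f _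
          rw [← map_mul f, Algebra.TensorProduct.tmul_mul_tmul, one_mul]
        · exact (hF _).trans (hfτ _)
        · exact (hF _).trans (f.apply_symm_apply _)
        · exact hF _
      · rintro (i | j)
        · exact (hG _).trans (f.symm_apply_apply _)
        · exact hG _
    obtain ⟨St, yz, hyz⟩ := exists_lift (S := S) (Ω := Ω) (N := A') y₀
    obtain ⟨St', zz, hzz⟩ := exists_lift (S := S) (Ω := Ω) (N := A) z₀
    obtain ⟨T₁, ⟨g⟩, ⟨g'⟩⟩ := exists_merge St St'
    let y₁ : Fin k → T₁.E ⊗[S] A' := fun i => mv A' g.f (yz i)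
    let z₁ : Fin k' → T₁.E ⊗[S] A := fun j => mv A g'.f (zz j)
    have hy₁ : (fun i => mv A' T₁.h (y₁ i)) = y₀ := funext fun i => by
      change mv A' T₁.h (mv A' g.f (yz i)) = _
      rw [mv_eq, mv_eq, rTensor_comp_apply, g.comm]; exact hyz i
    have hz₁ : (fun j => mv A T₁.h (z₁ j)) = z₀ := funext fun j => by
      change mv A T₁.h (mv A g'.f (zz j)) = _
      rw [mv_eq, mv_eq, rTensor_comp_apply, g'.comm]; exact hzz j
    obtain ⟨T₂, g₂, hT₂⟩ := exists_kill_alg A' T₁ (lhs T₁.E y₁ z₁) (rhs T₁.E y₁) fun o => by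
      rw [((hnat T₁.h y₁ z₁).1 o).1, ((hnat T₁.h y₁ z₁).1 o).2, hy₁, hz₁]
      exact hg0.1 o
    have hcomp : ∀ x : T₁.E ⊗[S] A', mv A' T₂.h (mv A' g₂.f x) = mv A' T₁.h x := fun x => by
      rw [mv_eq, mv_eq, rTensor_comp_apply, g₂.comm, mv_eq]
    have hcomp' : ∀ x : T₁.E ⊗[S] A, mv A T₂.h (mv A g₂.f x) = mv A T₁.h x := fun x => by
      rw [mv_eq, mv_eq, rTensor_comp_apply, g₂.comm, mv_eq]
    let y₂ : Fin k → T₂.E ⊗[S] A' := fun i => mv A' g₂.f (y₁ i)
    let z₂ : Fin k' → T₂.E ⊗[S] A := fun j => mv A g₂.f (z₁ j)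
    have hy₂ : (fun i => mv A' T₂.h (y₂ i)) = y₀ := by simp only [y₂, hcomp]; exact hy₁
    have hz₂ : (fun j => mv A T₂.h (z₂ j)) = z₀ := by simp only [z₂, hcomp']; exact hz₁
    obtain ⟨T₃, g₃, hT₃⟩ := exists_kill_alg A T₂ (lhs' T₂.E y₂ z₂) (rhs' T₂.E z₂) fun o => by
      rw [((hnat T₂.h y₂ z₂).2 o).1, ((hnat T₂.h y₂ z₂).2 o).2, hy₂, hz₂]
      exact hg0.2 o
    refine ⟨T₃, fun i => mv A' g₃.f (y₂ i), fun j => mv A g₃.f (z₂ j), fun o => ?_, fun o => ?_⟩
    · rw [← ((hnat g₃.f y₂ z₂).1 o).1, ← ((hnat g₃.f y₂ z₂).1 o).2]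
      congr 1
      rw [← ((hnat g₂.f y₁ z₁).1 o).1, ← ((hnat g₂.f y₁ z₁).1 o).2]
      exact hT₂ o
    · rw [← ((hnat g₃.f y₂ z₂).2 o).1, ← ((hnat g₃.f y₂ z₂).2 o).2]
      exact hT₃ o

end Groth.Misc12.AzI
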