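import Groth.Agent.Misc12.AzI.Descend

/-!
A unit conjugating to a given automorphism, found over every strict henselization, descends to a faithfully flat
étale algebra.
-/

set_option autoImplicit false
set_option linter.unusedSectionVars false

universe u v w

open TensorProduct
open Groth.Hensel1 Groth.Sga3.HensPoint

noncomputable section

namespace Groth.Misc12.AzI

variable {S : Type u} [CommRing S] {R : Type v} [CommRing R] [Algebra S R]
variable {A : Type w} [Ring A] [Algebra S A] [Algebra R A] [IsScalarTower S R A]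

/-- A unit over `E` conjugating to `ψ`, unitary for `τ` when `chk`. -/
def InnerAt (ψ : A ≃ₐ[R] A) (chk : Bool) (τ : A →ₗ[S] A) (E : Type u) [CommRing E] [Algebra S E] : Prop :=
  ∃ w : (E ⊗[S] A)ˣ,
    (∀ x : E ⊗[S] A, Algebra.TensorProduct.congr (AlgEquiv.refl : E ≃ₐ[E] E) (ψ.restrictScalars S) x * (w : E ⊗[S] A) =
      (w : E ⊗[S] A) * x) ∧
      (chk = true → τ.baseChange E (w : E ⊗[S] A) * (w : E ⊗[S] A) = 1)

theorem exists_innerAt [Module.Finite R A] (ψ : A ≃ₐ[R] A) (chk : Bool) (τ : A →ₗ[S] A)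
    (h : ∀ (p : Ideal S) [p.IsPrime], InnerAt ψ chk τ (Hens S (SeparableClosure p.ResidueField))) :
    ∃ (E : Type u) (_ : CommRing E) (_ : Algebra S E) (_ : Algebra.Etale S E) (_ : Module.FaithfullyFlat S E),
      InnerAt ψ chk τ E := by
  classical
  obtain ⟨k, a, ha⟩ := Module.Finite.exists_fin (R := R) (M := A)
  let Idx := Unit ⊕ Unit ⊕ Fin k ⊕ Unit
  let lhs : ∀ (E : Type u) [CommRing E] [Algebra S E], (Bool → E ⊗[S] A) → Idx → E ⊗[S] A := fun E _ _ y =>
    Sum.elim (fun _ => y true * y false) (Sum.elim (fun _ => y false * y true)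
      (Sum.elim (fun i => ((1 : E) ⊗ₜ[S] ψ (a i)) * y true)
        fun _ => if chk then τ.baseChange E (y true) * y true else 1))
  let rhs : ∀ (E : Type u) [CommRing E] [Algebra S E], (Bool → E ⊗[S] A) → Idx → E ⊗[S] A := fun E _ _ y =>
    Sum.elim (fun _ => 1) (Sum.elim (fun _ => 1) (Sum.elim (fun i => y true * ((1 : E) ⊗ₜ[S] a i)) fun _ => 1))
  have hnat : ∀ {E F : Type u} [CommRing E] [CommRing F] [Algebra S E] [Algebra S F] (f : E →ₐ[S] F)
      (y : Bool → E ⊗[S] A) (o : Idx),
      mv A f (lhs E y o) = lhs F (fun b => mv A f (y b)) o ∧ mv A f (rhs E y o) = rhs F (fun b => mv A f (y b)) o := by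
    intro E F _ _ _ _ f y o
    have hone : ∀ x : A, mv A f ((1 : E) ⊗ₜ[S] x) = (1 : F) ⊗ₜ[S] x := fun x => by simp [mv]
    rcases o with _ | _ | i | _
    all_goals
      simp only [lhs, rhs, Sum.elim_inl, Sum.elim_inr]
      refine ⟨?_, ?_⟩
    · exact map_mul _ _ _
    · exact map_one _
    · exact map_mul _ _ _
    · exact map_one _
    · rw [map_mul, hone]
    · rw [map_mul, hone]
    · cases chk
      · simp
      · simp [mv_baseChange]
    · exact map_one _
  have hgood : ∀ (E : Type u) [CommRing E] [Algebra S E] (y : Bool → E ⊗[S] A),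
      (∀ o, lhs E y o = rhs E y o) → InnerAt ψ chk τ E := by
    intro E _ _ y hy
    refine ⟨⟨y true, y false, hy (Sum.inl ()), hy (Sum.inr (Sum.inl ()))⟩, fun x => ?_, fun hc => ?_⟩
    · change Algebra.TensorProduct.congr AlgEquiv.refl (ψ.restrictScalars S) x * y true = y true * x
      induction x using TensorProduct.induction_on with
      | zero => simp
      | add x z hx hz => rw [map_add, add_mul, mul_add, hx, hz]
      | tmul e x =>
        have h1 : ∀ x : A, ((1 : E) ⊗ₜ[S] ψ x) * y true = y true * ((1 : E) ⊗ₜ[S] x) := fun x => by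
          induction (ha ▸ Submodule.mem_top : x ∈ Submodule.span R (Set.range a)) using Submodule.span_induction with
          | mem x hx => obtain ⟨i, rfl⟩ := hx; exact hy (Sum.inr (Sum.inr (Sum.inl i)))
          | zero => simp
          | add x z _ _ hx hz => rw [map_add, tmul_add, tmul_add, add_mul, mul_add, hx, hz]
          | smul r x _ hx =>
            rw [map_smul, Algebra.smul_def, Algebra.smul_def, ← one_mul (1 : E), ← Algebra.TensorProduct.tmul_mul_tmul,
              ← Algebra.TensorProduct.tmul_mul_tmul, mul_assoc, hx, ← mul_assoc, ← mul_assoc,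
              sc_commute A E r (y true)]
        rw [show Algebra.TensorProduct.congr (AlgEquiv.refl : E ≃ₐ[E] E) (ψ.restrictScalars S) (e ⊗ₜ[S] x) = e ⊗ₜ[S] ψ x from rfl,
          show (e ⊗ₜ[S] ψ x : E ⊗[S] A) = e • ((1 : E) ⊗ₜ[S] ψ x) by simp [TensorProduct.smul_tmul'],
          show (e ⊗ₜ[S] x : E ⊗[S] A) = e • ((1 : E) ⊗ₜ[S] x) by simp [TensorProduct.smul_tmul'],
          smul_mul_assoc, h1, mul_smul_comm]
    · have := hy (Sum.inr (Sum.inr (Sum.inr ())))
      simpa [lhs, rhs, hc] using this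
  refine (fun ⟨E, iE, iA, hEt, hFF, y, hy⟩ => ⟨E, iE, iA, hEt, hFF, @hgood E iE iA y hy⟩)
    (exists_etale_cover (fun E [CommRing E] [Algebra S E] => ∃ y, ∀ o, lhs E y o = rhs E y o) ?_ ?_)
  · intro ι _ E _ _ hi
    choose y hy using hi
    choose Y hY using fun b : Bool => (pi_bijective (N := A) E).2 (fun i => y i b)
    have hY' : ∀ i, (fun b => mv A (Pi.evalAlgHom S E i) (Y b)) = y i := fun i => funext fun b => by
      rw [mv_eq]; exact congrFun (hY b) i
    refine ⟨Y, fun o => (pi_bijective (N := A) E).1 (funext fun i => ?_)⟩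
    simp only [← mv_eq]
    rw [(hnat (Pi.evalAlgHom S E i) Y o).1, (hnat (Pi.evalAlgHom S E i) Y o).2, hY']
    exact hy i o
  · intro p _
    obtain ⟨w, hw, hwτ⟩ := h p
    let Ω := SeparableClosure p.ResidueField
    let T := Hens S Ω
    let y₀ : Bool → T ⊗[S] A := fun b => if b then (w : T ⊗[S] A) else (↑w⁻¹ : T ⊗[S] A)
    have hg0 : ∀ o, lhs T y₀ o = rhs T y₀ o := by
      rintro (_ | _ | i | _)
      · exact w.mul_inv
      · exact w.inv_mul
      · exact hw ((1 : T) ⊗ₜ[S] a i)
      · simp only [lhs, rhs, Sum.elim_inr, y₀]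
        cases hchk : chk
        · simp
        · simpa using hwτ hchk
    obtain ⟨St, yz, hyz⟩ := exists_lift (S := S) (Ω := Ω) (N := A) y₀
    have hy₁ : (fun b => mv A St.h (yz b)) = y₀ := funext fun b => by rw [mv_eq]; exact hyz b
    obtain ⟨T₂, g₂, hT₂⟩ := exists_kill_alg A St (lhs St.E yz) (rhs St.E yz) fun o => by
      rw [(hnat St.h yz o).1, (hnat St.h yz o).2, hy₁]
      exact hg0 o
    refine ⟨T₂, fun b => mv A g₂.f (yz b), fun o => ?_⟩
    rw [← (hnat g₂.f yz o).1, ← (hnat g₂.f yz o).2]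
    exact hT₂ o

end Groth.Misc12.AzI
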