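import Groth.Prelude.Def_AzInv
import Mathlib.RingTheory.LocalRing.ResidueField.Basic
import Mathlib.LinearAlgebra.Matrix.Rank
import Mathlib.LinearAlgebra.Matrix.NonsingularInverse
import Mathlib.LinearAlgebra.Matrix.Determinant.Basic
import Mathlib.GroupTheory.Perm.Cycle.Type

/-!
Hermitian and skew-hermitian forms over a local ring with an involution trivial on the residue field.
-/

set_option autoImplicit false
set_option linter.unusedSectionVars false
set_option linter.style.haveILetI false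

universe u v w

open IsLocalRing Matrix

noncomputable section

namespace Groth.Misc12.AzI

/-- A symmetric matrix of odd size with zero diagonal has zero determinant in characteristic two. -/
theorem det_eq_zero_of_alt {K : Type u} [CommRing K] (h2 : (2 : K) = 0) {ι : Type v} [Fintype ι] [DecidableEq ι]
    (hodd : Odd (Fintype.card ι)) (M : Matrix ι ι K) (hs : ∀ i j, M i j = M j i) (hd : ∀ i, M i i = 0) : M.det = 0 := by
  classical
  rw [Matrix.det_apply']
  have key : ∀ π : Equiv.Perm ι, ∏ i, M (π⁻¹ i) i = ∏ i, M (π i) i := fun π => by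
    rw [← Equiv.prod_comp π (fun i => M (π⁻¹ i) i)]
    exact Finset.prod_congr rfl fun i _ => by rw [Equiv.Perm.inv_def, Equiv.symm_apply_apply, hs]
  refine Finset.sum_involution (fun π _ => π⁻¹) (fun π _ => ?_) (fun π _ hne he => ?_) (fun _ _ => Finset.mem_univ _)
    (fun π _ => inv_inv π)
  · rw [Equiv.Perm.sign_inv, key, ← two_mul, h2, zero_mul]
  · have hinv : π ^ 2 ^ 1 = 1 := by
      rw [pow_one, sq]
      nth_rw 1 [← he]
      exact inv_mul_cancel π
    haveI : Fact (Nat.Prime 2) := ⟨Nat.prime_two⟩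
    obtain ⟨i, hi⟩ := Equiv.Perm.exists_fixed_point_of_prime (p := 2) (n := 1)
      (fun hdvd => (Nat.not_even_iff_odd.2 hodd) (even_iff_two_dvd.2 hdvd)) hinv
    exact hne (by rw [Finset.prod_eq_zero (Finset.mem_univ i) (by rw [hi, hd]), mul_zero])

variable {B : Type u} [CommRing B]

/-- The sesquilinear form of a matrix. -/
def hf (σ : B ≃+* B) {n : ℕ} (u : Matrix (Fin n) (Fin n) B) (x y : Fin n → B) : B :=
  x ⬝ᵥ (u *ᵥ fun i => σ (y i))

section Bilin

variable (σ : B ≃+* B) {n : ℕ} (u : Matrix (Fin n) (Fin n) B)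

theorem hf_add_left (x x' y : Fin n → B) : hf σ u (x + x') y = hf σ u x y + hf σ u x' y := add_dotProduct _ _ _

theorem hf_sub_left (x x' y : Fin n → B) : hf σ u (x - x') y = hf σ u x y - hf σ u x' y := sub_dotProduct _ _ _

theorem hf_smul_left (c : B) (x y : Fin n → B) : hf σ u (c • x) y = c * hf σ u x y := by
  simp [hf, smul_dotProduct]

theorem hf_add_right (x y y' : Fin n → B) : hf σ u x (y + y') = hf σ u x y + hf σ u x y' := by
  rw [hf, show (fun i => σ ((y + y') i)) = (fun i => σ (y i)) + fun i => σ (y' i) from funext fun i => map_add σ _ _,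
    mulVec_add, dotProduct_add]
  rfl

theorem hf_sub_right (x y y' : Fin n → B) : hf σ u x (y - y') = hf σ u x y - hf σ u x y' := by
  rw [hf, show (fun i => σ ((y - y') i)) = (fun i => σ (y i)) - fun i => σ (y' i) from funext fun i => map_sub σ _ _,
    mulVec_sub, dotProduct_sub]
  rfl

theorem hf_smul_right (c : B) (x y : Fin n → B) : hf σ u x (c • y) = σ c * hf σ u x y := by
  rw [hf, show (fun i => σ ((c • y) i)) = σ c • fun i => σ (y i) from funext fun i => map_mul σ _ _,
    mulVec_smul, dotProduct_smul]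
  rfl

theorem hf_sum_left {ι : Type v} (s : Finset ι) (x : ι → Fin n → B) (y : Fin n → B) :
    hf σ u (∑ i ∈ s, x i) y = ∑ i ∈ s, hf σ u (x i) y := sum_dotProduct _ _ _

theorem hf_conj (e : B) (hσ : ∀ b, σ (σ b) = b) (hu : ∀ i j, σ (u j i) = e * u i j) (x y : Fin n → B) :
    σ (hf σ u x y) = e * hf σ u y x := by
  simp only [hf, dotProduct, mulVec, map_sum, map_mul, Finset.mul_sum]
  rw [Finset.sum_comm]
  refine Finset.sum_congr rfl fun i _ => Finset.sum_congr rfl fun j _ => ?_
  rw [hσ, hu]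
  ring

theorem lamTr_mul_apply {m : Type v} [Fintype m] (V : Matrix m (Fin n) B) (i j : m) :
    (V * u * (V.map σ)ᵀ) i j = hf σ u (V i) (V j) := by
  rw [hf, Matrix.mul_assoc]
  rfl

end Bilin

/-- The Gram matrix of hyperbolic pairs. -/
def hyp (k : ℕ) : (Matrix (Fin k × Bool) (Fin k × Bool) B)ˣ where
  val := Matrix.of fun p q => if p.1 = q.1 ∧ p.2 ≠ q.2 then (if p.2 then -1 else 1) else 0
  inv := -Matrix.of fun p q => if p.1 = q.1 ∧ p.2 ≠ q.2 then (if p.2 then -1 else 1) else 0
  val_inv := by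
    ext ⟨a, b⟩ ⟨c, d⟩
    rw [Matrix.mul_apply, Finset.sum_eq_single (a, !b)]
    · by_cases hac : a = c
      · subst hac; cases b <;> cases d <;> simp [Matrix.one_apply]
      · simp [Matrix.one_apply, hac]
    · rintro ⟨x, y⟩ - hne
      rw [Matrix.of_apply, if_neg, zero_mul]
      rintro ⟨rfl, hby⟩
      exact hne (by cases b <;> cases y <;> simp_all)
    · simp
  inv_val := by
    ext ⟨a, b⟩ ⟨c, d⟩
    rw [Matrix.mul_apply, Finset.sum_eq_single (a, !b)]
    · by_cases hac : a = c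
      · subst hac; cases b <;> cases d <;> simp [Matrix.one_apply]
      · simp [Matrix.one_apply, hac]
    · rintro ⟨x, y⟩ - hne
      rw [Matrix.neg_apply, Matrix.of_apply, if_neg, neg_zero, zero_mul]
      rintro ⟨rfl, hby⟩
      exact hne (by cases b <;> cases y <;> simp_all)
    · simp

theorem hyp_apply (k : ℕ) (p q : Fin k × Bool) : ((hyp k : (Matrix (Fin k × Bool) (Fin k × Bool) B)ˣ) :
    Matrix (Fin k × Bool) (Fin k × Bool) B) p q = if p.1 = q.1 ∧ p.2 ≠ q.2 then (if p.2 then -1 else 1) else 0 := rfl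

variable [IsLocalRing B] (σ : B ≃+* B) (hσ : ∀ b, σ (σ b) = b) (hres : ∀ b, σ b - b ∈ maximalIdeal B)
variable {n : ℕ} (u : (Matrix (Fin n) (Fin n) B)ˣ)

local notation "h" => hf σ (u : Matrix (Fin n) (Fin n) B)

include hσ in
theorem exists_dual {x : Fin n → B} {i : Fin n} (hx : IsUnit (x i)) : ∃ y, h x y = 1 := by
  obtain ⟨c, hc⟩ := hx
  refine ⟨fun j => σ (((↑u⁻¹ : Matrix (Fin n) (Fin n) B) *ᵥ Pi.single i (↑c⁻¹ : B)) j), ?_⟩
  simp only [hf, hσ]
  change x ⬝ᵥ ((u : Matrix (Fin n) (Fin n) B) *ᵥ ((↑u⁻¹ : Matrix (Fin n) (Fin n) B) *ᵥ Pi.single i (↑c⁻¹ : B))) = 1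
  rw [mulVec_mulVec, Units.mul_inv, one_mulVec, dotProduct_single, ← hc, Units.mul_inv]

theorem card_le_of_gram {ι : Type v} [Fintype ι] [DecidableEq ι] (v : ι → Fin n → B) (G : Matrix ι ι B) (hG : IsUnit G)
    (hv : ∀ i j, h (v i) (v j) = G i j) : Fintype.card ι ≤ n := by
  let k := ResidueField B
  have hG' : (Matrix.of v) * (u : Matrix (Fin n) (Fin n) B) * ((Matrix.of v).map σ)ᵀ = G := by
    ext i j; rw [lamTr_mul_apply]; exact hv i j
  have h1 := congrArg (fun M => M.map (residue B)) hG'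
  simp only [Matrix.map_mul] at h1
  have h2 : (G.map (residue B)).rank = Fintype.card ι := Matrix.rank_of_isUnit _ (hG.map (residue B).mapMatrix)
  rw [← h1] at h2
  rw [← h2]
  exact ((Matrix.rank_mul_le_left _ _).trans (Matrix.rank_mul_le_left _ _)).trans
    ((Matrix.rank_le_card_width _).trans (Fintype.card_fin n).le)

theorem exists_complement {ι : Type v} [Fintype ι] [DecidableEq ι] (v : ι → Fin n → B) (G : (Matrix ι ι B)ˣ)
    (hv : ∀ i j, h (v i) (v j) = (G : Matrix ι ι B) i j) :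
    ∃ P : (Fin n → B) → (Fin n → B), (∀ z j, h (P z) (v j) = 0) ∧
      (∀ z, ∃ c : ι → B, P z = z - ∑ i, c i • v i) ∧
      (Fintype.card ι < n → ∃ z l, IsUnit (P z l)) := by
  let c : (Fin n → B) → ι → B := fun z => (fun i => h z (v i)) ᵥ* (↑G⁻¹ : Matrix ι ι B)
  refine ⟨fun z => z - ∑ i, c z i • v i, fun z j => ?_, fun z => ⟨c z, rfl⟩, fun hlt => ?_⟩
  · rw [hf_sub_left, hf_sum_left]
    simp only [hf_smul_left, hv]
    rw [sub_eq_zero]
    have := congrFun (vecMul_vecMul (fun i => h z (v i)) (↑G⁻¹ : Matrix ι ι B) (G : Matrix ι ι B)) j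
    rw [Units.inv_mul, vecMul_one] at this
    exact this.symm
  · by_contra hcon
    push Not at hcon
    let Cm : Matrix (Fin n) ι B := Matrix.of fun l i => c (Pi.single l 1) i
    have h1 : (1 : Matrix (Fin n) (Fin n) (ResidueField B)) =
        Cm.map (residue B) * (Matrix.of v).map (residue B) := by
      rw [← Matrix.map_mul]
      ext l j
      have h0 : residue B (((Pi.single l (1 : B) : Fin n → B) - ∑ i, c (Pi.single l 1) i • v i) j) = 0 :=
        (residue_eq_zero_iff _).2 (hcon _ _)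
      rw [Pi.sub_apply, map_sub, sub_eq_zero, Finset.sum_apply] at h0
      rw [Matrix.map_apply, Matrix.mul_apply]
      simp only [Cm, Matrix.of_apply, Pi.smul_apply, smul_eq_mul] at h0 ⊢
      rw [← h0, Matrix.one_apply, Pi.single_apply]
      rcases eq_or_ne l j with rfl | hne
      · simp
      · simp [hne, hne.symm]
    have h2 := congrArg Matrix.rank h1
    rw [Matrix.rank_one, Fintype.card_fin] at h2
    exact absurd ((h2.le.trans (Matrix.rank_mul_le_left _ _)).trans (Matrix.rank_le_card_width _)) (not_le.2 hlt)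

include hσ in
/-- In an orthogonal complement every vector with a unit coordinate has a partner. -/
theorem exists_dual_complement {ι : Type v} [Fintype ι] (v : ι → Fin n → B) (P : (Fin n → B) → (Fin n → B))
    (hP : ∀ z j, h (P z) (v j) = 0) (hPc : ∀ z, ∃ c : ι → B, P z = z - ∑ i, c i • v i) {e : B}
    (hu : ∀ i j, σ ((u : Matrix (Fin n) (Fin n) B) j i) = e * (u : Matrix (Fin n) (Fin n) B) i j)
    (he : IsUnit e) {x : Fin n → B} {l : Fin n} (hx : IsUnit (x l)) (hxv : ∀ j, h x (v j) = 0) :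
    ∃ y, (∀ j, h y (v j) = 0) ∧ h x y = 1 := by
  obtain ⟨y, hy⟩ := exists_dual σ hσ u hx
  obtain ⟨c, hc⟩ := hPc y
  refine ⟨P y, hP y, ?_⟩
  have hvx : ∀ j, h (v j) x = 0 := fun j => by
    have := hf_conj σ _ e hσ hu x (v j)
    rw [hxv, map_zero] at this
    exact he.mul_right_eq_zero.1 this.symm
  apply σ.injective
  have hyx : h (P y) x = h y x := by simp [hc, hf_sub_left, hf_sum_left, hf_smul_left, hvx]
  rw [hf_conj σ _ e hσ hu, hyx, ← hf_conj σ _ e hσ hu, hy]

section Herm

variable (hsq : ∀ a : B, IsUnit a → σ a = a → ∃ y : B, σ y = y ∧ y * y = a)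
variable (hu : ∀ i j, σ ((u : Matrix (Fin n) (Fin n) B) j i) = (u : Matrix (Fin n) (Fin n) B) i j)

include hσ hsq hu in
theorem exists_normalize {z : Fin n → B} (hz : IsUnit (h z z)) :
    ∃ c : B, IsUnit c ∧ h (c • z) (c • z) = 1 := by
  have hconj := hf_conj σ (u : Matrix (Fin n) (Fin n) B) 1 hσ (fun i j => by rw [one_mul, hu]) z z
  rw [one_mul] at hconj
  obtain ⟨y, hy, hyy⟩ := hsq _ hz hconj
  have hyu : IsUnit y := isUnit_of_mul_isUnit_left (hyy ▸ hz)
  obtain ⟨yu, rfl⟩ := hyu
  refine ⟨↑yu⁻¹, Units.isUnit _, ?_⟩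
  have hσy : σ (↑yu⁻¹ : B) = ↑yu⁻¹ := by
    have h1 : σ (↑yu⁻¹ : B) * ↑yu = 1 := by
      have h0 := map_mul σ (↑yu⁻¹ : B) ↑yu
      rw [Units.inv_mul, map_one, hy] at h0
      exact h0.symm
    exact left_inv_eq_right_inv h1 (Units.mul_inv yu)
  rw [hf_smul_left, hf_smul_right, hσy, ← hyy]
  simp

include hσ hres hsq hu in
theorem exists_orthonormal (hz : ∀ _ : 0 < n, ∃ z, IsUnit (h z z)) :
    ∀ k, k ≤ n → ∃ v : Fin k → Fin n → B, (∀ i j, h (v i) (v j) = (1 : Matrix (Fin k) (Fin k) B) i j) ∧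
      (k < n → ∃ z, (∀ j, h z (v j) = 0) ∧ IsUnit (h z z)) := by
  classical
  have hconj := hf_conj σ (u : Matrix (Fin n) (Fin n) B) 1 hσ (fun i j => by rw [one_mul, hu])
  intro k
  induction k with
  | zero =>
    intro _
    exact ⟨Fin.elim0, fun i => i.elim0, fun h0 => (hz h0).imp fun z hz => ⟨fun j => j.elim0, hz⟩⟩
  | succ k ih =>
    intro hk
    obtain ⟨v, hv, hvz⟩ := ih (by omega)
    obtain ⟨z, hzv, hzz⟩ := hvz (by omega)
    have hsym : ∀ x y, h x y = 0 → h y x = 0 := fun x y hxy => by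
      have := hconj x y
      rwa [hxy, map_zero, one_mul, eq_comm] at this
    -- the extension of `v` by a normalisation of a given vector
    have ext1 : ∀ w, (∀ j, h w (v j) = 0) → IsUnit (h w w) → ∃ c : B, IsUnit c ∧ ∀ i j,
        h ((Fin.snoc v (c • w) : Fin (k + 1) → Fin n → B) i) ((Fin.snoc v (c • w) : Fin (k + 1) → Fin n → B) j) =
          (1 : Matrix (Fin (k + 1)) (Fin (k + 1)) B) i j := by
      intro w hwv hww
      obtain ⟨c, hc, hc1⟩ := exists_normalize σ hσ u hsq hu hww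
      refine ⟨c, hc, fun i j => ?_⟩
      induction i using Fin.lastCases with
      | last =>
        induction j using Fin.lastCases with
        | last => rw [Fin.snoc_last, hc1, Matrix.one_apply_eq]
        | cast j =>
          rw [Fin.snoc_last, Fin.snoc_castSucc, hf_smul_left, hwv, mul_zero,
            Matrix.one_apply_ne (Fin.castSucc_lt_last j).ne']
      | cast i =>
        induction j using Fin.lastCases with
        | last =>
          rw [Fin.snoc_last, Fin.snoc_castSucc, hf_smul_right, hsym _ _ (hwv i), mul_zero,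
            Matrix.one_apply_ne (Fin.castSucc_lt_last i).ne]
        | cast j =>
          rw [Fin.snoc_castSucc, Fin.snoc_castSucc, hv, Matrix.one_apply, Matrix.one_apply]
          simp only [Fin.castSucc_inj]
    obtain ⟨c, hc, hv'⟩ := ext1 z hzv hzz
    set v' : Fin (k + 1) → Fin n → B := Fin.snoc v (c • z) with hv'def
    by_cases hk1 : k + 1 < n
    swap
    · exact ⟨v', hv', fun h' => absurd h' hk1⟩
    obtain ⟨P, hP, hPc, hPu⟩ := exists_complement σ u v' 1 (by simpa using hv')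
    by_cases hgood : ∃ z', (∀ j, h z' (v' j) = 0) ∧ IsUnit (h z' z')
    · exact ⟨v', hv', fun _ => hgood⟩
    push Not at hgood
    obtain ⟨z₀, l, hl⟩ := hPu (by simpa using hk1)
    obtain ⟨y, hyv, hxy⟩ := exists_dual_complement σ hσ u v' P hP hPc (e := 1) (fun i j => by rw [one_mul, hu])
      isUnit_one hl (hP z₀)
    set x := P z₀ with hxdef
    set a := c • z with hadef
    have hxx : h x x ∈ maximalIdeal B := (mem_maximalIdeal _).2 (hgood x (hP z₀))
    have hyy : h y y ∈ maximalIdeal B := (mem_maximalIdeal _).2 (hgood y hyv)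
    have haa : h a a = 1 := by simpa [v'] using hv' (Fin.last k) (Fin.last k)
    have hxa : h x a = 0 := by simpa [v'] using hP z₀ (Fin.last k)
    have hya : h y a = 0 := by simpa [v'] using hyv (Fin.last k)
    have hxo : ∀ j, h x (v j) = 0 := fun j => by simpa [v'] using hP z₀ j.castSucc
    have hyo : ∀ j, h y (v j) = 0 := fun j => by simpa [v'] using hyv j.castSucc
    have hao : ∀ j, h a (v j) = 0 := fun j => by rw [hadef, hf_smul_left, hzv, mul_zero]
    have hax : h a x = 0 := hsym _ _ hxa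
    have hay : h a y = 0 := hsym _ _ hya
    have hyx : h y x = 1 := by rw [← one_mul (h y x), ← hconj, hxy, map_one]
    have hunit : ∀ m ∈ maximalIdeal B, IsUnit (1 + m) := fun m hm => by
      by_contra hn
      exact (maximalIdeal.isMaximal B).ne_top ((Ideal.eq_top_iff_one _).2
        (by simpa using Ideal.sub_mem _ ((mem_maximalIdeal _).2 hn) hm))
    have hw : IsUnit (h (a + x) (a + x)) := by
      rw [hf_add_left, hf_add_right, hf_add_right, haa, hax, hxa, add_zero, zero_add]
      exact hunit _ hxx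
    obtain ⟨d, hd, hv''⟩ := ext1 (a + x) (fun j => by rw [hf_add_left, hao, hxo, add_zero]) hw
    refine ⟨_, hv'', fun _ => ⟨a - y, fun j => ?_, ?_⟩⟩
    · induction j using Fin.lastCases with
      | last =>
        rw [Fin.snoc_last, hf_smul_right, hf_sub_left, hf_add_right, hf_add_right, haa, hax, hya, hyx]
        ring
      | cast j => rw [Fin.snoc_castSucc, hf_sub_left, hao, hyo, sub_zero]
    · rw [hf_sub_left, hf_sub_right, hf_sub_right, haa, hay, hya]
      simpa using hunit _ hyy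

include hσ hres hsq hu in
/-- A hermitian form with a unit value is the unit form. -/
theorem congr_one (hz : ∀ _ : 0 < n, ∃ z, IsUnit (h z z)) :
    ∃ V : Matrix (Fin n) (Fin n) B, IsUnit V ∧ V * (u : Matrix (Fin n) (Fin n) B) * AzInv.lamTr σ V = 1 := by
  obtain ⟨v, hv, -⟩ := exists_orthonormal σ hσ hres u hsq hu hz n le_rfl
  have h1 : Matrix.of v * (u : Matrix (Fin n) (Fin n) B) * AzInv.lamTr σ (Matrix.of v) = 1 := by
    ext i j
    rw [AzInv.lamTr, lamTr_mul_apply]
    exact hv i j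
  exact ⟨_, IsUnit.of_mul_eq_one _ (by rwa [Matrix.mul_assoc] at h1), h1⟩

include hσ hres hu in
theorem exists_unit_value_of_two (h2 : IsUnit (2 : B)) (hn : 0 < n) : ∃ z, IsUnit (h z z) := by
  classical
  have hconj := hf_conj σ (u : Matrix (Fin n) (Fin n) B) 1 hσ (fun i j => by rw [one_mul, hu])
  by_contra hcon
  push Not at hcon
  have hm : ∀ z, h z z ∈ maximalIdeal B := fun z => (mem_maximalIdeal _).2 (hcon z)
  let x : Fin n → B := Pi.single ⟨0, hn⟩ 1
  obtain ⟨y, hy⟩ := exists_dual σ hσ u (x := x) (i := ⟨0, hn⟩) (by simp [x])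
  have hyx : h y x = 1 := by rw [← one_mul (h y x), ← hconj, hy, map_one]
  have h3 := Ideal.sub_mem _ (Ideal.sub_mem _ (hm (x + y)) (hm x)) (hm y)
  rw [hf_add_left, hf_add_right, hf_add_right, hy, hyx] at h3
  exact (mem_maximalIdeal _).1 (by convert h3 using 1; ring) h2

include hσ hres hu in
theorem exists_unit_value_of_odd (hn : Odd n) : ∃ z, IsUnit (h z z) := by
  classical
  by_cases h2 : IsUnit (2 : B)
  · exact exists_unit_value_of_two σ hσ hres u hu h2 hn.pos
  by_contra hcon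
  push Not at hcon
  let M := (u : Matrix (Fin n) (Fin n) B).map (residue B)
  have hdiag : ∀ i, h (Pi.single i 1) (Pi.single i 1) = (u : Matrix (Fin n) (Fin n) B) i i := fun i => by
    rw [hf, single_dotProduct, one_mul]
    simp [mulVec, dotProduct, Pi.single_apply, apply_ite σ]
  have hdet : M.det = 0 := by
    refine det_eq_zero_of_alt ?_ (by rwa [Fintype.card_fin]) M (fun i j => ?_) fun i => ?_
    · rw [← map_ofNat (residue B), residue_eq_zero_iff]
      exact (mem_maximalIdeal _).2 h2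
    · change residue B _ = residue B _
      rw [← hu i j]
      exact Ideal.Quotient.eq.2 (hres _)
    · change residue B _ = 0
      rw [residue_eq_zero_iff, ← hdiag]
      exact (mem_maximalIdeal _).2 (hcon _)
  have hU : IsUnit M := u.isUnit.map (residue B).mapMatrix
  exact not_isUnit_zero (hdet ▸ (Matrix.isUnit_iff_isUnit_det _).1 hU)

end Herm

section Skew

variable (h2 : IsUnit (2 : B))
variable (hsq : ∀ a : B, IsUnit a → σ a = a → ∃ y : B, σ y = y ∧ y * y = a)
variable (hu : ∀ i j, σ ((u : Matrix (Fin n) (Fin n) B) j i) = -(u : Matrix (Fin n) (Fin n) B) i j)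

include hσ hres h2 hsq hu in
/-- A vector with a unit coordinate in a complement starts a hyperbolic pair there. -/
theorem exists_pair {ι : Type v} (v : ι → Fin n → B) {x y : Fin n → B} (hx : ∀ j, h x (v j) = 0)
    (hy : ∀ j, h y (v j) = 0) (hxy : h x y = 1) :
    ∃ a b, (∀ j, h a (v j) = 0) ∧ (∀ j, h b (v j) = 0) ∧ h a a = 0 ∧ h b b = 0 ∧ h a b = 1 ∧ h b a = -1 := by
  have hconj := hf_conj σ (u : Matrix (Fin n) (Fin n) B) (-1) hσ (fun i j => by rw [neg_one_mul, hu])
  have hskew : ∀ z, σ (h z z) = -h z z := fun z => by rw [hconj, neg_one_mul]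
  have hswap : ∀ z w, h w z = -σ (h z w) := fun z w => by rw [hconj, neg_one_mul, neg_neg]
  have hmem : ∀ z, h z z ∈ maximalIdeal B := fun z => by
    have h1 := hres (h z z)
    rw [hskew, show -h z z - h z z = -(2 * h z z) by ring, Ideal.neg_mem_iff] at h1
    rwa [Ideal.unit_mul_mem_iff_mem _ h2] at h1
  set A := h x x with hA
  set C := h y y with hC
  have hAC : σ (A * C) = A * C := by rw [map_mul, hskew, hskew, neg_mul_neg]
  have hACu : IsUnit (1 + A * C) := by
    by_contra hn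
    exact (maximalIdeal.isMaximal B).ne_top ((Ideal.eq_top_iff_one _).2
      (by simpa [hA, -mem_maximalIdeal] using Ideal.sub_mem _ ((mem_maximalIdeal _).2 hn) (Ideal.mul_mem_right C _ (hmem x))))
  obtain ⟨r, hr, hrr⟩ := hsq _ hACu (by rw [map_add, map_one, hAC])
  obtain ⟨t, htu, ht, htt⟩ : ∃ t, IsUnit t ∧ σ t = t ∧ t * t = 2 * t + A * C := by
    rcases IsLocalRing.isUnit_or_isUnit_of_isUnit_add (a := 1 + r) (b := 1 - r) (by convert h2 using 1; ring) with h1 | h1
    · exact ⟨_, h1, by rw [map_add, map_one, hr], by linear_combination hrr⟩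
    · exact ⟨_, h1, by rw [map_sub, map_one, hr], by linear_combination hrr⟩
  obtain ⟨s, hs⟩ : ∃ s, s * t = 1 := ⟨↑htu.unit⁻¹, IsUnit.val_inv_mul htu⟩
  have hss : σ s = s := by
    have h1 : σ s * t = 1 := by
      have h0 := map_mul σ s t
      rw [hs, map_one, ht] at h0
      exact h0.symm
    exact left_inv_eq_right_inv h1 (by rw [mul_comm, hs])
  let c := A * s
  have hc : σ c = -c := by rw [map_mul, hskew, hss, neg_mul]
  let a := x + c • y
  have hyx : h y x = -1 := by rw [hswap, hxy, map_one]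
  have haa : h a a = 0 := by
    simp only [a, hf_add_left, hf_add_right, hf_smul_left, hf_smul_right, hxy, hyx, hc, ← hA, ← hC, c]
    linear_combination (A * s * s) * htt - (A * s * t + A) * hs + (2 * A * s) * hs
  have hab : h a y = 1 + c * C := by simp [a, hf_add_left, hf_smul_left, hxy, ← hC]
  obtain ⟨d, hd⟩ : ∃ d, d * (1 + c * C) = 1 := by
    have hcu : IsUnit (1 + c * C) := by
      by_contra hn
      exact (maximalIdeal.isMaximal B).ne_top ((Ideal.eq_top_iff_one _).2
        (by simpa [hC, -mem_maximalIdeal] using Ideal.sub_mem _ ((mem_maximalIdeal _).2 hn) (Ideal.mul_mem_left _ c (hmem y))))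
    exact ⟨↑hcu.unit⁻¹, IsUnit.val_inv_mul hcu⟩
  obtain ⟨b₀, hb₀⟩ : ∃ b₀, b₀ = σ d • y := ⟨_, rfl⟩
  have hab₀ : h a b₀ = 1 := by rw [hb₀, hf_smul_right, hσ, hab, hd]
  have hb₀a : h b₀ a = -1 := by rw [hswap, hab₀, map_one]
  obtain ⟨q, hq⟩ : ∃ q, 2 * q = -h b₀ b₀ := ⟨↑h2.unit⁻¹ * -h b₀ b₀, by rw [← mul_assoc, IsUnit.mul_val_inv, one_mul]⟩
  have hσq : σ q = -q := by
    apply h2.mul_left_cancel
    rw [show (2 : B) * σ q = σ (2 * q) by rw [map_mul, map_ofNat], hq, map_neg, hskew, mul_neg, hq]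
  have hov : ∀ (z : Fin n → B) j, h z (v j) = 0 → ∀ w : Fin n → B, h w (v j) = 0 → ∀ r : B, h (z + r • w) (v j) = 0 :=
    fun z j hz w hw r => by rw [hf_add_left, hf_smul_left, hz, hw, mul_zero, add_zero]
  refine ⟨a, b₀ + q • a, fun j => hov x j (hx j) y (hy j) c, fun j => ?_, haa, ?_, ?_, ?_⟩
  · refine hov b₀ j ?_ a (hov x j (hx j) y (hy j) c) q
    rw [hb₀, hf_smul_left, hy, mul_zero]
  · simp only [hf_add_left, hf_add_right, hf_smul_left, hf_smul_right, hab₀, hb₀a, haa, hσq]
    linear_combination hq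
  · rw [hf_add_right, hf_smul_right, hab₀, haa, mul_zero, add_zero]
  · rw [hf_add_left, hf_smul_left, hb₀a, haa, mul_zero, add_zero]

include hσ hres h2 hsq hu in
theorem exists_hyp : ∃ (k : ℕ) (v : Fin k × Bool → Fin n → B), 2 * k = n ∧
    ∀ p q, h (v p) (v q) = (hyp k : (Matrix (Fin k × Bool) (Fin k × Bool) B)ˣ).1 p q := by
  classical
  have hconj := hf_conj σ (u : Matrix (Fin n) (Fin n) B) (-1) hσ (fun i j => by rw [neg_one_mul, hu])
  by_contra hcon
  push Not at hcon
  suffices hall : ∀ k, ∃ v : Fin k × Bool → Fin n → B,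
      ∀ p q, h (v p) (v q) = (hyp k : (Matrix (Fin k × Bool) (Fin k × Bool) B)ˣ).1 p q by
    obtain ⟨v, hv⟩ := hall (n + 1)
    have := card_le_of_gram σ u v _ (hyp (n + 1)).isUnit hv
    simp at this
    omega
  intro k
  induction k with
  | zero => exact ⟨fun p => p.1.elim0, fun p => p.1.elim0⟩
  | succ k ih =>
    obtain ⟨v, hv⟩ := ih
    have hle : Fintype.card (Fin k × Bool) ≤ n := card_le_of_gram σ u v _ (hyp k).isUnit hv
    have hne : 2 * k ≠ n := fun h0 => by
      obtain ⟨p, q, hpq⟩ := hcon k v h0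
      exact hpq (hv p q)
    obtain ⟨P, hP, hPc, hPu⟩ := exists_complement σ u v (hyp k) hv
    simp only [Fintype.card_prod, Fintype.card_fin, Fintype.card_bool] at hle hPu
    obtain ⟨z, l, hl⟩ := hPu (by omega)
    obtain ⟨y, hy, hxy⟩ := exists_dual_complement σ hσ u v P hP hPc (e := -1) (fun i j => by rw [neg_one_mul, hu])
      isUnit_one.neg hl (hP z)
    obtain ⟨a, b, hav, hbv, haa, hbb, hab, hba⟩ := exists_pair σ hσ hres u h2 hsq hu v (hP z) hy hxy
    have hsym : ∀ x y, h x y = 0 → h y x = 0 := fun x y hxy => by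
      have := hconj x y
      rw [hxy, map_zero, neg_one_mul, eq_comm, neg_eq_zero] at this
      exact this
    refine ⟨fun p => Fin.lastCases (if p.2 then b else a) (fun i => v (i, p.2)) p.1, ?_⟩
    rintro ⟨i, c⟩ ⟨j, d⟩
    rw [hyp_apply]
    induction i using Fin.lastCases with
    | last =>
      induction j using Fin.lastCases with
      | last => simp only [Fin.lastCases_last]; cases c <;> cases d <;> simp [haa, hbb, hab, hba]
      | cast j =>
        simp only [Fin.lastCases_last, Fin.lastCases_castSucc]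
        cases c <;> simp [hav, hbv, (Fin.castSucc_lt_last j).ne']
    | cast i =>
      induction j using Fin.lastCases with
      | last =>
        simp only [Fin.lastCases_last, Fin.lastCases_castSucc]
        cases d <;> simp [(Fin.castSucc_lt_last i).ne, hsym _ _ (hav _), hsym _ _ (hbv _)]
      | cast j =>
        simp only [Fin.lastCases_castSucc]
        rw [hv, hyp_apply]
        simp only [Fin.castSucc_inj]

end Skew

/-- Two skew-hermitian forms of the same size are congruent. -/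
theorem congr_skew (hσ : ∀ b, σ (σ b) = b) (hres : ∀ b, σ b - b ∈ maximalIdeal B) (h2 : IsUnit (2 : B))
    (hsq : ∀ a : B, IsUnit a → σ a = a → ∃ y : B, σ y = y ∧ y * y = a) (u' : (Matrix (Fin n) (Fin n) B)ˣ)
    (hu : ∀ i j, σ ((u : Matrix (Fin n) (Fin n) B) j i) = -(u : Matrix (Fin n) (Fin n) B) i j)
    (hu' : ∀ i j, σ ((u' : Matrix (Fin n) (Fin n) B) j i) = -(u' : Matrix (Fin n) (Fin n) B) i j) :
    Even n ∧ ∃ V : (Matrix (Fin n) (Fin n) B)ˣ,
      (V : Matrix (Fin n) (Fin n) B) * u * AzInv.lamTr σ (V : Matrix (Fin n) (Fin n) B) = u' := by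
  classical
  obtain ⟨k, v, hk, hv⟩ := exists_hyp σ hσ hres u h2 hsq hu
  obtain ⟨k', v', hk', hv'⟩ := exists_hyp σ hσ hres u' h2 hsq hu'
  obtain rfl : k = k' := by omega
  refine ⟨⟨k, by omega⟩, ?_⟩
  let ψ : Fin n ≃ Fin k × Bool := (Fintype.equivFinOfCardEq (by simp; omega)).symm
  let N : Matrix (Fin n) (Fin n) B := Matrix.of fun i j => (hyp k : (Matrix (Fin k × Bool) (Fin k × Bool) B)ˣ).1 (ψ i) (ψ j)
  have hN : IsUnit N := (hyp k).isUnit.map (Matrix.reindexAlgEquiv B B ψ.symm).toMulEquiv.toMonoidHom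
  have mk : ∀ (w : (Matrix (Fin n) (Fin n) B)ˣ) (v : Fin k × Bool → Fin n → B),
      (∀ p q, hf σ (w : Matrix (Fin n) (Fin n) B) (v p) (v q) = (hyp k : (Matrix (Fin k × Bool) (Fin k × Bool) B)ˣ).1 p q) →
      ∃ V : (Matrix (Fin n) (Fin n) B)ˣ,
        (V : Matrix (Fin n) (Fin n) B) * w * AzInv.lamTr σ (V : Matrix (Fin n) (Fin n) B) = N := by
    intro w v hv
    let V : Matrix (Fin n) (Fin n) B := Matrix.of fun i => v (ψ i)
    have h1 : V * (w : Matrix (Fin n) (Fin n) B) * AzInv.lamTr σ V = N := by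
      ext i j
      rw [AzInv.lamTr, lamTr_mul_apply]
      exact hv _ _
    have hV : IsUnit V := by
      obtain ⟨Nu, hNu⟩ := hN
      refine IsUnit.of_mul_eq_one ((w : Matrix (Fin n) (Fin n) B) * AzInv.lamTr σ V * (↑Nu⁻¹ : Matrix (Fin n) (Fin n) B)) ?_
      rw [← Matrix.mul_assoc, ← Matrix.mul_assoc, h1, ← hNu, Units.mul_inv]
    exact ⟨hV.unit, h1⟩
  obtain ⟨V, hV⟩ := mk u v hv
  obtain ⟨V', hV'⟩ := mk u' v' hv'
  refine ⟨V'⁻¹ * V, ?_⟩
  let t₀ := AzInv.LamInv.transpose σ (Fin n) hσ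
  have htr : ∀ M : Matrix (Fin n) (Fin n) B, AzInv.lamTr σ M = t₀ M := fun M => rfl
  rw [htr] at hV hV'
  rw [htr, Units.val_mul, t₀.map_mul,
    show (↑V'⁻¹ : Matrix (Fin n) (Fin n) B) * V * u * (t₀ V * t₀ ↑V'⁻¹) =
      ↑V'⁻¹ * ((V : Matrix (Fin n) (Fin n) B) * u * t₀ V) * t₀ ↑V'⁻¹ by simp only [Matrix.mul_assoc], hV, ← hV',
    show (↑V'⁻¹ : Matrix (Fin n) (Fin n) B) * (↑V' * ↑u' * t₀ ↑V') * t₀ ↑V'⁻¹ =
      ↑V'⁻¹ * ↑V' * ↑u' * (t₀ ↑V' * t₀ ↑V'⁻¹) by simp only [Matrix.mul_assoc],
    t₀.map_units_inv', Units.inv_mul, one_mul, mul_one]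

end Groth.Misc12.AzI
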