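import Groth.Agent.Misc12.AzI.Types

/-!
Local isomorphism for the étale topology of the fixed ring, and equality of types.
-/

set_option autoImplicit false
set_option linter.unusedSectionVars false
set_option linter.style.haveILetI false

universe u v w w'

open TensorProduct IsLocalRing
open Groth.Hensel1 Groth.Sga3.HensPoint

noncomputable section

namespace Groth.Misc12.AzI

variable {S : Type u} [CommRing S] {R : Type v} [CommRing R] [Algebra S R] {lam : R ≃ₐ[S] R}
variable {A : Type w} [Ring A] [Algebra S A] [Algebra R A] [IsScalarTower S R A]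
variable {A' : Type w'} [Ring A'] [Algebra S A'] [Algebra R A'] [IsScalarTower S R A']

/-- The hypothesis: square roots exist over every strict henselization. -/
def SqHens (S : Type u) [CommRing S] : Prop :=
  ∀ (p : Ideal S) [p.IsPrime] (x : Hens S (SeparableClosure p.ResidueField)), IsUnit x → ∃ y, y * y = x

theorem sqHens_of_hsq
    (hsq : ∀ (S₁ : Type u) [CommRing S₁] [Algebra S S₁] [Algebra.Etale S S₁] (x : S₁ˣ),
      ∃ (S₂ : Type u) (_ : CommRing S₂) (_ : Algebra S₁ S₂) (_ : Algebra.Etale S₁ S₂)
        (_ : Module.FaithfullyFlat S₁ S₂) (y : S₂), y * y = algebraMap S₁ S₂ ↑x) : SqHens S := fun p _ x hx => by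
  haveI := shlr_hens p
  exact exists_sqrt_hens hsq _ x hx

theorem sqHens_of_two (h2 : IsUnit (2 : S)) : SqHens S := fun p _ x hx => by
  haveI := shlr_hens p
  exact exists_sqrt_of_two _ (by
    have h := h2.map (algebraMap S (Hens S (SeparableClosure p.ResidueField)))
    rwa [map_ofNat] at h) x hx

theorem locIsoEt_of_forall [Module.Finite R A] [Module.Projective R A] [Module.Finite R A'] [Module.Projective R A']
    {t : AzInv.LamInv R A lam} {t' : AzInv.LamInv R A' lam}
    (h : ∀ (p : Ideal S) [p.IsPrime],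
      InvIso (bcInv (Hens S (SeparableClosure p.ResidueField)) t) (bcInv (Hens S (SeparableClosure p.ResidueField)) t')) :
    AzInv.LocIsoEt S lam t t' := by
  obtain ⟨E, i1, i2, i3, i4, f, hf, hf'⟩ := exists_isoAt (t.linS S lam) (t'.linS S lam) lam
    (fun r x => t.map_smul r x) (fun r x => t'.map_smul r x) fun p _ => isoAt_of_invIso _ (h p)
  exact ⟨E, i1, i2, i3, i4, f, hf, hf'⟩

theorem mat_projective (m : ℕ) [Module.Projective R A] : Module.Projective R (Matrix (Fin m) (Fin m) A) :=
  Module.Projective.of_equiv ((TensorProduct.congr (LinearEquiv.refl R A) (LinearEquiv.refl R (Matrix (Fin m) (Fin m) R))).trans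
    (matrixEquivTensor (Fin m) R A).symm.toLinearEquiv)

theorem mat_finite (m : ℕ) [Module.Finite R A] : Module.Finite R (Matrix (Fin m) (Fin m) A) :=
  Module.Finite.equiv (matrixEquivTensor (Fin m) R A).symm.toLinearEquiv

variable (hlam : ∀ r, lam (lam r) = r) (hfix : RInv.IsFixedRing S R lam.toRingEquiv)

include hlam hfix

/-- Algebras of the same type and degree are locally isomorphic. -/
theorem locIsoEt_of_sameType (hsqH : SqHens S) {n : ℕ} (hn : 0 < n)
    (hcond : IsUnit (2 : S) ∨ RInv.IsQuadEtale S R ∨ Odd n) (hA : AzInv.IsAzumayaDeg R A n)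
    (hA' : AzInv.IsAzumayaDeg R A' n) {t : AzInv.LamInv R A lam} {t' : AzInv.LamInv R A' lam}
    (h : AzInv.SameType S lam t t') : AzInv.LocIsoEt S lam t t' := by
  haveI := hA.1
  haveI := hA'.1
  obtain ⟨m, m', hm, -, E, i1, i2, i3, i4, f, hf, hf'⟩ := h
  refine locIsoEt_of_forall fun p _ => ?_
  haveI := shlr_hens p
  haveI := flat_hens (S := S) (SeparableClosure p.ResidueField)
  let T := Hens S (SeparableClosure p.ResidueField)
  rcases T_cases T hlam hfix with hloc | ⟨e₀, he₀, hσe₀⟩
  · haveI := hloc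
    rcases hcond with h2 | hq | hodd
    · obtain ⟨g⟩ := exists_hom_hens (S := S) T E
      have hiso : IsoAt (R := R) (Matrix (Fin m) (Fin m) A) (Matrix (Fin m') (Fin m') A')
          ((t.matrix (Fin m)).linS S lam) ((t'.matrix (Fin m')).linS S lam) E := ⟨f, hf, hf'⟩
      exact invIso_of_matrix T hlam hfix (hsqH p) (by have h' := h2.map (algebraMap S (T ⊗[S] R)); rwa [map_ofNat] at h') hn hA hA' hm
        (invIso_of_isoAt T (hiso.map T g))
    · exact absurd hloc (not_isLocalRing_of_quadEtale T hq)
    · exact (invIso_transpose_of_odd' T hlam hfix (hsqH p) hodd t hA).trans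
        (invIso_transpose_of_odd' T hlam hfix (hsqH p) hodd t' hA').symm
  · exact (invIso_transpose_of_split T hlam hfix e₀ he₀ hσe₀ hn t hA).trans
      (invIso_transpose_of_split T hlam hfix e₀ he₀ hσe₀ hn t' hA').symm

omit hfix in
/-- Being locally the transpose gives the neutral type. -/
theorem sameType_self_of_forall {n : ℕ} (hn : 0 < n) (hA : AzInv.IsAzumayaDeg R A n) (t : AzInv.LamInv R A lam)
    (h : ∀ (p : Ideal S) [p.IsPrime], InvIso (bcInv (Hens S (SeparableClosure p.ResidueField)) t)
      (bcInv (Hens S (SeparableClosure p.ResidueField)) (AzInv.LamInv.transpose lam (Fin n) hlam))) :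
    AzInv.SameType S lam t (AzInv.LamInv.self lam hlam) := by
  haveI := hA.1
  haveI := mat_finite (R := R) (A := A) 1
  haveI := mat_projective (R := R) (A := A) 1
  haveI := mat_finite (R := R) (A := R) n
  haveI := mat_projective (R := R) (A := R) n
  refine ⟨1, n, one_pos, hn, ?_⟩
  rw [self_matrix]
  refine locIsoEt_of_forall fun p _ => ?_
  exact ((bc_matrix _ t 1).trans (invIso_matrix_one_bc _ t)).trans (h p)
where
  invIso_matrix_one_bc (T : Type u) [CommRing T] [Algebra S T] (t : AzInv.LamInv R A lam) :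
      InvIso ((bcInv T t).matrix (Fin 1)) (bcInv T t) :=
    ⟨{ toFun := fun M => M 0 0
       invFun := fun a => Matrix.scalar (Fin 1) a
       left_inv := fun M => Matrix.ext fun i j => by simp [Subsingleton.elim i 0, Subsingleton.elim j 0]
       right_inv := fun a => by simp
       map_mul' := fun M N => by simp [Matrix.mul_apply]
       map_add' := fun M N => rfl
       commutes' := fun r => by simp [Matrix.algebraMap_matrix_apply] }, fun M => rfl⟩

theorem sameType_self_of_odd (hsqH : SqHens S) {n : ℕ} (hn : Odd n) (hA : AzInv.IsAzumayaDeg R A n)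
    (t : AzInv.LamInv R A lam) : AzInv.SameType S lam t (AzInv.LamInv.self lam hlam) :=
  sameType_self_of_forall hlam hn.pos hA t fun p _ => by
    haveI := shlr_hens p
    haveI := flat_hens (S := S) (SeparableClosure p.ResidueField)
    exact invIso_transpose_of_odd' _ hlam hfix (hsqH p) hn t hA

theorem invIso_transpose_of_quadEtale (hq : RInv.IsQuadEtale S R) {n : ℕ} (hn : 0 < n) (hA : AzInv.IsAzumayaDeg R A n)
    (t : AzInv.LamInv R A lam) (T : Type u) [CommRing T] [Algebra S T] [SHLR T] [Module.Flat S T] :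
    InvIso (bcInv T t) (bcInv T (AzInv.LamInv.transpose lam (Fin n) hlam)) := by
  rcases T_cases T hlam hfix with hloc | ⟨e₀, he₀, hσe₀⟩
  · exact absurd hloc (not_isLocalRing_of_quadEtale T hq)
  · exact invIso_transpose_of_split T hlam hfix e₀ he₀ hσe₀ hn t hA

theorem sameType_self_of_quadEtale (hq : RInv.IsQuadEtale S R) {n : ℕ} (hn : 0 < n) (hA : AzInv.IsAzumayaDeg R A n)
    (t : AzInv.LamInv R A lam) : AzInv.SameType S lam t (AzInv.LamInv.self lam hlam) :=
  sameType_self_of_forall hlam hn hA t fun p _ => by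
    haveI := shlr_hens p
    haveI := flat_hens (S := S) (SeparableClosure p.ResidueField)
    exact invIso_transpose_of_quadEtale hlam hfix hq hn hA t _

theorem exists_unitary_conj (hsqH : SqHens S) {n : ℕ} (hn : 0 < n) (hA : AzInv.IsAzumayaDeg R A n)
    (t : AzInv.LamInv R A lam) (ψ : A ≃ₐ[R] A) (hψ : AzInv.IsInvHom t t ψ) :
    ∃ (E : Type u) (_ : CommRing E) (_ : Algebra S E) (_ : Algebra.Etale S E) (_ : Module.FaithfullyFlat S E)
      (w : (E ⊗[S] A)ˣ), t.bc S lam E (↑w : E ⊗[S] A) * ↑w = 1 ∧
        ∀ x : E ⊗[S] A,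
          Algebra.TensorProduct.congr (AlgEquiv.refl : E ≃ₐ[E] E) (ψ.restrictScalars S) x = ↑w * x * ↑w⁻¹ := by
  haveI := hA.1
  obtain ⟨E, iE, iA, hEt, hFF, w, hw, hwτ⟩ := exists_innerAt (S := S) ψ true (t.linS S lam) fun p _ => by
    haveI := shlr_hens p
    haveI := flat_hens (S := S) (SeparableClosure p.ResidueField)
    exact innerAt_unitary _ hfix hlam (hsqH p) hn hA t ψ hψ
  exact ⟨E, iE, iA, hEt, hFF, w, hwτ rfl, fun x => by rw [← hw x, mul_assoc, Units.mul_inv, mul_one]⟩

end Groth.Misc12.AzI
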