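import Groth.Agent.S5720
import Groth.Agent.Hensel1.StrictBaseChange
import Groth.Agent.Hensel1.BaseLift
import Groth.Prelude.Def_AzInv
import Mathlib.RingTheory.Unramified.Field
import Mathlib.FieldTheory.PurelyInseparable.Basic
import Mathlib.RingTheory.Flat.Rank
import Mathlib.RingTheory.Henselian
import Mathlib.Algebra.Ring.ULift

/-!
Rings with involution over a strictly henselian fixed ring, and Azumaya algebras over strictly henselian local rings.
-/

set_option autoImplicit false
set_option linter.unusedSectionVars false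
set_option linter.style.haveILetI false

universe u v w

open TensorProduct Polynomial IsLocalRing

noncomputable section

namespace Groth.Misc12.AzI

/-- Two possibilities for a ring with involution over a henselian local fixed ring. -/
theorem local_or_idempotent {W : Type u} [CommRing W] [HenselianLocalRing W] {B : Type v} [CommRing B] [Algebra W B]
    (σ : B ≃ₐ[W] B) (hσ : ∀ b, σ (σ b) = b) (hinj : Function.Injective (algebraMap W B))
    (hfix : ∀ b, σ b = b → b ∈ Set.range (algebraMap W B)) :
    IsLocalRing B ∨ ∃ e : B, IsIdempotentElem e ∧ σ e = 1 - e := by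
  haveI : Nontrivial B := hinj.nontrivial
  haveI : Algebra.IsIntegral W B := ⟨fun y => by
    obtain ⟨s, hs⟩ := hfix (y + σ y) (by rw [map_add, hσ, add_comm])
    obtain ⟨p, hp⟩ := hfix (y * σ y) (by rw [map_mul, hσ, mul_comm])
    refine ⟨X ^ 2 + (C (-s) * X + C p), by monicity!, ?_⟩
    simp only [eval₂_add, eval₂_pow, eval₂_X, eval₂_mul, eval₂_C]
    simp only [map_neg, hs, hp]
    ring⟩
  let m := maximalIdeal W
  have hover : ∀ (Q : Ideal B) [Q.IsMaximal], Q.comap (algebraMap W B) = m := fun Q _ =>
    eq_maximalIdeal (Ideal.isMaximal_comap_of_isIntegral_of_isMaximal Q)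
  obtain ⟨P, hP⟩ := Ideal.exists_maximal B
  by_cases hloc : ∀ Q : Ideal B, Q.IsMaximal → Q = P
  · exact Or.inl (IsLocalRing.of_unique_max_ideal ⟨P, hP, hloc⟩)
  push Not at hloc
  obtain ⟨Q, hQ, hne⟩ := hloc
  let P' : Ideal B := P.comap σ.toRingEquiv.toRingHom
  haveI hP' : P'.IsMaximal := Ideal.comap_isMaximal_of_surjective _ σ.surjective
  have hsub : ∀ y ∈ Q, y ∈ P ∨ σ y ∈ P := fun y hy => by
    obtain ⟨p, hp⟩ := hfix (y * σ y) (by rw [map_mul, hσ, mul_comm])
    have h1 : p ∈ Q.comap (algebraMap W B) := by rw [Ideal.mem_comap, hp]; exact Q.mul_mem_right _ hy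
    rw [hover Q, ← hover P, Ideal.mem_comap, hp] at h1
    exact hP.isPrime.mem_or_mem h1
  have hQP' : Q = P' := by
    refine hQ.eq_of_le hP'.ne_top fun y hy => ?_
    by_contra hy'
    have hyP : y ∈ P := (hsub y hy).resolve_right hy'
    obtain ⟨z, hz, hzP⟩ : ∃ z ∈ Q, z ∉ P := by
      by_contra hh
      push Not at hh
      exact hne (hQ.eq_of_le hP.ne_top hh)
    have hzP' : σ z ∈ P := (hsub z hz).resolve_left hzP
    rcases hsub (y + z) (Q.add_mem hy hz) with h | h
    · exact hzP (by simpa using P.sub_mem h hyP)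
    · rw [map_add] at h
      exact hy' (Ideal.mem_comap.2 (by simpa using P.sub_mem h hzP'))
  obtain ⟨a, ha, ha'⟩ : ∃ a ∈ P, σ a ∉ P := by
    by_contra hh
    push Not at hh
    exact hne (hQP'.trans (hP.eq_of_le hP'.ne_top hh).symm)
  obtain ⟨b, hb⟩ := hfix (a + σ a) (by rw [map_add, hσ, add_comm])
  obtain ⟨c, hc⟩ := hfix (a * σ a) (by rw [map_mul, hσ, mul_comm])
  have hbu : IsUnit b := by
    by_contra hn
    have h1 : b ∈ P.comap (algebraMap W B) := by rw [hover P]; exact (mem_maximalIdeal b).2 hn
    rw [Ideal.mem_comap, hb] at h1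
    exact ha' (by simpa using P.sub_mem h1 ha)
  have hcm : c ∈ m := by
    rw [← hover P, Ideal.mem_comap, hc]
    exact P.mul_mem_right _ ha
  obtain ⟨x, hx, hxm⟩ := HenselianLocalRing.is_henselian (X ^ 2 + (C (-b) * X + C c)) (by monicity!) 0
    (by simpa [-mem_maximalIdeal] using hcm) (by simpa using hbu.neg)
  have hx0 : x * x - b * x + c = 0 := by
    have := hx.eq_zero
    simp only [eval_add, eval_pow, eval_X, eval_mul, eval_C] at this
    linear_combination this
  rw [sub_zero] at hxm
  have hd : IsUnit (b - 2 * x) := by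
    by_contra hn
    exact (mem_maximalIdeal b).1 (by simpa [-mem_maximalIdeal] using m.add_mem ((mem_maximalIdeal _).2 hn) (m.mul_mem_left 2 hxm)) hbu
  set d := algebraMap W B (↑hd.unit⁻¹ : W) with hdd
  have hd1 : algebraMap W B (b - 2 * x) * d = 1 := by rw [hdd, ← map_mul, IsUnit.mul_val_inv, map_one]
  set e := (a - algebraMap W B x) * d with hee
  have hσe : σ e = (σ a - algebraMap W B x) * d := by rw [hee, map_mul, map_sub, σ.commutes, hdd, σ.commutes]
  have hsum : e + σ e = 1 := by
    rw [hσe, hee, ← hd1, map_sub, map_mul, hb, map_ofNat]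
    ring
  have hprod : e * σ e = 0 := by
    have h1 : (a - algebraMap W B x) * (σ a - algebraMap W B x) = 0 := by
      have := congrArg (algebraMap W B) hx0
      rw [map_add, map_sub, map_mul, map_mul, hb, hc, map_zero] at this
      linear_combination this
    rw [hσe, hee]
    linear_combination (d * d) * h1
  refine Or.inr ⟨e, ?_, eq_sub_iff_add_eq.2 ((add_comm _ _).trans hsum)⟩
  change e * e = e
  linear_combination e * hsum - hprod

theorem henselianLocalRing_of_ringEquiv {R : Type u} [CommRing R] [HenselianLocalRing R] {R' : Type v} [CommRing R']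
    (e : R ≃+* R') : HenselianLocalRing R' := by
  haveI : IsLocalRing R' := e.isLocalRing
  refine ⟨fun f hf a₀ h1 h2 => ?_⟩
  have hev : ∀ (g : R'[X]) (a : R'), (g.map e.symm.toRingHom).eval (e.symm a) = e.symm (g.eval a) := fun g a => by
    rw [eval_map]
    exact eval₂_at_apply (f := e.symm.toRingHom) a
  obtain ⟨a, ha, ha'⟩ := HenselianLocalRing.is_henselian (f.map e.symm.toRingHom) (hf.map _) (e.symm a₀) (by
      rw [hev, mem_maximalIdeal, mem_nonunits_iff, MulEquiv.isUnit_map]
      rwa [mem_maximalIdeal, mem_nonunits_iff] at h1) (by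
      rw [derivative_map, hev]; exact h2.map _)
  refine ⟨e a, ?_, ?_⟩
  · have := hev f (e a)
    rw [e.symm_apply_apply, ha.eq_zero] at this
    exact e.symm.injective (this.symm.trans (map_zero _).symm)
  · rw [mem_maximalIdeal, mem_nonunits_iff] at ha' ⊢
    intro hu
    exact ha' (by simpa using hu.map e.symm)

/-- Strictly henselian local rings. -/
class SHLR (B : Type u) [CommRing B] : Prop extends HenselianLocalRing B where
  sep : IsSepClosed (ResidueField B)

instance {B : Type u} [CommRing B] [h : SHLR B] : IsSepClosed (ResidueField B) := h.sep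

theorem shlr_of_ringEquiv {R : Type u} [CommRing R] [SHLR R] {R' : Type v} [CommRing R'] (e : R ≃+* R') : SHLR R' := by
  haveI := henselianLocalRing_of_ringEquiv e
  refine ⟨?_⟩
  haveI : IsLocalHom e.toRingHom := ⟨fun a ha => by simpa using ha.map e.symm⟩
  letI : Algebra (ResidueField R) (ResidueField R') := (ResidueField.map e.toRingHom).toAlgebra
  haveI : Algebra.IsAlgebraic (ResidueField R) (ResidueField R') :=
    ⟨fun y => by
      obtain ⟨x, rfl⟩ := residue_surjective y
      refine ⟨X - C (residue R (e.symm x)), X_sub_C_ne_zero _, ?_⟩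
      rw [map_sub, aeval_X, aeval_C, sub_eq_zero, RingHom.algebraMap_toAlgebra, ResidueField.map_residue]
      exact congrArg (residue R') (e.apply_symm_apply x).symm⟩
  exact Algebra.IsAlgebraic.isSepClosed (F := ResidueField R)

/-- An integral local algebra over a strictly henselian local ring is strictly henselian. -/
theorem shlr_of_isIntegral (W : Type u) [CommRing W] [SHLR W] (B : Type u) [CommRing B] [IsLocalRing B] [Algebra W B]
    [Algebra.IsIntegral W B] : SHLR B := by
  have hover : ∀ (P : Ideal B), P.IsMaximal → P.comap (algebraMap W B) = maximalIdeal W := fun P _ =>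
    eq_maximalIdeal (Ideal.isMaximal_comap_of_isIntegral_of_isMaximal P)
  haveI : IsLocalHom (algebraMap W B) :=
    ((IsLocalRing.local_hom_TFAE (algebraMap W B)).out 0 4).mpr (hover _ (maximalIdeal.isMaximal B))
  haveI := Groth.Hensel1.henselianRing_of_isIntegral (I := maximalIdeal W) B
  haveI : HenselianRing B (maximalIdeal B) := by
    refine Groth.Hensel1.henselianRing_of_le_radical (I := (maximalIdeal W).map (algebraMap W B)) ?_
    rw [Ideal.radical_eq_sInf]
    refine le_sInf fun P ⟨hP, hprime⟩ => (eq_maximalIdeal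
      (Ideal.isMaximal_of_isIntegral_of_isMaximal_comap (R := W) P ?_)).ge
    rw [← (maximalIdeal.isMaximal W).eq_of_le (Ideal.IsPrime.ne_top inferInstance) (Ideal.map_le_iff_le_comap.mp hP)]
    exact maximalIdeal.isMaximal W
  haveI := Groth.Hensel1.henselianLocalRing_of_henselianRing (R := B)
  refine ⟨?_⟩
  haveI : Algebra.IsAlgebraic (ResidueField W) (ResidueField B) := by
    haveI : Algebra.IsIntegral W (ResidueField B) :=
      Algebra.IsIntegral.of_surjective (IsScalarTower.toAlgHom W B (ResidueField B)) residue_surjective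
    haveI : Algebra.IsIntegral (ResidueField W) (ResidueField B) := Algebra.IsIntegral.tower_top W
    exact Algebra.IsIntegral.isAlgebraic
  exact Algebra.IsAlgebraic.isSepClosed (F := ResidueField W)

/-- A finite étale faithfully flat algebra over a strictly henselian local ring has a section. -/
theorem exists_section (B : Type u) [CommRing B] [SHLR B] (R' : Type u) [CommRing R'] [Algebra B R'] [Module.Finite B R']
    [Algebra.Etale B R'] [Module.FaithfullyFlat B R'] : Nonempty (R' →ₐ[B] B) := by
  let k := ResidueField B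
  haveI : Nontrivial (k ⊗[B] R') := Module.FaithfullyFlat.rTensor_nontrivial B R' k
  obtain ⟨M, hM⟩ := Ideal.exists_maximal (k ⊗[B] R')
  letI iA : Algebra k ((k ⊗[B] R') ⧸ M) := Ideal.Quotient.algebra k
  letI := Ideal.Quotient.field M
  haveI : Algebra.FormallyUnramified k ((k ⊗[B] R') ⧸ M) :=
    Algebra.FormallyUnramified.comp k (k ⊗[B] R') _
  haveI : Algebra.EssFiniteType k ((k ⊗[B] R') ⧸ M) := inferInstance
  haveI : Algebra.IsSeparable k ((k ⊗[B] R') ⧸ M) := Algebra.FormallyUnramified.isSeparable k _
  have hb : Function.Bijective (algebraMap k ((k ⊗[B] R') ⧸ M)) :=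
    ⟨RingHom.injective _, IsSepClosed.algebraMap_surjective k _⟩
  let σ : R' →ₐ[B] k := (((AlgEquiv.ofBijective (Algebra.ofId k ((k ⊗[B] R') ⧸ M)) hb).symm.toAlgHom.comp
    (Ideal.Quotient.mkₐ k M)).restrictScalars B).comp Algebra.TensorProduct.includeRight
  obtain ⟨τ, -, -⟩ := Groth.Hensel1.existsUnique_algHom_etale_lift (A := B) (C := B) (J := maximalIdeal B) (E := R') σ
  exact ⟨τ⟩

/-- Azumaya algebras over strictly henselian local rings are matrix algebras. -/
theorem split_shlr (B : Type u) [CommRing B] [SHLR B] (A : Type u) [Ring A] [Algebra B A] (n : ℕ)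
    (hA : AzInv.IsAzumayaDeg B A n) : Nonempty (A ≃ₐ[B] Matrix (Fin n) (Fin n) B) := by
  haveI := hA.1
  obtain ⟨f, hf, R', iR', aR', aL, tw, hfin, het, hff, r, hr, ⟨ψ⟩⟩ := Groth.Agent.S5720.result B A (maximalIdeal B)
  have hfu : IsUnit f := by
    by_contra h
    exact hf ((mem_maximalIdeal f).2 h)
  let e : B ≃ₐ[B] Localization.Away f := IsLocalization.atUnit B (Localization.Away f) f hfu
  have hbij : Function.Bijective (algebraMap B (Localization.Away f)) := by
    convert e.bijective
    funext x
    exact (e.commutes x).symm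
  haveI : Module.Finite B (Localization.Away f) := Module.Finite.equiv e.toLinearEquiv
  haveI : Module.Finite B R' := Module.Finite.trans (Localization.Away f) R'
  haveI : Algebra.Etale B (Localization.Away f) := Algebra.Etale.of_equiv e
  haveI : Algebra.Etale B R' := Algebra.Etale.comp B (Localization.Away f) R'
  haveI : Module.FaithfullyFlat B (Localization.Away f) := Module.FaithfullyFlat.of_linearEquiv B B e.symm.toLinearEquiv
  haveI : Module.FaithfullyFlat B R' := Module.FaithfullyFlat.trans B (Localization.Away f) R'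
  obtain ⟨τ⟩ := exists_section B R'
  letI : Algebra R' B := τ.toRingHom.toAlgebra
  haveI : IsScalarTower B R' B := IsScalarTower.of_algebraMap_eq fun x => (τ.commutes x).symm
  let ψ' : A ≃ₐ[B] Matrix (Fin r) (Fin r) B :=
    (Algebra.TensorProduct.lid B A).symm.trans
      (((Groth.Azum.cancelEquiv B A R' B).symm.trans
        ((Algebra.TensorProduct.congr (AlgEquiv.refl : B ≃ₐ[B] B) ψ).trans
          ((matrixEquivTensor (Fin r) R' B).symm.restrictScalars B))))
  haveI : Module.Free B A := Module.Free.of_equiv ψ'.symm.toLinearEquiv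
  have h1 := hA.2 (closedPoint B)
  rw [Module.rankAtStalk_eq_finrank_of_free, ψ'.toLinearEquiv.finrank_eq, Module.finrank_matrix,
    Module.finrank_self, Fintype.card_fin, mul_one, ← sq] at h1
  obtain rfl : r = n := Nat.pow_left_injective two_ne_zero h1
  exact ⟨ψ'⟩

end Groth.Misc12.AzI
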