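import Groth.Agent.Misc12.AzI.Types

/-!
Symmetric elements at a point of the ramification locus.
-/

set_option autoImplicit false
set_option linter.unusedSectionVars false
set_option linter.style.haveILetI false

universe u v w w'

open TensorProduct IsLocalRing

noncomputable section

namespace Groth.Misc12.AzI

section Dim

variable (k : Type u) [Field k] (n : ℕ)

/-- Symmetric or antisymmetric matrices. -/
def symSub (ε : k) : Submodule k (Matrix (Fin n) (Fin n) k) where
  carrier := {Y | Y.transpose = ε • Y}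
  add_mem' {a b} ha hb := by
    simp only [Set.mem_setOf_eq] at ha hb ⊢
    rw [Matrix.transpose_add, ha, hb, smul_add]
  zero_mem' := by simp
  smul_mem' c a ha := by
    simp only [Set.mem_setOf_eq] at ha ⊢
    rw [Matrix.transpose_smul, ha, smul_comm]

theorem mem_symSub {ε : k} {Y : Matrix (Fin n) (Fin n) k} : Y ∈ symSub k n ε ↔ Y.transpose = ε • Y := Iff.rfl

theorem finrank_symSub_one : Module.finrank k (symSub k n 1) = Nat.choose (n + 1) 2 := by
  have hs : ∀ (Y : symSub k n 1) (i j : Fin n), (Y : Matrix (Fin n) (Fin n) k) i j = Y.1 j i := fun Y i j => by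
    simpa using congrFun (congrFun Y.2 j) i
  let e : symSub k n 1 ≃ₗ[k] (Sym2 (Fin n) → k) :=
    { toFun := fun Y => Sym2.lift ⟨fun i j => (Y : Matrix (Fin n) (Fin n) k) i j, hs Y⟩
      invFun := fun f => ⟨Matrix.of fun i j => f s(i, j), Matrix.ext fun i j => by simp [Sym2.eq_swap]⟩
      map_add' := fun Y Z => funext fun z => Sym2.ind (fun i j => rfl) z
      map_smul' := fun c Y => funext fun z => Sym2.ind (fun i j => rfl) z
      left_inv := fun Y => Subtype.ext (Matrix.ext fun i j => rfl)
      right_inv := fun f => funext fun z => Sym2.ind (fun i j => rfl) z }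
  rw [e.finrank_eq, Module.finrank_pi, Sym2.card, Fintype.card_fin]

theorem finrank_symSub_neg_one (h2 : (2 : k) ≠ 0) (hn : 0 < n) :
    Module.finrank k (symSub k n (-1)) ≠ Nat.choose (n + 1) 2 := by
  let f : Matrix (Fin n) (Fin n) k →ₗ[k] Matrix (Fin n) (Fin n) k :=
    LinearMap.id + (Matrix.transposeLinearEquiv (Fin n) (Fin n) k k).toLinearMap
  have hr : LinearMap.range f = symSub k n 1 := by
    refine le_antisymm ?_ fun Y hY => ⟨(2 : k)⁻¹ • Y, ?_⟩
    · rintro _ ⟨Y, rfl⟩
      rw [mem_symSub]
      change (Y + Y.transpose).transpose = (1 : k) • (Y + Y.transpose)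
      rw [Matrix.transpose_add, Matrix.transpose_transpose, one_smul, add_comm]
    · change (2 : k)⁻¹ • Y + ((2 : k)⁻¹ • Y).transpose = Y
      rw [Matrix.transpose_smul, (mem_symSub k n).1 hY, one_smul, ← add_smul, ← two_mul, mul_inv_cancel₀ h2, one_smul]
  have hk : LinearMap.ker f = symSub k n (-1) := by
    ext Y
    rw [LinearMap.mem_ker, mem_symSub, neg_one_smul, eq_neg_iff_add_eq_zero]
    change Y + Y.transpose = 0 ↔ _
    rw [add_comm]
  have h := LinearMap.finrank_range_add_finrank_ker f
  rw [hr, hk, finrank_symSub_one, Module.finrank_matrix, Module.finrank_self, Fintype.card_fin, mul_one] at h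
  intro h0
  rw [h0, Nat.choose_two_right, Nat.add_sub_cancel] at h
  have he : 2 ∣ (n + 1) * n := even_iff_two_dvd.1 (by rw [mul_comm]; exact Nat.even_mul_succ_self n)
  have h' : (n + 1) * n = n * n := by omega
  nlinarith

end Dim

variable {S : Type u} [CommRing S] {R : Type v} [CommRing R] [Algebra S R] {lam : R ≃ₐ[S] R}
variable {A : Type w} [Ring A] [Algebra S A] [Algebra R A] [IsScalarTower S R A]

/-- The span of the symmetric elements over a field. -/
def symSpan (t : AzInv.LamInv R A lam) (k : Type w') [Field k] [Algebra R k] : Submodule k (k ⊗[R] A) :=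
  Submodule.span k (Set.range fun a : {a : A // t a = a} => (1 : k) ⊗ₜ[R] (a : A))

/-- The ramification ideal. -/
def ramIdeal (lam : R ≃ₐ[S] R) : Ideal R := Ideal.span (Set.range fun r => lam r - r)

variable (lam) in
theorem mk_lam (r : R) : Ideal.Quotient.mk (ramIdeal lam) (lam r) = Ideal.Quotient.mk (ramIdeal lam) r :=
  Ideal.Quotient.eq.2 (Ideal.subset_span ⟨r, rfl⟩)

/-- The involution of `(R/I) ⊗ A`. -/
def tBar (t : AzInv.LamInv R A lam) :
    (R ⧸ ramIdeal lam) ⊗[R] A →ₗ[R ⧸ ramIdeal lam] (R ⧸ ramIdeal lam) ⊗[R] A :=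
  LinearMap.liftBaseChange _
    { toFun := fun a => (1 : R ⧸ ramIdeal lam) ⊗ₜ[R] t a
      map_add' := fun a b => by rw [t.map_add, tmul_add]
      map_smul' := fun r a => by
        rw [t.map_smul, RingHom.id_apply, tmul_smul, ← algebraMap_smul (R ⧸ ramIdeal lam) (lam r),
          ← algebraMap_smul (R ⧸ ramIdeal lam) r, Ideal.Quotient.algebraMap_eq, mk_lam] }

theorem tBar_tmul (t : AzInv.LamInv R A lam) (c : R ⧸ ramIdeal lam) (a : A) :
    tBar t (c ⊗ₜ[R] a) = c ⊗ₜ[R] t a := by
  simp [tBar, TensorProduct.smul_tmul']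

/-- The symmetric summand. -/
def symPart (t : AzInv.LamInv R A lam) : Submodule (R ⧸ ramIdeal lam) ((R ⧸ ramIdeal lam) ⊗[R] A) :=
  LinearMap.range (LinearMap.id + tBar t)

theorem symPart_split (t : AzInv.LamInv R A lam) (h2 : IsUnit (2 : R ⧸ ramIdeal lam)) :
    ∃ p : (R ⧸ ramIdeal lam) ⊗[R] A →ₗ[R ⧸ ramIdeal lam] symPart t, p.comp (symPart t).subtype = LinearMap.id := by
  obtain ⟨c, hc⟩ := h2.exists_left_inv
  refine ⟨c • (LinearMap.id + tBar t).rangeRestrict, LinearMap.ext ?_⟩
  rintro ⟨_, x, rfl⟩
  refine Subtype.ext ?_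
  have hinv : ∀ y, tBar t (tBar t y) = y := fun y => by
    induction y using TensorProduct.induction_on with
    | zero => simp
    | tmul e a => rw [tBar_tmul, tBar_tmul, t.invol]
    | add y z hy hz => rw [map_add, map_add, hy, hz]
  change c • ((x + tBar t x) + tBar t (x + tBar t x)) = x + tBar t x
  rw [map_add, hinv, add_comm (tBar t x) x, ← two_smul (R ⧸ ramIdeal lam) (x + tBar t x), smul_smul, hc, one_smul]

theorem symPart_projective [Module.Projective R A] (t : AzInv.LamInv R A lam) (h2 : IsUnit (2 : R ⧸ ramIdeal lam)) :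
    Module.Projective (R ⧸ ramIdeal lam) (symPart t) := by
  obtain ⟨p, hp⟩ := symPart_split t h2
  exact Module.Projective.of_split (symPart t).subtype p hp

theorem symPart_finite [Module.Finite R A] (t : AzInv.LamInv R A lam) :
    Module.Finite (R ⧸ ramIdeal lam) (symPart t) := Module.Finite.range _

/-- The span over a field is the fibre of the symmetric summand. -/
theorem finrank_symSpan [Module.Finite R A] [Module.Projective R A] (t : AzInv.LamInv R A lam)
    (h2 : IsUnit (2 : R ⧸ ramIdeal lam)) (k : Type w') [Field k] [Algebra R k] [Algebra (R ⧸ ramIdeal lam) k]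
    [IsScalarTower R (R ⧸ ramIdeal lam) k] :
    Module.finrank k (symSpan t k) =
      Module.rankAtStalk (R := R ⧸ ramIdeal lam) (symPart t)
        (PrimeSpectrum.comap (algebraMap (R ⧸ ramIdeal lam) k) (⊥ : PrimeSpectrum k)) := by
  set Rb := R ⧸ ramIdeal lam
  haveI := symPart_projective t h2
  haveI := symPart_finite t
  rw [← Module.rankAtStalk_baseChange (S := k) (M := symPart t), Module.rankAtStalk_eq_finrank_of_free]
  simp only [Pi.natCast_apply, Nat.cast_id]
  obtain ⟨p, hp⟩ := symPart_split t h2
  let C : k ⊗[Rb] (Rb ⊗[R] A) ≃ₗ[k] k ⊗[R] A := TensorProduct.AlgebraTensorModule.cancelBaseChange R Rb k k A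
  let ι : k ⊗[Rb] symPart t →ₗ[k] k ⊗[R] A := C.toLinearMap.comp ((symPart t).subtype.baseChange k)
  have hι : Function.Injective ι := C.injective.comp fun x y hxy => by
    have h := congrArg (p.baseChange k) hxy
    rwa [← LinearMap.comp_apply, ← LinearMap.comp_apply, ← LinearMap.baseChange_comp, hp, LinearMap.baseChange_id] at h
  have hC : ∀ (c : k) (a : A), C (c ⊗ₜ[Rb] ((1 : Rb) ⊗ₜ[R] a)) = c ⊗ₜ[R] a := fun c a => by simp [C]
  have hr : LinearMap.range ι = symSpan t k := by
    refine le_antisymm ?_ (Submodule.span_le.2 ?_)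
    · rintro _ ⟨z, rfl⟩
      induction z using TensorProduct.induction_on with
      | zero => simp
      | add x y hx hy => rw [map_add]; exact add_mem hx hy
      | tmul c z =>
        obtain ⟨_, x, rfl⟩ := z
        have key : ∀ (c : k) (x : Rb ⊗[R] A), C (c ⊗ₜ[Rb] (x + tBar t x)) ∈ symSpan t k := by
          intro c x
          induction x using TensorProduct.induction_on with
          | zero => simp
          | add x y hx hy =>
            rw [map_add, add_add_add_comm, tmul_add, map_add]
            exact add_mem hx hy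
          | tmul r a =>
            obtain ⟨r, rfl⟩ := Ideal.Quotient.mk_surjective r
            have h1 : (Ideal.Quotient.mk (ramIdeal lam) r ⊗ₜ[R] a + tBar t (Ideal.Quotient.mk (ramIdeal lam) r ⊗ₜ[R] a) :
                Rb ⊗[R] A) = (Ideal.Quotient.mk (ramIdeal lam) r) • ((1 : Rb) ⊗ₜ[R] (a + t a)) := by
              rw [tBar_tmul, ← tmul_add, TensorProduct.smul_tmul', smul_eq_mul, mul_one]
            rw [h1, ← TensorProduct.smul_tmul, hC]
            rw [show ((Ideal.Quotient.mk (ramIdeal lam) r • c) ⊗ₜ[R] (a + t a) : k ⊗[R] A) =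
              (Ideal.Quotient.mk (ramIdeal lam) r • c) • ((1 : k) ⊗ₜ[R] (a + t a)) by
                rw [TensorProduct.smul_tmul', smul_eq_mul, mul_one]]
            exact Submodule.smul_mem _ _ (Submodule.subset_span ⟨⟨a + t a, by rw [t.map_add, t.invol, add_comm]⟩, rfl⟩)
        exact key c x
    · rintro _ ⟨⟨a, ha⟩, rfl⟩
      obtain ⟨d, hd⟩ := h2.exists_left_inv
      refine ⟨(1 : k) ⊗ₜ[Rb] (⟨(1 : Rb) ⊗ₜ[R] a, d • ((1 : Rb) ⊗ₜ[R] a), ?_⟩ : symPart t), hC 1 a⟩
      rw [map_smul, LinearMap.add_apply, LinearMap.id_apply, tBar_tmul, ha, ← two_smul Rb ((1 : Rb) ⊗ₜ[R] a), smul_smul,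
        hd, one_smul]
  rw [← hr, LinearMap.finrank_range_of_inj hι]

section AtT

variable (T : Type u) [CommRing T] [Algebra S T] [SHLR T] [Module.Flat S T]
variable (hlam : ∀ r, lam (lam r) = r) (hfix : RInv.IsFixedRing S R lam.toRingEquiv)
variable [IsLocalRing (T ⊗[S] R)]

/-- The map of `R` to the residue field of `T ⊗ R`. -/
def resMap : R →+* ResidueField (T ⊗[S] R) :=
  (residue (T ⊗[S] R)).comp (Algebra.TensorProduct.includeRight : R →ₐ[S] T ⊗[S] R).toRingHom

include hlam hfix in
theorem resMap_lam (r : R) : resMap (S := S) T (lam r) = resMap (S := S) T r :=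
  Ideal.Quotient.eq.2 (resT T hlam hfix ((1 : T) ⊗ₜ[S] r))

include hlam hfix in
/-- The symmetric span at the residue field of `T ⊗ R` detects the sign. -/
theorem finrank_symSpan_of_sgnT (h2 : IsUnit (2 : T ⊗[S] R)) {n : ℕ} (hn : 0 < n)
    (hA : AzInv.IsAzumayaDeg R A n) (t : AzInv.LamInv R A lam) :
    letI := (resMap (S := S) (R := R) T).toAlgebra
    (SgnT T hlam t n 1 → Module.finrank (ResidueField (T ⊗[S] R)) (symSpan t (ResidueField (T ⊗[S] R))) = Nat.choose (n + 1) 2) ∧
      (SgnT T hlam t n (-1) →
        Module.finrank (ResidueField (T ⊗[S] R)) (symSpan t (ResidueField (T ⊗[S] R))) ≠ Nat.choose (n + 1) 2) := by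
  letI iA := (resMap (S := S) (R := R) T).toAlgebra
  set B := T ⊗[S] R
  set k := ResidueField B
  have h2k : (2 : k) ≠ 0 := by
    have := h2.map (residue B)
    rw [map_ofNat] at this
    exact this.ne_zero
  haveI := hA.1
  -- the common computation
  have core : ∀ (ε : B), SgnT T hlam t n ε →
      Module.finrank k (symSpan t k) = Module.finrank k (symSub k n (residue B ε)) := by
    rintro ε ⟨M, ⟨F, hF⟩, u, e, ⟨hu, hM⟩, he⟩
    let Θ : A →ₗ[R] Matrix (Fin n) (Fin n) k :=
      { toFun := fun a => (F ((1 : T) ⊗ₜ[S] a)).map (residue B)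
        map_add' := fun a b => by rw [tmul_add, map_add, Matrix.map_add _ (map_add (residue B))]
        map_smul' := fun r a => by
          rw [RingHom.id_apply, show ((1 : T) ⊗ₜ[S] (r • a) : T ⊗[S] A) = ((1 : T) ⊗ₜ[S] r : B) • ((1 : T) ⊗ₜ[S] a) by
            rw [Algebra.smul_def, Algebra.smul_def, taAlgebra_map, taHom_tmul, Algebra.TensorProduct.tmul_mul_tmul, one_mul],
            map_smul, Matrix.map_smul' _ _ _ (map_mul (residue B))]
          ext i j
          rw [Matrix.smul_apply, Matrix.smul_apply, Algebra.smul_def]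
          rfl }
    let Θk : k ⊗[R] A →ₗ[k] Matrix (Fin n) (Fin n) k := Θ.liftBaseChange k
    have hres : ∀ z : T ⊗[S] A, (F z).map (residue B) ∈ Submodule.span k (Set.range Θ) := fun z => by
      induction z using TensorProduct.induction_on with
      | zero => simp
      | add x y hx hy => rw [map_add, Matrix.map_add _ (map_add (residue B))]; exact add_mem hx hy
      | tmul c a =>
        rw [show (c ⊗ₜ[S] a : T ⊗[S] A) = (c ⊗ₜ[S] (1 : R) : B) • ((1 : T) ⊗ₜ[S] a) by
          rw [Algebra.smul_def, taAlgebra_map, taHom_tmul, map_one, Algebra.TensorProduct.tmul_mul_tmul, mul_one, one_mul],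
          map_smul, Matrix.map_smul' _ _ _ (map_mul (residue B))]
        exact Submodule.smul_mem _ _ (Submodule.subset_span ⟨a, rfl⟩)
    have hsurj : Function.Surjective Θk := fun X => by
      obtain ⟨Y, rfl⟩ : ∃ Y : Matrix (Fin n) (Fin n) B, Y.map (residue B) = X :=
        ⟨Matrix.of fun i j => (residue_surjective (X i j)).choose, Matrix.ext fun i j => (residue_surjective (X i j)).choose_spec⟩
      obtain ⟨z, rfl⟩ := F.surjective Y
      have hz := hres z
      generalize (F z).map (residue B) = X at hz ⊢
      induction hz using Submodule.span_induction with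
      | mem X hX => obtain ⟨a, rfl⟩ := hX; exact ⟨1 ⊗ₜ a, by simp [Θk]⟩
      | zero => exact ⟨0, map_zero _⟩
      | add x y _ _ hx hy => obtain ⟨a, rfl⟩ := hx; obtain ⟨b, rfl⟩ := hy; exact ⟨a + b, map_add _ _ _⟩
      | smul c x _ hx => obtain ⟨a, rfl⟩ := hx; exact ⟨c • a, map_smul _ _ _⟩
    have hfr : Module.finrank k (k ⊗[R] A) = Module.finrank k (Matrix (Fin n) (Fin n) k) := by
      have h1 := Module.rankAtStalk_baseChange (R := R) (M := A) (S := k) (⊥ : PrimeSpectrum k)
      rw [hA.2, Module.rankAtStalk_eq_finrank_of_free] at h1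
      simp only [Pi.natCast_apply, Nat.cast_id] at h1
      rw [h1, Module.finrank_matrix, Module.finrank_self, Fintype.card_fin, mul_one, sq]
    have hinj : Function.Injective Θk := (LinearMap.injective_iff_surjective_of_finrank_eq_finrank hfr).2 hsurj
    -- right multiplication by `u`
    let ub : Matrix (Fin n) (Fin n) k := (u : Matrix (Fin n) (Fin n) B).map (residue B)
    let uib : Matrix (Fin n) (Fin n) k := (↑u⁻¹ : Matrix (Fin n) (Fin n) B).map (residue B)
    have hub : ub * uib = 1 := by
      rw [← Matrix.map_mul, Units.mul_inv, Matrix.map_one _ (map_zero _) (map_one _)]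
    have hbu : uib * ub = 1 := by
      rw [← Matrix.map_mul, Units.inv_mul, Matrix.map_one _ (map_zero _) (map_one _)]
    let Rm : Matrix (Fin n) (Fin n) k →ₗ[k] Matrix (Fin n) (Fin n) k := LinearMap.mulRight k ub
    have hRm : Function.Injective Rm := fun X Y h => by
      have := congrArg (· * uib) h
      simpa [Rm, Matrix.mul_assoc, hub] using this
    have htr : ∀ Z : Matrix (Fin n) (Fin n) B,
        (AzInv.LamInv.transpose (σT T lam) (Fin n) (σT_invol T hlam) Z).map (residue B) = (Z.map (residue B)).transpose :=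
      fun Z => Matrix.ext fun i j => Ideal.Quotient.eq.2 (resT T hlam hfix (Z j i))
    have hee : residue B e = residue B ε := Ideal.Quotient.eq.2 he
    have hubT : ub.transpose = residue B ε • ub := by
      rw [← htr, hu, Matrix.map_smul' _ _ _ (map_mul (residue B)), hee]
    have hεε : residue B ε * residue B ε = 1 := by
      have h6 := congrArg Matrix.transpose hubT
      rw [Matrix.transpose_transpose, Matrix.transpose_smul, hubT, smul_smul] at h6
      have h7 := congrArg (· * uib) h6
      simp only [Matrix.smul_mul, hub] at h7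
      exact (smul_one_inj hn ((one_smul k (1 : Matrix (Fin n) (Fin n) k)).trans h7)).symm
    have hMres : ∀ Z, (M Z).map (residue B) = ub * (Z.map (residue B)).transpose * uib := fun Z => by
      rw [hM, Matrix.map_mul, Matrix.map_mul, htr]
    have himg : (symSpan t k).map (Rm.comp Θk) = symSub k n (residue B ε) := by
      refine le_antisymm ?_ fun Y hY => ?_
      · rw [symSpan, Submodule.map_span, Submodule.span_le]
        rintro _ ⟨_, ⟨⟨a, ha⟩, rfl⟩, rfl⟩
        rw [SetLike.mem_coe, mem_symSub]
        simp only [LinearMap.comp_apply, Θk, LinearMap.liftBaseChange_tmul, one_smul, Rm, LinearMap.mulRight_apply]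
        change ((F ((1 : T) ⊗ₜ[S] a)).map (residue B) * ub).transpose =
          residue B ε • ((F ((1 : T) ⊗ₜ[S] a)).map (residue B) * ub)
        set Z := F ((1 : T) ⊗ₜ[S] a)
        have hZ : ub * (Z.map (residue B)).transpose * uib = Z.map (residue B) := by
          rw [← hMres, ← hF, bcInv_tmul, ha]
        rw [Matrix.transpose_mul, hubT, Matrix.smul_mul]
        congr 1
        conv_rhs => rw [← hZ]
        rw [Matrix.mul_assoc _ uib, hbu, mul_one]
      · rw [mem_symSub] at hY
        obtain ⟨x, hx⟩ : ∃ Z : Matrix (Fin n) (Fin n) B, Z.map (residue B) = Y * uib :=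
          ⟨Matrix.of fun i j => (residue_surjective ((Y * uib) i j)).choose,
            Matrix.ext fun i j => (residue_surjective ((Y * uib) i j)).choose_spec⟩
        obtain ⟨z, rfl⟩ := F.surjective x
        -- `X = Y u⁻¹` is fixed modulo the maximal ideal
        have hfixY : (M (F z)).map (residue B) = (F z).map (residue B) := by
          rw [hMres, hx, Matrix.transpose_mul, hY]
          have h3 : ub * uib.transpose = residue B ε • 1 := by
            have h4 : ub.transpose * uib.transpose = 1 := by rw [← Matrix.transpose_mul, hbu, Matrix.transpose_one]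
            rw [hubT, Matrix.smul_mul] at h4
            have h5 := congrArg (residue B ε • ·) h4
            simp only [smul_smul] at h5
            rwa [hεε, one_smul] at h5
          rw [← Matrix.mul_assoc ub, h3, Matrix.smul_mul, one_mul, Matrix.smul_mul, Matrix.smul_mul, smul_smul]
          rw [hεε, one_smul]
        have hsym : ∀ w : T ⊗[S] A, (F (w + bcInv T t w)).map (residue B) ∈ (symSpan t k).map Θk := fun w => by
          induction w using TensorProduct.induction_on with
          | zero => simp [AzInv.LamInv.map_zero]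
          | add x y hx hy =>
            rw [AzInv.LamInv.map_add, add_add_add_comm, map_add, Matrix.map_add _ (map_add (residue B))]
            exact add_mem hx hy
          | tmul c a =>
            rw [bcInv_tmul, ← tmul_add, show (c ⊗ₜ[S] (a + t a) : T ⊗[S] A) = (c ⊗ₜ[S] (1 : R) : B) • ((1 : T) ⊗ₜ[S] (a + t a)) by
              rw [Algebra.smul_def, taAlgebra_map, taHom_tmul, map_one, Algebra.TensorProduct.tmul_mul_tmul, mul_one, one_mul],
              map_smul, Matrix.map_smul' _ _ _ (map_mul (residue B))]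
            refine Submodule.smul_mem _ _ ⟨1 ⊗ₜ (a + t a), Submodule.subset_span ⟨⟨a + t a, by rw [t.map_add, t.invol, add_comm]⟩, rfl⟩, ?_⟩
            simp only [Θk, LinearMap.liftBaseChange_tmul, one_smul]
            rfl
        obtain ⟨y, hy, hy'⟩ := hsym z
        rw [map_add, hF, Matrix.map_add _ (map_add (residue B)), hfixY, ← two_smul k, hx] at hy'
        refine ⟨(2 : k)⁻¹ • y, Submodule.smul_mem _ _ hy, ?_⟩
        rw [LinearMap.comp_apply, map_smul, hy', smul_smul, inv_mul_cancel₀ h2k, one_smul]
        simp [Rm, Matrix.mul_assoc, hbu]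
    rw [← himg]
    exact (Submodule.equivMapOfInjective (Rm.comp Θk) (hRm.comp hinj) (symSpan t k)).finrank_eq
  refine ⟨fun h => ?_, fun h => ?_⟩
  · rw [core 1 h, map_one, finrank_symSub_one]
  · rw [core (-1) h, map_neg, map_one]
    exact finrank_symSub_neg_one k n h2k hn

end AtT

end Groth.Misc12.AzI
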