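import Groth.Agent.Misc12.AzI.Global
import Groth.Agent.Misc12.AzI.Sym

/-!
Orthogonal and symplectic points of the ramification locus.
-/

set_option autoImplicit false
set_option linter.unusedSectionVars false
set_option linter.style.haveILetI false

universe u v w w'

open TensorProduct IsLocalRing
open Groth.Hensel1 Groth.Sga3.HensPoint

noncomputable section

namespace Groth.Misc12.AzI

variable {S : Type u} [CommRing S] {R : Type v} [CommRing R] [Algebra S R] {lam : R ≃ₐ[S] R}
variable {A : Type w} [Ring A] [Algebra S A] [Algebra R A] [IsScalarTower S R A]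
variable {A' : Type w'} [Ring A'] [Algebra S A'] [Algebra R A'] [IsScalarTower S R A']

/-- `t` is orthogonal at `q`. -/
def OrthAt (t : AzInv.LamInv R A lam) (n : ℕ) (q : PrimeSpectrum R) : Prop :=
  Module.finrank q.asIdeal.ResidueField
      (Submodule.span q.asIdeal.ResidueField
        (Set.range fun a : {a : A // t a = a} => (1 : q.asIdeal.ResidueField) ⊗ₜ[R] (a : A))) = Nat.choose (n + 1) 2

/-- The rank of the symmetric summand. -/
def symRank (t : AzInv.LamInv R A lam) (Q : PrimeSpectrum (R ⧸ ramIdeal lam)) : ℕ :=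
  Module.rankAtStalk (R := R ⧸ ramIdeal lam) (symPart t) Q

theorem ramIdeal_le {I : Ideal R} : ramIdeal lam ≤ I ↔ ∀ r, lam r - r ∈ I := by
  rw [ramIdeal, Ideal.span_le]
  exact ⟨fun h r => h ⟨r, rfl⟩, fun h x ⟨r, hr⟩ => hr ▸ h r⟩

theorem two_quot (h2 : IsUnit (2 : S)) : IsUnit (2 : R ⧸ ramIdeal lam) := by
  have := h2.map ((Ideal.Quotient.mk (ramIdeal lam)).comp (algebraMap S R))
  rwa [map_ofNat] at this

/-- The dimension over a field depends only on the prime. -/
theorem finrank_symSpan_field [Module.Finite R A] [Module.Projective R A] (t : AzInv.LamInv R A lam) (h2 : IsUnit (2 : S))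
    (k : Type (max u v)) [Field k] [Algebra R k] (hk : ∀ r, algebraMap R k (lam r) = algebraMap R k r)
    (q : PrimeSpectrum R) (hq : q.asIdeal = RingHom.ker (algebraMap R k)) :
    Module.finrank k (symSpan t k) =
      Module.finrank q.asIdeal.ResidueField (symSpan t q.asIdeal.ResidueField) := by
  have hIk : ramIdeal lam ≤ RingHom.ker (algebraMap R k) := ramIdeal_le.2 fun r => by
    rw [RingHom.mem_ker, map_sub, hk, sub_self]
  have hIq : ramIdeal lam ≤ RingHom.ker (algebraMap R q.asIdeal.ResidueField) := ramIdeal_le.2 fun r => by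
    rw [Ideal.ker_algebraMap_residueField, hq]
    exact ramIdeal_le.1 hIk r
  letI : Algebra (R ⧸ ramIdeal lam) k := (Ideal.Quotient.lift _ (algebraMap R k) hIk).toAlgebra
  haveI : IsScalarTower R (R ⧸ ramIdeal lam) k := IsScalarTower.of_algebraMap_eq fun r => rfl
  letI : Algebra (R ⧸ ramIdeal lam) q.asIdeal.ResidueField :=
    (Ideal.Quotient.lift _ (algebraMap R q.asIdeal.ResidueField) hIq).toAlgebra
  haveI : IsScalarTower R (R ⧸ ramIdeal lam) q.asIdeal.ResidueField := IsScalarTower.of_algebraMap_eq fun r => rfl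
  rw [finrank_symSpan t (two_quot h2), finrank_symSpan t (two_quot h2)]
  congr 1
  refine PrimeSpectrum.comap_injective_of_surjective (Ideal.Quotient.mk (ramIdeal lam)) Ideal.Quotient.mk_surjective ?_
  rw [← PrimeSpectrum.comap_comp_apply, ← PrimeSpectrum.comap_comp_apply]
  refine PrimeSpectrum.ext ?_
  change Ideal.comap (algebraMap R k) ⊥ = Ideal.comap (algebraMap R q.asIdeal.ResidueField) ⊥
  rw [← RingHom.ker_eq_comap_bot, ← RingHom.ker_eq_comap_bot, Ideal.ker_algebraMap_residueField, hq]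

theorem orthAt_iff [Module.Finite R A] [Module.Projective R A] (t : AzInv.LamInv R A lam) (h2 : IsUnit (2 : S)) (n : ℕ)
    (q : PrimeSpectrum R) (Q : PrimeSpectrum (R ⧸ ramIdeal lam))
    (hQ : PrimeSpectrum.comap (Ideal.Quotient.mk (ramIdeal lam)) Q = q) :
    OrthAt t n q ↔ symRank t Q = Nat.choose (n + 1) 2 := by
  have hIq : ramIdeal lam ≤ RingHom.ker (algebraMap R q.asIdeal.ResidueField) := by
    rw [Ideal.ker_algebraMap_residueField, ← hQ]
    intro x hx
    change Ideal.Quotient.mk (ramIdeal lam) x ∈ Q.asIdeal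
    rw [Ideal.Quotient.eq_zero_iff_mem.2 hx]
    exact zero_mem _
  letI : Algebra (R ⧸ ramIdeal lam) q.asIdeal.ResidueField :=
    (Ideal.Quotient.lift _ (algebraMap R q.asIdeal.ResidueField) hIq).toAlgebra
  haveI : IsScalarTower R (R ⧸ ramIdeal lam) q.asIdeal.ResidueField := IsScalarTower.of_algebraMap_eq fun r => rfl
  change Module.finrank q.asIdeal.ResidueField (symSpan t q.asIdeal.ResidueField) = _ ↔ _
  rw [finrank_symSpan t (two_quot h2), symRank]
  suffices h : PrimeSpectrum.comap (algebraMap (R ⧸ ramIdeal lam) q.asIdeal.ResidueField) ⊥ = Q by rw [h]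
  refine PrimeSpectrum.comap_injective_of_surjective (Ideal.Quotient.mk (ramIdeal lam)) Ideal.Quotient.mk_surjective ?_
  rw [hQ, ← PrimeSpectrum.comap_comp_apply]
  refine PrimeSpectrum.ext ?_
  change Ideal.comap (algebraMap R q.asIdeal.ResidueField) ⊥ = q.asIdeal
  rw [← RingHom.ker_eq_comap_bot, Ideal.ker_algebraMap_residueField]

theorem exists_over {q : PrimeSpectrum R} (hq : ∀ r, lam r - r ∈ q.asIdeal) :
    ∃ Q : PrimeSpectrum (R ⧸ ramIdeal lam), PrimeSpectrum.comap (Ideal.Quotient.mk (ramIdeal lam)) Q = q := by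
  have h : q ∈ Set.range (PrimeSpectrum.comap (Ideal.Quotient.mk (ramIdeal lam))) := by
    rw [range_comap_of_surjective _ _ Ideal.Quotient.mk_surjective, PrimeSpectrum.mem_zeroLocus, Ideal.mk_ker]
    exact ramIdeal_le.2 hq
  exact h

/-- The set of orthogonal points of the ramification locus is clopen. -/
theorem isClopen_symRank [Module.Finite R A] [Module.Projective R A] (t : AzInv.LamInv R A lam) (h2 : IsUnit (2 : S))
    (c : ℕ) : IsClopen {Q : PrimeSpectrum (R ⧸ ramIdeal lam) | symRank t Q = c} := by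
  haveI := symPart_projective t (two_quot h2)
  haveI := symPart_finite t
  haveI : Module.FinitePresentation (R ⧸ ramIdeal lam) (symPart t) := Module.finitePresentation_of_projective (R ⧸ ramIdeal lam) (symPart t)
  exact Module.isLocallyConstant_rankAtStalk.isClopen_fiber c

theorem exists_nbhd (h2 : IsUnit (2 : S)) [Module.Finite R A] [Module.Projective R A] (t : AzInv.LamInv R A lam) (n : ℕ)
    (q : PrimeSpectrum R) (hq : ∀ r : R, lam r - r ∈ q.asIdeal) :
    ∃ f : R, f ∉ q.asIdeal ∧ ∀ q' : PrimeSpectrum R, (∀ r : R, lam r - r ∈ q'.asIdeal) → f ∉ q'.asIdeal →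
      (OrthAt t n q' ↔ OrthAt t n q) := by
  obtain ⟨Q, hQ⟩ := exists_over hq
  have hopen : IsOpen {Q' : PrimeSpectrum (R ⧸ ramIdeal lam) |
      symRank t Q' = Nat.choose (n + 1) 2 ↔ symRank t Q = Nat.choose (n + 1) 2} := by
    by_cases h : symRank t Q = Nat.choose (n + 1) 2
    · simpa [h] using (isClopen_symRank t h2 (Nat.choose (n + 1) 2)).isOpen
    · simp only [h, iff_false]
      exact (isClopen_symRank t h2 (Nat.choose (n + 1) 2)).compl.isOpen
  obtain ⟨_, ⟨g, rfl⟩, hgQ, hg⟩ :=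
    PrimeSpectrum.isTopologicalBasis_basic_opens.exists_subset_of_mem_open (a := Q) Iff.rfl hopen
  obtain ⟨f, rfl⟩ := Ideal.Quotient.mk_surjective g
  refine ⟨f, fun hf => hgQ ?_, fun q' hq' hf => ?_⟩
  · rw [← hQ] at hf; exact hf
  · obtain ⟨Q', hQ'⟩ := exists_over hq'
    rw [orthAt_iff t h2 n q' Q' hQ', orthAt_iff t h2 n q Q hQ]
    refine hg (show Ideal.Quotient.mk (ramIdeal lam) f ∉ Q'.asIdeal from ?_)
    rw [← hQ'] at hf
    exact hf

/-! ### The ring at a point -/

theorem mem_maximal_hens (p : Ideal S) [p.IsPrime] (s : S) :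
    haveI := shlr_hens p
    algebraMap S (Hens S (SeparableClosure p.ResidueField)) s ∈
      maximalIdeal (Hens S (SeparableClosure p.ResidueField)) ↔ s ∈ p := by
  haveI := shlr_hens p
  have h : IsUnit (algebraMap S (Hens S (SeparableClosure p.ResidueField)) s) ↔ s ∉ p := by
    rw [Hens.isUnit_iff, AlgHom.commutes]
    exact ⟨fun h hs => h (by
        rw [IsScalarTower.algebraMap_apply S p.ResidueField, Ideal.algebraMap_residueField_eq_zero.2 hs, map_zero]),
      fun hs => algebraMap_ne_zero p hs⟩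
  rw [mem_maximalIdeal, mem_nonunits_iff, h, not_not]

variable (hlam : ∀ r, lam (lam r) = r) (hfix : RInv.IsFixedRing S R lam.toRingEquiv)

include hlam hfix in
theorem exists_sum_mul (r : R) :
    (∃ s, algebraMap S R s = r + lam r) ∧ ∃ s, algebraMap S R s = r * lam r :=
  ⟨(hfix.2 _).1 (show lam (r + lam r) = _ by rw [map_add, hlam, add_comm]),
    (hfix.2 _).1 (show lam (r * lam r) = _ by rw [map_mul, hlam, mul_comm])⟩

include hlam hfix in
/-- A ramified prime is the only prime over its image. -/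
theorem eq_of_comap_eq (q q' : PrimeSpectrum R) (hq : ∀ r, lam r - r ∈ q.asIdeal)
    (h : PrimeSpectrum.comap (algebraMap S R) q' = PrimeSpectrum.comap (algebraMap S R) q) : q' = q := by
  have hiff : ∀ s, algebraMap S R s ∈ q'.asIdeal ↔ algebraMap S R s ∈ q.asIdeal := fun s =>
    SetLike.ext_iff.1 (congrArg PrimeSpectrum.asIdeal h) s
  refine PrimeSpectrum.ext (le_antisymm (fun x hx => ?_) fun y hy => ?_)
  · obtain ⟨-, s, hs⟩ := exists_sum_mul hlam hfix x
    have h1 : algebraMap S R s ∈ q.asIdeal := (hiff s).1 (hs ▸ Ideal.mul_mem_right _ _ hx)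
    rcases q.isPrime.mem_or_mem (hs ▸ h1) with h2 | h2
    · exact h2
    · simpa using Ideal.sub_mem _ h2 (hq x)
  · obtain ⟨⟨s, hs⟩, p, hp⟩ := exists_sum_mul hlam hfix y
    have hly : lam y ∈ q.asIdeal := by simpa using Ideal.add_mem _ (hq y) hy
    have h1 : algebraMap S R s ∈ q'.asIdeal := (hiff s).2 (hs ▸ Ideal.add_mem _ hy hly)
    have h2 : algebraMap S R p ∈ q'.asIdeal := (hiff p).2 (hp ▸ Ideal.mul_mem_right _ _ hy)
    refine q'.isPrime.mem_of_pow_mem 2 ?_
    rw [show y ^ 2 = algebraMap S R s * y - algebraMap S R p by rw [hs, hp]; ring]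
    exact Ideal.sub_mem _ (Ideal.mul_mem_right _ _ h1) h2

section AtP

variable (p : Ideal S) [p.IsPrime]

local notation "Tp" => Hens S (SeparableClosure p.ResidueField)

include hlam hfix in
theorem comap_prime_TR [SHLR Tp] (P : Ideal (Tp ⊗[S] R)) [P.IsMaximal] :
    PrimeSpectrum.comap (algebraMap S R)
      ⟨P.comap (Algebra.TensorProduct.includeRight : R →ₐ[S] Tp ⊗[S] R).toRingHom, inferInstance⟩ =
      (⟨p, inferInstance⟩ : PrimeSpectrum S) := by
  haveI := flat_hens (S := S) (SeparableClosure p.ResidueField)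
  haveI : Algebra.IsIntegral Tp (Tp ⊗[S] R) := ⟨fun y => by
    obtain ⟨s, hs⟩ := (fixed_bc lam Tp hfix).2 (y + lamT lam Tp y) (by rw [map_add, lamT_lamT lam Tp hlam, add_comm])
    obtain ⟨r, hr⟩ := (fixed_bc lam Tp hfix).2 (y * lamT lam Tp y) (by rw [map_mul, lamT_lamT lam Tp hlam, mul_comm])
    refine ⟨Polynomial.X ^ 2 + (Polynomial.C (-s) * Polynomial.X + Polynomial.C r), by monicity!, ?_⟩
    simp only [Polynomial.eval₂_add, Polynomial.eval₂_pow, Polynomial.eval₂_X, Polynomial.eval₂_mul, Polynomial.eval₂_C]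
    simp only [map_neg, hs, hr]
    ring⟩
  refine PrimeSpectrum.ext (Ideal.ext fun s => ?_)
  change (Algebra.TensorProduct.includeRight : R →ₐ[S] Tp ⊗[S] R) (algebraMap S R s) ∈ P ↔ s ∈ p
  rw [AlgHom.commutes, ← mem_maximal_hens p s, IsScalarTower.algebraMap_apply S Tp (Tp ⊗[S] R),
    ← eq_maximalIdeal (Ideal.isMaximal_comap_of_isIntegral_of_isMaximal P)]
  rfl

include hlam hfix in
/-- Above the image of a ramified prime the ring stays local, with that prime below the maximal ideal. -/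
theorem local_of_ramified [SHLR Tp] [Module.Flat S Tp] (q : PrimeSpectrum R) (hq : ∀ r, lam r - r ∈ q.asIdeal)
    (hqp : (PrimeSpectrum.comap (algebraMap S R) q).asIdeal = p) :
    ∃ _ : IsLocalRing (Tp ⊗[S] R), RingHom.ker (resMap (S := S) (R := R) Tp) = q.asIdeal := by
  haveI := nontrivial_TR (lam := lam) Tp hfix
  have hP : ∀ (P : Ideal (Tp ⊗[S] R)) [P.IsMaximal],
      P.comap (Algebra.TensorProduct.includeRight : R →ₐ[S] Tp ⊗[S] R).toRingHom = q.asIdeal := fun P _ => by
    let q' : PrimeSpectrum R :=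
      ⟨P.comap (Algebra.TensorProduct.includeRight : R →ₐ[S] Tp ⊗[S] R).toRingHom, inferInstance⟩
    refine congrArg PrimeSpectrum.asIdeal (eq_of_comap_eq hlam hfix q q' hq ?_)
    exact (comap_prime_TR hlam hfix p P).trans (PrimeSpectrum.ext hqp.symm)
  have hloc : IsLocalRing (Tp ⊗[S] R) := by
    rcases T_cases Tp hlam hfix with h | ⟨e₀, he₀, hσe₀⟩
    · exact h
    obtain ⟨P, hPm⟩ := Ideal.exists_maximal (Tp ⊗[S] R)
    have hσP : ∀ z, σT Tp lam z - z ∈ P := fun z => by
      induction z using TensorProduct.induction_on with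
      | zero => simp
      | add x y hx hy => rw [map_add, add_sub_add_comm]; exact add_mem hx hy
      | tmul c r =>
        have h1 : (Algebra.TensorProduct.includeRight : R →ₐ[S] Tp ⊗[S] R) (lam r - r) ∈ P := by
          have := hq r
          rwa [← hP P, Ideal.mem_comap] at this
        rw [show σT Tp lam (c ⊗ₜ[S] r) - c ⊗ₜ[S] r = (c ⊗ₜ[S] (1 : R)) * ((1 : Tp) ⊗ₜ[S] (lam r - r)) by
          rw [Algebra.TensorProduct.tmul_mul_tmul, mul_one, one_mul, tmul_sub]; rfl]
        exact Ideal.mul_mem_left _ _ h1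
    refine absurd ((Ideal.eq_top_iff_one P).2 ?_) hPm.ne_top
    have h1 := hσP e₀
    rw [hσe₀] at h1
    have h2 := Ideal.mul_mem_left P (1 - e₀ - e₀) h1
    have hee : e₀ * e₀ = e₀ := he₀
    rwa [show (1 - e₀ - e₀) * (1 - e₀ - e₀) = 1 by linear_combination 4 * hee] at h2
  haveI := hloc
  refine ⟨hloc, ?_⟩
  rw [resMap, ← RingHom.comap_ker, ker_residue]
  exact hP _

include hlam hfix in
theorem sgnT_orth [SHLR Tp] [Module.Flat S Tp] [IsLocalRing (Tp ⊗[S] R)] (h2 : IsUnit (2 : S)) {n : ℕ} (hn : 0 < n)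
    (hA : AzInv.IsAzumayaDeg R A n) (t : AzInv.LamInv R A lam) (q : PrimeSpectrum R)
    (hker : RingHom.ker (resMap (S := S) (R := R) Tp) = q.asIdeal) :
    (SgnT Tp hlam t n 1 → OrthAt t n q) ∧ (SgnT Tp hlam t n (-1) → ¬ OrthAt t n q) ∧
      (OrthAt t n q → SgnT Tp hlam t n 1) ∧ (¬ OrthAt t n q → SgnT Tp hlam t n (-1)) := by
  haveI := hA.1
  letI iA := (resMap (S := S) (R := R) Tp).toAlgebra
  have h2B : IsUnit (2 : Tp ⊗[S] R) := by
    have := h2.map (algebraMap S (Tp ⊗[S] R))
    rwa [map_ofNat] at this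
  have hd := finrank_symSpan_field t h2 (ResidueField (Tp ⊗[S] R)) (resMap_lam Tp hlam hfix) q hker.symm
  obtain ⟨h1, hm1⟩ := finrank_symSpan_of_sgnT Tp hlam hfix h2B hn hA t
  have a : SgnT Tp hlam t n 1 → OrthAt t n q := fun h => hd.symm.trans (h1 h)
  have b : SgnT Tp hlam t n (-1) → ¬ OrthAt t n q := fun h ho => hm1 h (hd.trans ho)
  refine ⟨a, b, fun ho => ?_, fun hno => ?_⟩
  · rcases sgnT_cases Tp hlam hfix (sqHens_of_two h2 p) h2B t hn hA with h | h
    · exact h
    · exact absurd ho (b h)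
  · rcases sgnT_cases Tp hlam hfix (sqHens_of_two h2 p) h2B t hn hA with h | h
    · exact absurd (a h) hno
    · exact h

include hlam hfix in
/-- In the local case there is a ramified prime under the maximal ideal. -/
theorem exists_ramified [SHLR Tp] [Module.Flat S Tp] [IsLocalRing (Tp ⊗[S] R)] :
    ∃ q : PrimeSpectrum R, (∀ r, lam r - r ∈ q.asIdeal) ∧
      (PrimeSpectrum.comap (algebraMap S R) q).asIdeal = p ∧
      RingHom.ker (resMap (S := S) (R := R) Tp) = q.asIdeal := by
  let q : PrimeSpectrum R :=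
    ⟨(maximalIdeal (Tp ⊗[S] R)).comap (Algebra.TensorProduct.includeRight : R →ₐ[S] Tp ⊗[S] R).toRingHom, inferInstance⟩
  refine ⟨q, fun r => ?_, congrArg PrimeSpectrum.asIdeal (comap_prime_TR hlam hfix p _), ?_⟩
  · have := resT Tp hlam hfix ((1 : Tp) ⊗ₜ[S] r)
    change ((1 : Tp) ⊗ₜ[S] (lam r - r)) ∈ maximalIdeal (Tp ⊗[S] R)
    rw [tmul_sub]
    exact this
  · rw [resMap, ← RingHom.comap_ker, ker_residue]

end AtP

include hlam hfix in
theorem orth_iff_of_sameType (h2 : IsUnit (2 : S)) {n n' : ℕ} (hn : 0 < n) (hn' : 0 < n')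
    (hA : AzInv.IsAzumayaDeg R A n) (hA' : AzInv.IsAzumayaDeg R A' n') {t : AzInv.LamInv R A lam}
    {t' : AzInv.LamInv R A' lam} (h : AzInv.SameType S lam t t') (q : PrimeSpectrum R)
    (hq : ∀ r, lam r - r ∈ q.asIdeal) : OrthAt t n q ↔ OrthAt t' n' q := by
  obtain ⟨m, m', hm, -, E, i1, i2, i3, i4, f, hf, hf'⟩ := h
  let p := (PrimeSpectrum.comap (algebraMap S R) q).asIdeal
  haveI := shlr_hens p
  haveI := flat_hens (S := S) (SeparableClosure p.ResidueField)
  obtain ⟨hloc, hker⟩ := local_of_ramified hlam hfix p q hq rfl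
  haveI := hloc
  set T := Hens S (SeparableClosure p.ResidueField)
  obtain ⟨g⟩ := exists_hom_hens (S := S) T E
  have hiso : IsoAt (R := R) (Matrix (Fin m) (Fin m) A) (Matrix (Fin m') (Fin m') A')
      ((t.matrix (Fin m)).linS S lam) ((t'.matrix (Fin m')).linS S lam) E := ⟨f, hf, hf'⟩
  have hinv := invIso_of_isoAt T (hiso.map T g)
  have h2B : IsUnit (2 : T ⊗[S] R) := by
    have := h2.map (algebraMap S (T ⊗[S] R))
    rwa [map_ofNat] at this
  have key : ∀ ε ε' : T ⊗[S] R, SgnT T hlam t n ε → SgnT T hlam t' n' ε' → ε - ε' ∈ maximalIdeal (T ⊗[S] R) :=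
    fun ε ε' hs hs' => ((hs.matrix T hlam hfix m).congr T hlam hfix hinv).unique T hlam hfix (Nat.mul_pos hm hn)
      (hs'.matrix T hlam hfix m')
  obtain ⟨a, b, c, d⟩ := sgnT_orth hlam hfix p h2 hn hA t q hker
  obtain ⟨a', b', c', d'⟩ := sgnT_orth hlam hfix p h2 hn' hA' t' q hker
  refine ⟨fun ho => ?_, fun ho => ?_⟩ <;> by_contra hno
  · exact not_one_sub_neg_one h2B (key _ _ (c ho) (d' hno))
  · refine not_one_sub_neg_one h2B ?_
    rw [← neg_sub]
    exact (Ideal.neg_mem_iff _).2 (key _ _ (d hno) (c' ho))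

include hlam hfix in
theorem sameType_of_orth_iff (h2 : IsUnit (2 : S)) {n n' : ℕ} (hn : 0 < n) (hn' : 0 < n')
    (hA : AzInv.IsAzumayaDeg R A n) (hA' : AzInv.IsAzumayaDeg R A' n') {t : AzInv.LamInv R A lam}
    {t' : AzInv.LamInv R A' lam}
    (h : ∀ q : PrimeSpectrum R, (∀ r, lam r - r ∈ q.asIdeal) → (OrthAt t n q ↔ OrthAt t' n' q)) :
    AzInv.SameType S lam t t' := by
  haveI := hA.1
  haveI := hA'.1
  haveI := mat_finite (R := R) (A := A) n'
  haveI := mat_projective (R := R) (A := A) n'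
  haveI := mat_finite (R := R) (A := A') n
  haveI := mat_projective (R := R) (A := A') n
  refine ⟨n', n, hn', hn, locIsoEt_of_forall fun p _ => ?_⟩
  haveI := shlr_hens p
  haveI := flat_hens (S := S) (SeparableClosure p.ResidueField)
  let T := Hens S (SeparableClosure p.ResidueField)
  have hpos : 0 < n' * n := Nat.mul_pos hn' hn
  rcases T_cases T hlam hfix with hloc | ⟨e₀, he₀, hσe₀⟩
  · haveI := hloc
    obtain ⟨q, hq, -, hker⟩ := exists_ramified hlam hfix p
    have h2B : IsUnit (2 : T ⊗[S] R) := by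
      have := h2.map (algebraMap S (T ⊗[S] R))
      rwa [map_ofNat] at this
    obtain ⟨-, -, c, d⟩ := sgnT_orth hlam hfix p h2 hn hA t q hker
    obtain ⟨-, -, c', d'⟩ := sgnT_orth hlam hfix p h2 hn' hA' t' q hker
    by_cases ho : OrthAt t n q
    · exact SgnT.invIso T hlam hfix (sqHens_of_two h2 p) h2B hpos (Nat.mul_comm _ _) (Or.inl rfl)
        ((c ho).matrix T hlam hfix n') ((c' ((h q hq).1 ho)).matrix T hlam hfix n)
    · exact SgnT.invIso T hlam hfix (sqHens_of_two h2 p) h2B hpos (Nat.mul_comm _ _) (Or.inr rfl)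
        ((d ho).matrix T hlam hfix n') ((d' (mt (h q hq).2 ho)).matrix T hlam hfix n)
  · obtain ⟨M, hM⟩ := exists_model T hlam hfix t n hA
    obtain ⟨M', hM'⟩ := exists_model T hlam hfix t' n' hA'
    have std : ∀ (N : ℕ), 0 < N → ∀ X : AzInv.LamInv (T ⊗[S] R) (Matrix (Fin N) (Fin N) (T ⊗[S] R)) (σT T lam),
        InvIso X (AzInv.LamInv.transpose (σT T lam) (Fin N) (σT_invol T hlam)) := fun N hN X =>
      invIso_transpose_of_idem (hσ := σT_invol T hlam) (innerT T hlam hfix N) hN e₀ he₀ hσe₀ X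
    have h1 := (model_matrix T hlam hfix hM n').trans (std _ hpos _)
    have h1' := (model_matrix T hlam hfix hM' n).trans (std _ (Nat.mul_pos hn hn') _)
    rw [Nat.mul_comm n n'] at h1'
    exact h1.trans h1'.symm

end Groth.Misc12.AzI
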