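import Groth.Agent.Misc12.AzI.Core
import Groth.Agent.Misc12.AzI.DescendUnit
import Groth.Prelude.Def_W4c2azumayainvolQEt
import Mathlib.RingTheory.Flat.Basic

/-!
The strict henselization `T` of `S` at a prime, the ring with involution `T ⊗ R` and the algebra `T ⊗ A` over it.
-/

set_option autoImplicit false
set_option linter.unusedSectionVars false
set_option linter.style.haveILetI false

universe u v w

open TensorProduct IsLocalRing
open Groth.Hensel1 Groth.Sga3.HensPoint

noncomputable section

namespace Groth.Misc12.AzI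

variable {S : Type u} [CommRing S]

theorem flat_hens (Ω : Type u) [Field Ω] [Algebra S Ω] : Module.Flat S (Hens S Ω) := by
  classical
  refine Module.Flat.of_forall_isTrivialRelation fun {l a x} h => ?_
  obtain ⟨i, y, hy⟩ := Hens.exists_of_fintype x
  have h0 : Hens.of i (∑ k, a k • y k) = Hens.of i 0 := by simpa [hy] using h
  obtain ⟨j, hij, hj⟩ := Hens.exists_tr_eq h0
  rw [map_sum, map_zero] at hj
  simp only [map_smul] at hj
  have : Module.Flat S j.P.Ring := inferInstance
  have : Module.Flat j.P.Ring j.Obj := IsLocalization.flat _ j.q.primeCompl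
  have : Module.Flat S j.Obj := Module.Flat.trans S j.P.Ring j.Obj
  obtain ⟨k, b, z, hz, hb⟩ := Module.Flat.isTrivialRelation_of_sum_smul_eq_zero (f := a) (x := fun q => HensIdx.tr i j hij (y q))
    (by simpa [Algebra.smul_def] using hj)
  refine ⟨k, b, fun m => Hens.of j (z m), fun m => ?_, hb⟩
  rw [← hy m, ← Hens.of_tr hij, show HensIdx.tr i j hij (y m) = _ from hz m, map_sum]
  simp only [map_smul]

theorem shlr_hens (p : Ideal S) [p.IsPrime] : SHLR (Hens S (SeparableClosure p.ResidueField)) :=
  { toHenselianLocalRing := inferInstance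
    sep := isSepClosed_residueField p }

variable {R : Type v} [CommRing R] [Algebra S R] (lam : R ≃ₐ[S] R)
variable (T : Type u) [CommRing T] [Algebra S T]

/-- The involution of `T ⊗ R`. -/
abbrev lamT : T ⊗[S] R ≃ₐ[T] T ⊗[S] R := Algebra.TensorProduct.congr (AlgEquiv.refl : T ≃ₐ[T] T) lam

theorem lamT_lamT (hlam : ∀ r, lam (lam r) = r) (z : T ⊗[S] R) : lamT lam T (lamT lam T z) = z := by
  induction z using TensorProduct.induction_on with
  | zero => simp
  | tmul t r => simp [hlam]
  | add x y hx hy => rw [map_add, map_add, hx, hy]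

theorem fixed_bc [Module.Flat S T] (hfix : RInv.IsFixedRing S R lam.toRingEquiv) :
    Function.Injective (algebraMap T (T ⊗[S] R)) ∧
      ∀ z, lamT lam T z = z → z ∈ Set.range (algebraMap T (T ⊗[S] R)) := by
  let i : S →ₗ[S] R := Algebra.linearMap S R
  let d : R →ₗ[S] R := lam.toLinearMap - LinearMap.id
  have hi : Function.Injective i := hfix.1
  have hex : Function.Exact i d := fun r => by
    change lam r - r = 0 ↔ r ∈ Set.range (algebraMap S R)
    rw [sub_eq_zero]
    exact hfix.2 r
  have hT := Module.Flat.lTensor_exact T hex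
  have hiT := Module.Flat.lTensor_preserves_injective_linearMap (M := T) i hi
  have halg : ∀ t : T, algebraMap T (T ⊗[S] R) t = i.lTensor T (t ⊗ₜ[S] (1 : S)) := fun t => by simp [i]
  refine ⟨fun a b h => ?_, fun z hz => ?_⟩
  · rw [halg, halg] at h
    simpa using congrArg (TensorProduct.rid S T) (hiT h)
  · have hd : d.lTensor T z = lamT lam T z - z := by
      clear hz
      induction z using TensorProduct.induction_on with
      | zero => simp
      | tmul t r => simp [d, tmul_sub]
      | add x y hx hy => rw [map_add, map_add, hx, hy]; abel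
    obtain ⟨y, rfl⟩ := (hT z).1 (by rw [hd, hz, sub_self])
    refine ⟨TensorProduct.rid S T y, ?_⟩
    rw [halg]
    congr 1
    exact (TensorProduct.rid S T).symm_apply_apply y

variable (A : Type w) [Ring A] [Algebra S A] [Algebra R A] [IsScalarTower S R A]

/-- `T ⊗ R → T ⊗ A`. -/
def taHom : T ⊗[S] R →ₐ[T] T ⊗[S] A :=
  Algebra.TensorProduct.map (AlgHom.id T T) (IsScalarTower.toAlgHom S R A)

theorem taHom_tmul (t : T) (r : R) : taHom T A (t ⊗ₜ[S] r) = t ⊗ₜ[S] algebraMap R A r := rfl

theorem taHom_commute (c : T ⊗[S] R) (x : T ⊗[S] A) : taHom T A c * x = x * taHom T A c := by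
  induction c using TensorProduct.induction_on with
  | zero => simp
  | add a b ha hb => rw [map_add, add_mul, mul_add, ha, hb]
  | tmul t r =>
    induction x using TensorProduct.induction_on with
    | zero => simp
    | add a b ha hb => rw [mul_add, add_mul, ha, hb]
    | tmul t' a =>
      rw [taHom_tmul, Algebra.TensorProduct.tmul_mul_tmul, Algebra.TensorProduct.tmul_mul_tmul, Algebra.commutes,
        mul_comm t t']

/-- `T ⊗ A` as an algebra over `T ⊗ R`. -/
scoped instance taAlgebra : Algebra (T ⊗[S] R) (T ⊗[S] A) :=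
  (taHom T A).toRingHom.toAlgebra' (taHom_commute T A)

theorem taAlgebra_map (c : T ⊗[S] R) : algebraMap (T ⊗[S] R) (T ⊗[S] A) c = taHom T A c := rfl

theorem isAzumayaDeg_ta (n : ℕ) (hA : AzInv.IsAzumayaDeg R A n) :
    AzInv.IsAzumayaDeg (T ⊗[S] R) (T ⊗[S] A) n := by
  letI : Algebra R (T ⊗[S] R) := Algebra.TensorProduct.rightAlgebra
  letI : Algebra R (T ⊗[S] A) := ((taHom T A).toRingHom.comp (algebraMap R (T ⊗[S] R))).toAlgebra' fun r x =>
    taHom_commute T A (algebraMap R (T ⊗[S] R) r) x
  haveI : IsScalarTower R (T ⊗[S] R) (T ⊗[S] A) := IsScalarTower.of_algebraMap_eq fun r => rfl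
  let inc : A →ₐ[R] T ⊗[S] A :=
    { (Algebra.TensorProduct.includeRight : A →ₐ[S] T ⊗[S] A).toRingHom with
      commutes' := fun r => rfl }
  let Φ : (T ⊗[S] R) ⊗[R] A →ₐ[T ⊗[S] R] T ⊗[S] A :=
    Algebra.TensorProduct.lift (Algebra.ofId _ _) inc fun c a => taHom_commute T A c _
  have hΦ : Function.Bijective Φ := by
    let g : T ⊗[S] A →+ (T ⊗[S] R) ⊗[R] A := TensorProduct.liftAddHom
      { toFun := fun t =>
          { toFun := fun a => (t ⊗ₜ[S] (1 : R)) ⊗ₜ[R] a
            map_zero' := TensorProduct.tmul_zero _ _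
            map_add' := fun a b => TensorProduct.tmul_add _ _ _ }
        map_zero' := by ext a; simp
        map_add' := fun t t' => by ext a; simp [TensorProduct.add_tmul] }
      fun s t a => by
        change ((s • t) ⊗ₜ[S] (1 : R)) ⊗ₜ[R] a = (t ⊗ₜ[S] (1 : R)) ⊗ₜ[R] (s • a)
        rw [← algebraMap_smul R s a, ← TensorProduct.smul_tmul, TensorProduct.smul_tmul]
        congr 1
        rw [Algebra.smul_def (algebraMap S R s) (t ⊗ₜ[S] (1 : R))]
        change _ = ((1 : T) ⊗ₜ[S] algebraMap S R s) * (t ⊗ₜ[S] (1 : R))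
        rw [Algebra.TensorProduct.tmul_mul_tmul, one_mul, mul_one, Algebra.algebraMap_eq_smul_one]
    have hg : ∀ t a, g (t ⊗ₜ[S] a) = (t ⊗ₜ[S] (1 : R)) ⊗ₜ[R] a := fun t a => rfl
    refine Function.bijective_iff_has_inverse.2 ⟨g, fun x => ?_, fun x => ?_⟩
    · induction x using TensorProduct.induction_on with
      | zero => simp
      | add x y hx hy => rw [map_add, map_add, hx, hy]
      | tmul c a =>
        induction c using TensorProduct.induction_on with
        | zero => simp
        | add x y hx hy => rw [TensorProduct.add_tmul, map_add, map_add, hx, hy]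
        | tmul t r =>
          change g (taHom T A (t ⊗ₜ[S] r) * ((1 : T) ⊗ₜ[S] a)) = _
          rw [taHom_tmul, Algebra.TensorProduct.tmul_mul_tmul, mul_one, hg, ← Algebra.smul_def, ← TensorProduct.smul_tmul]
          congr 1
          change ((1 : T) ⊗ₜ[S] r) * (t ⊗ₜ[S] (1 : R)) = _
          rw [Algebra.TensorProduct.tmul_mul_tmul, one_mul, mul_one]
    · induction x using TensorProduct.induction_on with
      | zero => simp
      | add x y hx hy => rw [map_add, map_add, hx, hy]
      | tmul t a =>
        rw [hg]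
        change taHom T A (t ⊗ₜ[S] (1 : R)) * ((1 : T) ⊗ₜ[S] a) = _
        rw [taHom_tmul, map_one, Algebra.TensorProduct.tmul_mul_tmul, mul_one, one_mul]
  exact isAzumayaDeg_of_algEquiv (AlgEquiv.ofBijective Φ hΦ) n (isAzumayaDeg_baseChange R A n hA (T ⊗[S] R))

variable [SHLR T] [Module.Flat S T]

/-- `T ⊗ A` is a matrix algebra over `T ⊗ R`. -/
theorem ta_split (hlam : ∀ r, lam (lam r) = r) (hfix : RInv.IsFixedRing S R lam.toRingEquiv) (n : ℕ)
    (hA : AzInv.IsAzumayaDeg R A n) :
    Nonempty (T ⊗[S] A ≃ₐ[T ⊗[S] R] Matrix (Fin n) (Fin n) (T ⊗[S] R)) :=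
  split_core (lamT lam T) (lamT_lamT lam T hlam) (fixed_bc lam T hfix).1 (fixed_bc lam T hfix).2 _ n
    (isAzumayaDeg_ta T A n hA)

end Groth.Misc12.AzI
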