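import Groth.Agent.Misc12.AzI.Ram
import Mathlib.RingTheory.Spectrum.Prime.Topology
import Mathlib.RingTheory.Spectrum.Prime.Jacobson
import Mathlib.LinearAlgebra.Basis.Basic

/-!
The everywhere ramified case and the case of a trivial involution.
-/

set_option autoImplicit false
set_option linter.unusedSectionVars false
set_option linter.style.haveILetI false

universe u v w w'

open TensorProduct IsLocalRing
open Groth.Hensel1 Groth.Sga3.HensPoint

noncomputable section

namespace Groth.Misc12.AzI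

variable {S : Type u} [CommRing S] {R : Type v} [CommRing R] [Algebra S R] {lam : R ≃ₐ[S] R}
variable {A : Type w} [Ring A] [Algebra S A] [Algebra R A] [IsScalarTower S R A]
variable (hlam : ∀ r, lam (lam r) = r) (hfix : RInv.IsFixedRing S R lam.toRingEquiv)

/-- An element whose square is an invertible scalar generates a quadratic étale algebra over a base with `2`
invertible. -/
theorem quadEtale_of_skew {P : Type u} [CommRing P] {B : Type w} [CommRing B] [Algebra P B] (σ : B ≃ₐ[P] B)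
    (hσ : ∀ b, σ (σ b) = b) (hinj : Function.Injective (algebraMap P B))
    (hfix : ∀ b, σ b = b → b ∈ Set.range (algebraMap P B)) (h2 : IsUnit (2 : P)) (d : B) (hd : σ d = -d) (s : P)
    (hs : IsUnit s) (hds : d * d = algebraMap P B s) : RInv.IsQuadEtale P B := by
  obtain ⟨c, hc⟩ := h2.exists_left_inv
  obtain ⟨si, hsi⟩ := hs.exists_left_inv
  have hc2 : algebraMap P B c * 2 = 1 := by rw [← map_ofNat (algebraMap P B), ← map_mul, hc, map_one]
  have hsd : algebraMap P B si * (d * d) = 1 := by rw [hds, ← map_mul, hsi, map_one]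
  let L : (Fin 2 → P) →ₗ[P] B := Fintype.linearCombination P ![1, d]
  have hL : ∀ v, L v = algebraMap P B (v 0) + algebraMap P B (v 1) * d := fun v => by
    simp [L, Fintype.linearCombination_apply, Fin.sum_univ_two, Algebra.smul_def]
  have hbij : Function.Bijective L := by
    refine ⟨(injective_iff_map_eq_zero L).2 fun v hv => ?_, fun z => ?_⟩
    · rw [hL] at hv
      have h1 := congrArg σ hv
      rw [map_add, map_mul, σ.commutes, σ.commutes, hd, map_zero] at h1
      have h0 : algebraMap P B (v 0) = 0 := by linear_combination algebraMap P B c * (hv + h1) - algebraMap P B (v 0) * hc2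
      have h0' : algebraMap P B (v 1) = 0 := by
        linear_combination algebraMap P B si * d * (hv - h0) - algebraMap P B (v 1) * hsd
      funext i
      match i with
      | 0 => exact hinj (h0.trans (map_zero _).symm)
      | 1 => exact hinj (h0'.trans (map_zero _).symm)
    · obtain ⟨a, ha⟩ := hfix (z + σ z) (by rw [map_add, hσ, add_comm])
      obtain ⟨b, hb⟩ := hfix (d * (z - σ z)) (by rw [map_mul, map_sub, hd, hσ]; ring)
      refine ⟨![c * a, c * si * b], ?_⟩
      rw [hL]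
      simp only [Matrix.cons_val_zero, Matrix.cons_val_one, map_mul, ha, hb]
      linear_combination (algebraMap P B c * (z - σ z)) * hsd + z * hc2
  let bas : Module.Basis (Fin 2) P B := (Pi.basisFun P (Fin 2)).map (LinearEquiv.ofBijective L hbij)
  haveI : Module.Free P B := Module.Free.of_basis bas
  haveI : Module.Finite P B := Module.Finite.of_basis bas
  refine ⟨inferInstance, inferInstance, ?_, fun Q => ?_⟩
  · rw [Algebra.FormallyUnramified.iff_comp_injective]
    intro C _ _ I hI f₁ f₂ he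
    have hmem : ∀ x, f₁ x - f₂ x ∈ I := fun x => Ideal.Quotient.eq.1 (DFunLike.congr_fun he x)
    set δ := f₁ d - f₂ d with hδ
    have hδ2 : δ * δ = 0 := by
      have : δ * δ ∈ I ^ 2 := by rw [sq]; exact Ideal.mul_mem_mul (hmem d) (hmem d)
      rwa [hI] at this
    have hsq : f₁ d * f₁ d = f₂ d * f₂ d := by rw [← map_mul, ← map_mul, hds, f₁.commutes, f₂.commutes]
    have hzero : δ = 0 := by
      have h3 : 2 * f₁ d * δ = 0 := by linear_combination hsq + hδ2 + (f₁ d - f₂ d + δ) * hδ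
      have hu : IsUnit (2 * f₁ d) := by
        have hu2 : IsUnit (2 : C) := by
          have := h2.map (algebraMap P C)
          rwa [map_ofNat] at this
        refine hu2.mul (IsUnit.of_mul_eq_one (algebraMap P C si * f₁ d) ?_)
        have := congrArg f₁ hsd
        rw [map_mul, map_mul, f₁.commutes, map_one] at this
        linear_combination this
      exact hu.mul_right_eq_zero.1 h3
    refine AlgHom.ext fun x => ?_
    obtain ⟨v, rfl⟩ := hbij.2 x
    rw [hL]
    simp only [map_add, map_mul, AlgHom.commutes]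
    linear_combination algebraMap P C (v 1) * hzero - algebraMap P C (v 1) * hδ
  · haveI : Nontrivial P := Q.nontrivial
    rw [Module.rankAtStalk_eq_finrank_of_free]
    simp [Module.finrank_eq_card_basis bas]

include hlam hfix in
theorem ramified_of_not_quadEtale (h2 : IsUnit (2 : S)) (q : PrimeSpectrum R)
    (hnq : ∀ p : PrimeSpectrum S,
        ¬ RInv.IsQuadEtale (Localization.AtPrime p.asIdeal) (Localization.AtPrime p.asIdeal ⊗[S] R))
    (r : R) : lam r - r ∈ q.asIdeal := by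
  by_contra hr
  let p := PrimeSpectrum.comap (algebraMap S R) q
  set d := lam r - r
  have hd : lam d = -d := by simp [d, hlam]
  obtain ⟨s, hs⟩ : ∃ s, algebraMap S R s = d * d := (hfix.2 _).1 (show lam (d * d) = _ by rw [map_mul, hd, neg_mul_neg])
  have hsp : s ∉ p.asIdeal := fun h => hr (by
    have h1 : algebraMap S R s ∈ q.asIdeal := h
    rw [hs] at h1
    exact (q.isPrime.mem_or_mem h1).elim id id)
  let P := Localization.AtPrime p.asIdeal
  haveI : Module.Flat S P := IsLocalization.flat _ p.asIdeal.primeCompl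
  refine hnq p (quadEtale_of_skew (lamT lam P) (lamT_lamT lam P hlam) (fixed_bc lam P hfix).1 (fixed_bc lam P hfix).2
    (by have := h2.map (algebraMap S P); rwa [map_ofNat] at this) ((1 : P) ⊗ₜ[S] d) ?_ (algebraMap S P s)
    (IsLocalization.map_units P (⟨s, hsp⟩ : p.asIdeal.primeCompl)) ?_)
  · simp [hd, TensorProduct.tmul_neg]
  · rw [Algebra.TensorProduct.tmul_mul_tmul, one_mul, ← hs, Algebra.TensorProduct.algebraMap_apply,
      Algebra.algebraMap_self_apply, Algebra.algebraMap_eq_smul_one, Algebra.algebraMap_eq_smul_one, TensorProduct.smul_tmul]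

include hlam hfix in
theorem isIntegral_fixed : Algebra.IsIntegral S R := ⟨fun y => by
  obtain ⟨⟨s, hs⟩, p, hp⟩ := exists_sum_mul hlam hfix y
  refine ⟨Polynomial.X ^ 2 + (Polynomial.C (-s) * Polynomial.X + Polynomial.C p), by monicity!, ?_⟩
  simp only [Polynomial.eval₂_add, Polynomial.eval₂_pow, Polynomial.eval₂_X, Polynomial.eval₂_mul, Polynomial.eval₂_C]
  simp only [map_neg, hs, hp]
  ring⟩

theorem exists_skew_matrix (n : ℕ) :
    ∃ J : (Matrix (Fin n) (Fin n) R)ˣ, Even n →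
      AzInv.LamInv.transpose lam (Fin n) hlam (J : Matrix (Fin n) (Fin n) R) = -(J : Matrix (Fin n) (Fin n) R) := by
  by_cases h : Even n
  · obtain ⟨k, hk⟩ := h
    let ψ : Fin k × Bool ≃ Fin n := Fintype.equivFinOfCardEq (by simp; omega)
    refine ⟨Units.map (Matrix.reindexAlgEquiv R R ψ).toMulEquiv.toMonoidHom (hyp k), fun _ => ?_⟩
    ext i j
    change lam ((hyp k : (Matrix (Fin k × Bool) (Fin k × Bool) R)ˣ).1 (ψ.symm j) (ψ.symm i)) =
      -(hyp k : (Matrix (Fin k × Bool) (Fin k × Bool) R)ˣ).1 (ψ.symm i) (ψ.symm j)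
    rw [hyp_apply, hyp_apply]
    obtain ⟨a, b⟩ := ψ.symm i
    obtain ⟨c, d⟩ := ψ.symm j
    by_cases hac : a = c
    · subst hac; cases b <;> cases d <;> simp
    · simp [hac, Ne.symm hac]
  · exact ⟨1, fun he => absurd he h⟩

include hlam hfix in
theorem not_orth_even (h2 : IsUnit (2 : S)) {n : ℕ} (hn : 0 < n) (hA : AzInv.IsAzumayaDeg R A n)
    (t : AzInv.LamInv R A lam) (q : PrimeSpectrum R) (hq : ∀ r, lam r - r ∈ q.asIdeal) (hno : ¬ OrthAt t n q) : Even n := by
  let p := (PrimeSpectrum.comap (algebraMap S R) q).asIdeal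
  haveI := shlr_hens p
  haveI := flat_hens (S := S) (SeparableClosure p.ResidueField)
  obtain ⟨hloc, hker⟩ := local_of_ramified hlam hfix p q hq rfl
  haveI := hloc
  obtain ⟨-, -, -, d⟩ := sgnT_orth hlam hfix p h2 hn hA t q hker
  by_contra hodd
  exact sgnT_odd (Hens S (SeparableClosure p.ResidueField)) hlam hfix (sqHens_of_two h2 p)
    (by have := h2.map (algebraMap S (Hens S (SeparableClosure p.ResidueField) ⊗[S] R)); rwa [map_ofNat] at this)
    t (Nat.not_even_iff_odd.1 hodd) hA (d hno)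

include hfix in
theorem exists_transpose_conj
    (hram : (IsUnit (2 : S) ∧ ∀ p : PrimeSpectrum S,
        ¬ RInv.IsQuadEtale (Localization.AtPrime p.asIdeal) (Localization.AtPrime p.asIdeal ⊗[S] R)) ∨
      RInv.IsQuadEtale S R)
    {n : ℕ} (hn : 0 < n) (hA : AzInv.IsAzumayaDeg R A n) (t : AzInv.LamInv R A lam) :
    ∃ (w : (Matrix (Fin n) (Fin n) R)ˣ) (e : R)
      (hw : AzInv.LamInv.transpose lam (Fin n) hlam (↑w : Matrix (Fin n) (Fin n) R) = e • (↑w : Matrix (Fin n) (Fin n) R))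
      (he : lam e * e = 1),
      AzInv.LocIsoEt S lam t ((AzInv.LamInv.transpose lam (Fin n) hlam).conj w e hw he) := by
  classical
  haveI := hA.1
  haveI := mat_finite (R := R) (A := R) n
  haveI := mat_projective (R := R) (A := R) n
  rcases hram with ⟨h2, hnq⟩ | hq
  swap
  · refine ⟨1, 1, ?_, by simp, locIsoEt_of_forall fun p _ => ?_⟩
    · rw [Units.val_one, AzInv.LamInv.map_one, one_smul]
    haveI := shlr_hens p
    haveI := flat_hens (S := S) (SeparableClosure p.ResidueField)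
    have h := invIso_transpose_of_quadEtale hlam hfix hq hn hA t (Hens S (SeparableClosure p.ResidueField))
    convert h using 2
    exact AzInv.LamInv.ext fun x => by simp
  have hramq := fun q r => ramified_of_not_quadEtale hlam hfix h2 q hnq r
  haveI := isIntegral_fixed hlam hfix
  -- the non-orthogonal points
  let U : Set (PrimeSpectrum R) := {q | ¬ OrthAt t n q}
  have hUo : IsOpen U ∧ IsOpen Uᶜ := by
    refine ⟨isOpen_iff_forall_mem_open.2 fun q hq => ?_, isOpen_iff_forall_mem_open.2 fun q hq => ?_⟩ <;>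
      obtain ⟨f, hf, hf'⟩ := exists_nbhd h2 t n q (hramq q)
    · exact ⟨PrimeSpectrum.basicOpen f, fun q' hq' ho => hq ((hf' q' (hramq q') hq').1 ho),
        PrimeSpectrum.isOpen_basicOpen, hf⟩
    · exact ⟨PrimeSpectrum.basicOpen f, fun q' hq' ho => ho ((hf' q' (hramq q') hq').2 (not_not.1 hq)),
        PrimeSpectrum.isOpen_basicOpen, hf⟩
  let g : PrimeSpectrum R → PrimeSpectrum S := PrimeSpectrum.comap (algebraMap S R)
  have hgc : IsClosedMap g :=
    PrimeSpectrum.isClosedMap_comap_of_isIntegral _ (algebraMap_isIntegral_iff.2 inferInstance)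
  have hginj : Function.Injective g := fun q' q h => eq_of_comap_eq hlam hfix q q' (hramq q) h
  have hgsurj : Function.Surjective g := fun P => by
    obtain ⟨Q, -, hQ, hQP⟩ := Ideal.exists_ideal_over_prime_of_isIntegral P.asIdeal (⊥ : Ideal R) (by
      rw [← RingHom.ker_eq_comap_bot, (RingHom.injective_iff_ker_eq_bot _).1 hfix.1]; exact bot_le)
    exact ⟨⟨Q, hQ⟩, PrimeSpectrum.ext hQP⟩
  have hclopen : IsClopen (g '' U) := by
    refine ⟨hgc _ ⟨hUo.2⟩, ?_⟩
    rw [← isClosed_compl_iff, ← Set.image_compl_eq ⟨hginj, hgsurj⟩]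
    exact hgc _ hUo.1.isClosed_compl
  obtain ⟨f, hfi, hf⟩ := PrimeSpectrum.exists_idempotent_basicOpen_eq_of_isClopen hclopen
  have hff : algebraMap S R f * algebraMap S R f = algebraMap S R f := by rw [← map_mul]; exact congrArg _ hfi
  set φ := algebraMap S R f with hφ
  have hmemU : ∀ q : PrimeSpectrum R, ¬ OrthAt t n q ↔ φ ∉ q.asIdeal := fun q =>
    (hginj.mem_set_image (s := U) (a := q)).symm.trans (by rw [hf]; exact Iff.rfl)
  obtain ⟨J, hJ⟩ := exists_skew_matrix hlam n
  have hφJ : φ • AzInv.LamInv.transpose lam (Fin n) hlam (J : Matrix (Fin n) (Fin n) R) =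
      -(φ • (J : Matrix (Fin n) (Fin n) R)) := by
    by_cases he : Even n
    · rw [hJ he, smul_neg]
    · have h0 : IsNilpotent φ := by
        rw [nilpotent_iff_mem_prime]
        intro Q hQ
        by_contra hQf
        exact he (not_orth_even hlam hfix h2 hn hA t ⟨Q, hQ⟩ (hramq _) ((hmemU ⟨Q, hQ⟩).2 hQf))
      rw [show φ = 0 from (IsIdempotentElem.eq_zero_of_isNilpotent hff h0), zero_smul, zero_smul, neg_zero]
  have h00 : (1 - φ) * φ = 0 := by linear_combination -hff
  have h00' : φ * (1 - φ) = 0 := by linear_combination -hff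
  have h11 : (1 - φ) * (1 - φ) = 1 - φ := by linear_combination hff
  let w : (Matrix (Fin n) (Fin n) R)ˣ :=
    { val := (1 - φ) • 1 + φ • (J : Matrix (Fin n) (Fin n) R)
      inv := (1 - φ) • 1 + φ • (↑J⁻¹ : Matrix (Fin n) (Fin n) R)
      val_inv := by
        simp only [add_mul, mul_add, smul_add, smul_mul_assoc, mul_smul_comm, smul_smul, Units.mul_inv, one_mul, mul_one,
          hff, h00, h00', h11, zero_smul, add_zero, zero_add, ← add_smul, sub_add_cancel, one_smul]
      inv_val := by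
        simp only [add_mul, mul_add, smul_add, smul_mul_assoc, mul_smul_comm, smul_smul, Units.inv_mul, one_mul, mul_one,
          hff, h00, h00', h11, zero_smul, add_zero, zero_add, ← add_smul, sub_add_cancel, one_smul] }
  have hlφ : lam φ = φ := lam.commutes f
  have hw : AzInv.LamInv.transpose lam (Fin n) hlam (↑w : Matrix (Fin n) (Fin n) R) =
      (1 - 2 * φ) • (↑w : Matrix (Fin n) (Fin n) R) := by
    change AzInv.LamInv.transpose lam (Fin n) hlam ((1 - φ) • 1 + φ • (J : Matrix (Fin n) (Fin n) R)) =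
      (1 - 2 * φ) • ((1 - φ) • 1 + φ • (J : Matrix (Fin n) (Fin n) R))
    rw [AzInv.LamInv.map_add, AzInv.LamInv.map_smul, AzInv.LamInv.map_smul, AzInv.LamInv.map_one, map_sub, map_one, hlφ,
      hφJ, smul_add, smul_smul, smul_smul, show (1 - 2 * φ) * (1 - φ) = 1 - φ by linear_combination 2 * hff,
      show (1 - 2 * φ) * φ = -φ by linear_combination -2 * hff, neg_smul]
  have he : lam (1 - 2 * φ) * (1 - 2 * φ) = 1 := by
    rw [map_sub, map_mul, map_one, map_ofNat, hlφ]
    linear_combination 4 * hff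
  refine ⟨w, 1 - 2 * φ, hw, he, locIsoEt_of_forall fun p _ => ?_⟩
  haveI := shlr_hens p
  haveI := flat_hens (S := S) (SeparableClosure p.ResidueField)
  let T := Hens S (SeparableClosure p.ResidueField)
  haveI hloc : IsLocalRing (T ⊗[S] R) := by
    obtain ⟨q, hqp⟩ := hgsurj ⟨p, inferInstance⟩
    exact (local_of_ramified hlam hfix p q (hramq q) (congrArg PrimeSpectrum.asIdeal hqp)).1
  obtain ⟨q, hq, -, hker⟩ := exists_ramified hlam hfix p
  obtain ⟨-, -, c, d⟩ := sgnT_orth hlam hfix p h2 hn hA t q hker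
  have h2B : IsUnit (2 : T ⊗[S] R) := by
    have := h2.map (algebraMap S (T ⊗[S] R))
    rwa [map_ofNat] at this
  have hm : ∀ r : R, r ∈ q.asIdeal → ((1 : T) ⊗ₜ[S] r : T ⊗[S] R) ∈ maximalIdeal (T ⊗[S] R) := fun r hr => by
    rw [← hker, RingHom.mem_ker] at hr
    exact (residue_eq_zero_iff _).1 hr
  by_cases ho : OrthAt t n q
  · refine SgnT.invIso T hlam hfix (sqHens_of_two h2 p) h2B hn rfl (Or.inl rfl) (c ho)
      (sgnT_conj_transpose T hlam hfix w _ hw he 1 ?_)
    rw [show ((1 : T) ⊗ₜ[S] (1 - 2 * φ) : T ⊗[S] R) - 1 = (1 : T) ⊗ₜ[S] (-(2 * φ)) by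
      rw [tmul_sub, ← Algebra.TensorProduct.one_def, tmul_neg]; ring]
    refine hm _ (Ideal.neg_mem_iff _ |>.2 (Ideal.mul_mem_left _ _ ?_))
    by_contra hφq
    exact (hmemU q).2 hφq ho
  · refine SgnT.invIso T hlam hfix (sqHens_of_two h2 p) h2B hn rfl (Or.inr rfl) (d ho)
      (sgnT_conj_transpose T hlam hfix w _ hw he (-1) ?_)
    rw [show ((1 : T) ⊗ₜ[S] (1 - 2 * φ) : T ⊗[S] R) - -1 = (1 : T) ⊗ₜ[S] (2 * (1 - φ)) by
      rw [sub_neg_eq_add, Algebra.TensorProduct.one_def, ← tmul_add]; ring_nf]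
    refine hm _ (Ideal.mul_mem_left _ _ ((q.isPrime.mem_or_mem (show φ * (1 - φ) ∈ q.asIdeal from h00' ▸ zero_mem _)).resolve_left
      ((hmemU q).1 ho)))

/-! ### The trivial involution -/

section Triv

variable {R₀ : Type u} [CommRing R₀]

theorem fixed_refl : RInv.IsFixedRing R₀ R₀ (AlgEquiv.refl : R₀ ≃ₐ[R₀] R₀).toRingEquiv :=
  ⟨fun _ _ h => h, fun r => ⟨fun _ => ⟨r, rfl⟩, fun _ => rfl⟩⟩

variable (hl : ∀ r : R₀, (AlgEquiv.refl : R₀ ≃ₐ[R₀] R₀) ((AlgEquiv.refl : R₀ ≃ₐ[R₀] R₀) r) = r)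
    (h2 : IsUnit (2 : R₀))
    (J : (Matrix (Fin 2) (Fin 2) R₀)ˣ)
    (hJt : AzInv.LamInv.transpose (AlgEquiv.refl : R₀ ≃ₐ[R₀] R₀) (Fin 2) hl (↑J : Matrix (Fin 2) (Fin 2) R₀) = (-1 : R₀) • (↑J : Matrix (Fin 2) (Fin 2) R₀))
    (hneg : (AlgEquiv.refl : R₀ ≃ₐ[R₀] R₀) (-1) * (-1) = 1)

include h2 in
theorem not_sameType [Nontrivial R₀] :
    ¬ AzInv.SameType R₀ (AlgEquiv.refl : R₀ ≃ₐ[R₀] R₀) (AzInv.LamInv.self (AlgEquiv.refl : R₀ ≃ₐ[R₀] R₀) hl)
      ((AzInv.LamInv.transpose (AlgEquiv.refl : R₀ ≃ₐ[R₀] R₀) (Fin 2) hl).conj J (-1) hJt hneg) := by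
  rintro ⟨m, m', hm, -, E, i1, i2, i3, i4, f, hf, hf'⟩
  obtain ⟨p, hp⟩ := Ideal.exists_maximal R₀
  haveI := hp.isPrime
  haveI := shlr_hens p
  haveI := flat_hens (S := R₀) (SeparableClosure p.ResidueField)
  obtain ⟨hloc, -⟩ := local_of_ramified hl fixed_refl p ⟨p, inferInstance⟩ (fun r => by simp) (Ideal.comap_id p)
  haveI := hloc
  set T := Hens R₀ (SeparableClosure p.ResidueField)
  obtain ⟨g⟩ := exists_hom_hens (S := R₀) T E
  have hiso : IsoAt (R := R₀) _ _ (((AzInv.LamInv.self (AlgEquiv.refl : R₀ ≃ₐ[R₀] R₀) hl).matrix (Fin m)).linS R₀ AlgEquiv.refl)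
      ((((AzInv.LamInv.transpose (AlgEquiv.refl : R₀ ≃ₐ[R₀] R₀) (Fin 2) hl).conj J (-1) hJt hneg).matrix (Fin m')).linS R₀ AlgEquiv.refl) E :=
    ⟨f, hf, hf'⟩
  have hinv := invIso_of_isoAt T (hiso.map T g)
  have hs : SgnT T hl ((AzInv.LamInv.self (AlgEquiv.refl : R₀ ≃ₐ[R₀] R₀) hl).matrix (Fin m)) m (1 : T ⊗[R₀] R₀) := by
    rw [self_matrix]
    exact ⟨_, bc_transpose T hl m, 1, 1, rep_transpose _, by simp⟩
  have hs' : SgnT T hl ((AzInv.LamInv.transpose (AlgEquiv.refl : R₀ ≃ₐ[R₀] R₀) (Fin 2) hl).conj J (-1) hJt hneg) 2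
      (-1 : T ⊗[R₀] R₀) := sgnT_conj_transpose T hl fixed_refl J (-1) hJt hneg (-1) (by
        rw [tmul_neg, ← Algebra.TensorProduct.one_def, sub_self]; exact zero_mem _)
  refine not_one_sub_neg_one ?_ ((hs.congr T hl fixed_refl hinv).unique T hl fixed_refl hm (hs'.matrix T hl fixed_refl m'))
  have := h2.map (algebraMap R₀ (T ⊗[R₀] R₀))
  rwa [map_ofNat] at this

include h2 in
theorem sameType_self_or_symplectic [ConnectedSpace (PrimeSpectrum R₀)] {A : Type w} [Ring A] [Algebra R₀ A] {n : ℕ}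
    (hn : 0 < n) (hA : AzInv.IsAzumayaDeg R₀ A n) (t : AzInv.LamInv R₀ A (AlgEquiv.refl : R₀ ≃ₐ[R₀] R₀)) :
    AzInv.SameType R₀ (AlgEquiv.refl : R₀ ≃ₐ[R₀] R₀) t (AzInv.LamInv.self (AlgEquiv.refl : R₀ ≃ₐ[R₀] R₀) hl) ∨
      AzInv.SameType R₀ (AlgEquiv.refl : R₀ ≃ₐ[R₀] R₀) t
        ((AzInv.LamInv.transpose (AlgEquiv.refl : R₀ ≃ₐ[R₀] R₀) (Fin 2) hl).conj J (-1) hJt hneg) := by
  classical
  haveI := hA.1
  have hram : ∀ (q : PrimeSpectrum R₀) (r : R₀), (AlgEquiv.refl : R₀ ≃ₐ[R₀] R₀) r - r ∈ q.asIdeal := fun q r => by simp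
  let U : Set (PrimeSpectrum R₀) := {q | OrthAt t n q}
  have hU : IsClopen U := by
    refine ⟨⟨isOpen_iff_forall_mem_open.2 fun q hq => ?_⟩, isOpen_iff_forall_mem_open.2 fun q hq => ?_⟩ <;>
      obtain ⟨f, hf, hf'⟩ := exists_nbhd h2 t n q (hram q)
    · exact ⟨PrimeSpectrum.basicOpen f, fun q' hq' ho => hq ((hf' q' (hram q') hq').1 ho),
        PrimeSpectrum.isOpen_basicOpen, hf⟩
    · exact ⟨PrimeSpectrum.basicOpen f, fun q' hq' => (hf' q' (hram q') hq').2 hq, PrimeSpectrum.isOpen_basicOpen, hf⟩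
  rcases isClopen_iff.1 hU with h0 | h1
  · right
    haveI := mat_finite (R := R₀) (A := A) 2
    haveI := mat_projective (R := R₀) (A := A) 2
    haveI := mat_finite (R := R₀) (A := R₀) 2
    haveI := mat_projective (R := R₀) (A := R₀) 2
    haveI := mat_finite (R := R₀) (A := Matrix (Fin 2) (Fin 2) R₀) n
    haveI := mat_projective (R := R₀) (A := Matrix (Fin 2) (Fin 2) R₀) n
    refine ⟨2, n, two_pos, hn, locIsoEt_of_forall fun p _ => ?_⟩
    haveI := shlr_hens p
    haveI := flat_hens (S := R₀) (SeparableClosure p.ResidueField)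
    obtain ⟨hloc, hker⟩ := local_of_ramified hl fixed_refl p ⟨p, inferInstance⟩ (hram _) (Ideal.comap_id p)
    haveI := hloc
    set T := Hens R₀ (SeparableClosure p.ResidueField)
    obtain ⟨-, -, -, d⟩ := sgnT_orth hl fixed_refl p h2 hn hA t ⟨p, inferInstance⟩ hker
    have hs := (d fun ho => (Set.ext_iff.1 h0 _).1 ho).matrix T hl fixed_refl 2
    have hs' : SgnT T hl ((AzInv.LamInv.transpose (AlgEquiv.refl : R₀ ≃ₐ[R₀] R₀) (Fin 2) hl).conj J (-1) hJt hneg) 2
        (-1 : T ⊗[R₀] R₀) := sgnT_conj_transpose T hl fixed_refl J (-1) hJt hneg (-1) (by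
          rw [tmul_neg, ← Algebra.TensorProduct.one_def, sub_self]; exact zero_mem _)
    exact SgnT.invIso T hl fixed_refl (sqHens_of_two h2 p)
      (by have := h2.map (algebraMap R₀ (T ⊗[R₀] R₀)); rwa [map_ofNat] at this)
      (Nat.mul_pos two_pos hn) (Nat.mul_comm _ _) (Or.inr rfl) hs (hs'.matrix T hl fixed_refl n)
  · left
    refine sameType_self_of_forall hl hn hA t fun p _ => ?_
    haveI := shlr_hens p
    haveI := flat_hens (S := R₀) (SeparableClosure p.ResidueField)
    obtain ⟨hloc, hker⟩ := local_of_ramified hl fixed_refl p ⟨p, inferInstance⟩ (hram _) (Ideal.comap_id p)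
    haveI := hloc
    set T := Hens R₀ (SeparableClosure p.ResidueField)
    obtain ⟨-, -, c, -⟩ := sgnT_orth hl fixed_refl p h2 hn hA t ⟨p, inferInstance⟩ hker
    exact (c ((Set.ext_iff.1 h1 _).2 trivial)).invIso_transpose T hl fixed_refl (sqHens_of_two h2 p)
      (by have := h2.map (algebraMap R₀ (T ⊗[R₀] R₀)); rwa [map_ofNat] at this) hn

end Triv

end Groth.Misc12.AzI
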