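import Groth.Agent.Misc12.AzI.Setting

/-!
Azumaya algebras over a ring with involution split, and their automorphisms are inner, étale locally on the fixed ring.
-/

set_option autoImplicit false
set_option linter.unusedSectionVars false
set_option linter.style.haveILetI false

universe u v w

open TensorProduct
open Groth.Hensel1 Groth.Sga3.HensPoint

noncomputable section

namespace Groth.Misc12.AzI

variable {S : Type u} [CommRing S] {R : Type v} [CommRing R] [Algebra S R]
variable (T : Type u) [CommRing T] [Algebra S T] (m : ℕ)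

/-- `T ⊗ M_m(R) → M_m(T ⊗ R)`. -/
def tmHom : T ⊗[S] Matrix (Fin m) (Fin m) R →ₐ[T] Matrix (Fin m) (Fin m) (T ⊗[S] R) :=
  Algebra.TensorProduct.lift (Algebra.ofId T _)
    (Algebra.TensorProduct.includeRight : R →ₐ[S] T ⊗[S] R).mapMatrix fun t _ => Algebra.commutes t _

theorem tmHom_tmul (t : T) (M : Matrix (Fin m) (Fin m) R) (i j : Fin m) :
    tmHom T m (t ⊗ₜ[S] M) i j = t ⊗ₜ[S] M i j := by
  simp [tmHom, Algebra.algebraMap_eq_smul_one, TensorProduct.smul_tmul']

/-- `T ⊗ M_m(R) ≅ M_m(T ⊗ R)`. -/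
def tmEquiv : T ⊗[S] Matrix (Fin m) (Fin m) R ≃ₐ[T] Matrix (Fin m) (Fin m) (T ⊗[S] R) :=
  AlgEquiv.ofBijective (tmHom T m) (by
    let g : Matrix (Fin m) (Fin m) (T ⊗[S] R) → T ⊗[S] Matrix (Fin m) (Fin m) R := fun N =>
      ∑ i, ∑ j, (Matrix.singleLinearMap (α := R) S i j).lTensor T (N i j)
    have hg0 : g 0 = 0 := by simp [g]
    have hgadd : ∀ a b, g (a + b) = g a + g b := fun a b => by simp [g, Finset.sum_add_distrib]
    have hsingle : ∀ (i j : Fin m) (z : T ⊗[S] R),
        tmHom T m ((Matrix.singleLinearMap (α := R) S i j).lTensor T z) = Matrix.single i j z := by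
      intro i j z
      induction z using TensorProduct.induction_on with
      | zero => simp
      | add a b ha hb => rw [map_add, map_add, ha, hb, Matrix.single_add]
      | tmul t r =>
        ext k l
        rw [LinearMap.lTensor_tmul, tmHom_tmul, show Matrix.singleLinearMap (α := R) S i j r = Matrix.single i j r from rfl,
          Matrix.single_apply, Matrix.single_apply]
        split_ifs <;> simp
    refine Function.bijective_iff_has_inverse.2 ⟨g, fun x => ?_, fun N => ?_⟩
    · induction x using TensorProduct.induction_on with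
      | zero => rw [map_zero, hg0]
      | add a b ha hb => rw [map_add, hgadd, ha, hb]
      | tmul t M =>
        simp only [g, tmHom_tmul, LinearMap.lTensor_tmul, ← TensorProduct.tmul_sum]
        exact congrArg (t ⊗ₜ[S] ·) (Matrix.matrix_eq_sum_single M).symm
    · simp only [g, map_sum, hsingle]
      exact (Matrix.matrix_eq_sum_single N).symm)

theorem tmEquiv_tmul (t : T) (M : Matrix (Fin m) (Fin m) R) (i j : Fin m) :
    tmEquiv T m (t ⊗ₜ[S] M) i j = t ⊗ₜ[S] M i j := tmHom_tmul T m t M i j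

theorem tmEquiv_scalar (r : R) :
    tmEquiv T m (sc (Matrix (Fin m) (Fin m) R) T r) = Matrix.scalar (Fin m) ((1 : T) ⊗ₜ[S] r) := by
  ext i j
  rw [tmEquiv_tmul]
  by_cases h : i = j
  · subst h; simp [Matrix.algebraMap_matrix_apply]
  · simp [h, Matrix.algebraMap_matrix_apply]

variable (A : Type w) [Ring A] [Algebra S A] [Algebra R A] [IsScalarTower S R A]

instance taTower : IsScalarTower T (T ⊗[S] R) (T ⊗[S] A) :=
  IsScalarTower.of_algebraMap_eq fun t => by
    rw [taAlgebra_map, Algebra.TensorProduct.algebraMap_apply, Algebra.TensorProduct.algebraMap_apply, taHom_tmul, map_one]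

/-- The base change of an automorphism. -/
def taEquiv (ψ : A ≃ₐ[R] A) : T ⊗[S] A ≃ₐ[T ⊗[S] R] T ⊗[S] A :=
  AlgEquiv.ofRingEquiv (f := (Algebra.TensorProduct.congr (AlgEquiv.refl : T ≃ₐ[T] T) (ψ.restrictScalars S)).toRingEquiv)
    fun c => by
      rw [taAlgebra_map]
      induction c using TensorProduct.induction_on with
      | zero => simp
      | add a b ha hb => simp only [map_add, ha, hb]
      | tmul t r => simp [taHom_tmul]

theorem exists_split (lam : R ≃ₐ[S] R) (hlam : ∀ r, lam (lam r) = r) (hfix : RInv.IsFixedRing S R lam.toRingEquiv)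
    (n : ℕ) (hA : AzInv.IsAzumayaDeg R A n) :
    ∃ (E : Type u) (_ : CommRing E) (_ : Algebra S E) (_ : Algebra.Etale S E) (_ : Module.FaithfullyFlat S E)
      (f : E ⊗[S] A ≃ₐ[E] Matrix (Fin n) (Fin n) (E ⊗[S] R)),
      ∀ (r : R) (x : E ⊗[S] A), f (sc A E r * x) = Matrix.scalar (Fin n) ((1 : E) ⊗ₜ[S] r) * f x := by
  haveI := hA.1
  obtain ⟨E, iE, iA, hEt, hFF, f, hfR, -⟩ := exists_isoAt (S := S) (R := R) (A := A) (A' := Matrix (Fin n) (Fin n) R)
    LinearMap.id LinearMap.id id (fun _ _ => rfl) (fun _ _ => rfl) fun p _ => by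
      haveI := shlr_hens p
      haveI := flat_hens (S := S) (SeparableClosure p.ResidueField)
      let T := Hens S (SeparableClosure p.ResidueField)
      obtain ⟨Φ⟩ := ta_split lam T A hlam hfix n hA
      refine ⟨(Φ.restrictScalars T).trans (tmEquiv T n).symm, fun r x => ?_, fun x => by
        simp⟩
      change (tmEquiv (S := S) (R := R) T n).symm (Φ (sc A T r * x)) = _ * (tmEquiv (S := S) (R := R) T n).symm (Φ x)
      apply (tmEquiv (S := S) (R := R) T n).injective
      rw [AlgEquiv.apply_symm_apply, map_mul, map_mul, tmEquiv_scalar, AlgEquiv.apply_symm_apply]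
      exact congrArg (· * Φ x) (Φ.commutes ((1 : T) ⊗ₜ[S] r))
  refine ⟨E, iE, iA, hEt, hFF, f.trans (tmEquiv E n), fun r x => ?_⟩
  rw [AlgEquiv.trans_apply, AlgEquiv.trans_apply, hfR, map_mul, tmEquiv_scalar]

theorem innerAt_hens (lam : R ≃ₐ[S] R) (hlam : ∀ r, lam (lam r) = r) (hfix : RInv.IsFixedRing S R lam.toRingEquiv)
    [SHLR T] [Module.Flat S T] (n : ℕ) (hA : AzInv.IsAzumayaDeg R A n) (ψ : A ≃ₐ[R] A) :
    ∃ w : (T ⊗[S] A)ˣ, ∀ x : T ⊗[S] A,
      Algebra.TensorProduct.congr (AlgEquiv.refl : T ≃ₐ[T] T) (ψ.restrictScalars S) x * (w : T ⊗[S] A) = w * x := by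
  obtain ⟨Φ⟩ := ta_split lam T A hlam hfix n hA
  obtain ⟨u, hu⟩ := inner_core (lamT lam T) (lamT_lamT lam T hlam) (fixed_bc lam T hfix).1 (fixed_bc lam T hfix).2 n
    (Φ.symm.trans ((taEquiv T A ψ).trans Φ))
  refine ⟨Units.map Φ.symm.toAlgHom.toRingHom.toMonoidHom u, fun x => Φ.injective ?_⟩
  change Φ (taEquiv T A ψ x * Φ.symm u) = Φ (Φ.symm u * x)
  have h := hu (Φ x)
  rw [AlgEquiv.trans_apply, AlgEquiv.trans_apply, Φ.symm_apply_apply] at h
  rw [map_mul, map_mul, Φ.apply_symm_apply, h, mul_assoc, mul_assoc, Units.inv_mul, mul_one]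

theorem exists_inner (lam : R ≃ₐ[S] R) (hlam : ∀ r, lam (lam r) = r) (hfix : RInv.IsFixedRing S R lam.toRingEquiv)
    (n : ℕ) (hA : AzInv.IsAzumayaDeg R A n) (ψ : A ≃ₐ[R] A) :
    ∃ (E : Type u) (_ : CommRing E) (_ : Algebra S E) (_ : Algebra.Etale S E) (_ : Module.FaithfullyFlat S E)
      (w : (E ⊗[S] A)ˣ), ∀ x : E ⊗[S] A,
        Algebra.TensorProduct.congr (AlgEquiv.refl : E ≃ₐ[E] E) (ψ.restrictScalars S) x = ↑w * x * ↑w⁻¹ := by
  haveI := hA.1
  obtain ⟨E, iE, iA, hEt, hFF, w, hw, -⟩ := exists_innerAt (S := S) ψ false (LinearMap.id : A →ₗ[S] A) fun p _ => by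
    haveI := shlr_hens p
    haveI := flat_hens (S := S) (SeparableClosure p.ResidueField)
    obtain ⟨w, hw⟩ := innerAt_hens (Hens S (SeparableClosure p.ResidueField)) A lam hlam hfix n hA ψ
    exact ⟨w, hw, fun h => Bool.noConfusion h⟩
  exact ⟨E, iE, iA, hEt, hFF, w, fun x => by rw [← hw x, mul_assoc, Units.mul_inv, mul_one]⟩

end Groth.Misc12.AzI
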