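import Groth.Agent.Misc12.AzI.Bc

/-!
Signs of involutions over the strict henselizations of the fixed ring, and local isomorphism from equality of types.
-/

set_option autoImplicit false
set_option linter.unusedSectionVars false
set_option linter.style.haveILetI false

universe u v w w'

open TensorProduct IsLocalRing
open Groth.Hensel1 Groth.Sga3.HensPoint

noncomputable section

namespace Groth.Misc12.AzI

variable {S : Type u} [CommRing S] {R : Type v} [CommRing R] [Algebra S R] {lam : R ≃ₐ[S] R}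
variable (T : Type u) [CommRing T] [Algebra S T] [SHLR T] [Module.Flat S T]
variable {A : Type w} [Ring A] [Algebra S A] [Algebra R A] [IsScalarTower S R A]
variable {A' : Type w'} [Ring A'] [Algebra S A'] [Algebra R A'] [IsScalarTower S R A']
variable (hlam : ∀ r, lam (lam r) = r) (hfix : RInv.IsFixedRing S R lam.toRingEquiv)

theorem exists_hom_hens (E : Type u) [CommRing E] [Algebra S E] [Algebra.Etale S E] [Module.FaithfullyFlat S E] :
    Nonempty (E →ₐ[S] T) := by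
  obtain ⟨τ⟩ := exists_section' T (T ⊗[S] E)
  exact ⟨(τ.restrictScalars S).comp Algebra.TensorProduct.includeRight⟩

include hfix in
theorem nontrivial_TR : Nontrivial (T ⊗[S] R) := (fixed_bc lam T hfix).1.nontrivial

include hlam hfix

theorem innerT (N : ℕ) : InnerHyp (T ⊗[S] R) N := fun φ =>
  inner_core (lamT lam T) (lamT_lamT lam T hlam) (fixed_bc lam T hfix).1 (fixed_bc lam T hfix).2 N φ

theorem T_cases : IsLocalRing (T ⊗[S] R) ∨
    ∃ e₀ : T ⊗[S] R, IsIdempotentElem e₀ ∧ σT T lam e₀ = 1 - e₀ := by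
  rcases shlr_or_split (lamT lam T) (lamT_lamT lam T hlam) (fixed_bc lam T hfix).1 (fixed_bc lam T hfix).2 with
    h | ⟨e, -, he, hσe, -⟩
  · haveI := h
    exact Or.inl inferInstance
  · exact Or.inr ⟨e, he, hσe⟩

theorem resT [IsLocalRing (T ⊗[S] R)] (b : T ⊗[S] R) : σT T lam b - b ∈ maximalIdeal (T ⊗[S] R) :=
  residue_trivial (lamT lam T) (lamT_lamT lam T hlam) (fixed_bc lam T hfix).1 (fixed_bc lam T hfix).2 b

theorem fixed_unit (a : T ⊗[S] R) (ha : IsUnit a) (hσ : σT T lam a = a) :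
    ∃ w : T, IsUnit w ∧ algebraMap T (T ⊗[S] R) w = a := by
  obtain ⟨w, rfl⟩ := (fixed_bc lam T hfix).2 a hσ
  obtain ⟨c, hc⟩ := ha.exists_left_inv
  have hcfix : lamT lam T c = c := by
    have h1 := congrArg (lamT lam T) hc
    rw [map_mul, (lamT lam T).commutes, map_one] at h1
    exact left_inv_eq_right_inv h1 ((mul_comm _ _).trans hc)
  obtain ⟨c', rfl⟩ := (fixed_bc lam T hfix).2 c hcfix
  exact ⟨w, IsUnit.of_mul_eq_one c' ((fixed_bc lam T hfix).1 (by rw [map_mul, map_one, mul_comm, hc])), rfl⟩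

theorem sqT (hsqT : ∀ x : T, IsUnit x → ∃ y, y * y = x) (a : T ⊗[S] R) (ha : IsUnit a) (hσ : σT T lam a = a) :
    ∃ y, σT T lam y = y ∧ y * y = a := by
  obtain ⟨w, hw, rfl⟩ := fixed_unit T hlam hfix a ha hσ
  obtain ⟨y, rfl⟩ := hsqT w hw
  exact ⟨algebraMap T _ y, (lamT lam T).commutes y, (map_mul _ _ _).symm⟩

theorem exists_model (t : AzInv.LamInv R A lam) (n : ℕ) (hA : AzInv.IsAzumayaDeg R A n) :
    ∃ M : AzInv.LamInv (T ⊗[S] R) (Matrix (Fin n) (Fin n) (T ⊗[S] R)) (σT T lam), InvIso (bcInv T t) M := by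
  obtain ⟨Φ⟩ := ta_split lam T A hlam hfix n hA
  exact ⟨transp (bcInv T t) Φ, invIso_transp _ Φ⟩

/-- The model of a matrix algebra with the induced involution. -/
theorem model_matrix {t : AzInv.LamInv R A lam} {n : ℕ}
    {M : AzInv.LamInv (T ⊗[S] R) (Matrix (Fin n) (Fin n) (T ⊗[S] R)) (σT T lam)} (hM : InvIso (bcInv T t) M) (m : ℕ) :
    InvIso (bcInv T (t.matrix (Fin m))) (transp (M.matrix (Fin m)) (blockEquiv m n)) :=
  ((bc_matrix T t m).trans (hM.matrix m)).trans (invIso_transp _ _)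

/-- Models of isomorphic algebras have the same size. -/
theorem size_eq {n n' : ℕ} {M : AzInv.LamInv (T ⊗[S] R) (Matrix (Fin n) (Fin n) (T ⊗[S] R)) (σT T lam)}
    {M' : AzInv.LamInv (T ⊗[S] R) (Matrix (Fin n') (Fin n') (T ⊗[S] R)) (σT T lam)} (h : InvIso M M') : n = n' := by
  haveI := nontrivial_TR T hfix
  obtain ⟨F, -⟩ := h
  have h1 := F.toLinearEquiv.finrank_eq
  simp only [Module.finrank_matrix, Module.finrank_self, Fintype.card_fin, mul_one] at h1
  exact Nat.mul_self_inj.1 h1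

/-- In the split case every involution is the transpose. -/
theorem invIso_transpose_of_split (e₀ : T ⊗[S] R) (he₀ : IsIdempotentElem e₀) (hσe₀ : σT T lam e₀ = 1 - e₀)
    {n : ℕ} (hn : 0 < n) (t : AzInv.LamInv R A lam) (hA : AzInv.IsAzumayaDeg R A n) :
    InvIso (bcInv T t) (bcInv T (AzInv.LamInv.transpose lam (Fin n) hlam)) := by
  obtain ⟨M, hM⟩ := exists_model T hlam hfix t n hA
  exact (hM.trans (invIso_transpose_of_idem (hσ := σT_invol T hlam) (innerT T hlam hfix n) hn e₀ he₀ hσe₀ M)).trans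
    (bc_transpose T hlam n).symm

theorem invIso_transpose_of_odd' (hsqT : ∀ x : T, IsUnit x → ∃ y, y * y = x) {n : ℕ} (hn : Odd n)
    (t : AzInv.LamInv R A lam) (hA : AzInv.IsAzumayaDeg R A n) :
    InvIso (bcInv T t) (bcInv T (AzInv.LamInv.transpose lam (Fin n) hlam)) := by
  rcases T_cases T hlam hfix with hloc | ⟨e₀, he₀, hσe₀⟩
  · haveI := hloc
    obtain ⟨M, hM⟩ := exists_model T hlam hfix t n hA
    exact (hM.trans (invIso_transpose_of_odd (hσ := σT_invol T hlam) (resT T hlam hfix) (sqT T hlam hfix hsqT)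
      (innerT T hlam hfix n) hn M)).trans (bc_transpose T hlam n).symm
  · exact invIso_transpose_of_split T hlam hfix e₀ he₀ hσe₀ hn.pos t hA

section Sign

variable [IsLocalRing (T ⊗[S] R)]

/-- The sign of `t` over `T`. -/
def SgnT (t : AzInv.LamInv R A lam) (n : ℕ) (ε : T ⊗[S] R) : Prop :=
  ∃ M : AzInv.LamInv (T ⊗[S] R) (Matrix (Fin n) (Fin n) (T ⊗[S] R)) (σT T lam),
    InvIso (bcInv T t) M ∧ Sgn (σT_invol T hlam) M ε

theorem SgnT.congr {t : AzInv.LamInv R A lam} {t' : AzInv.LamInv R A' lam} {n : ℕ} {ε : T ⊗[S] R}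
    (h : SgnT T hlam t n ε) (hiso : InvIso (bcInv T t) (bcInv T t')) : SgnT T hlam t' n ε := by
  obtain ⟨M, hM, hs⟩ := h
  exact ⟨M, hiso.symm.trans hM, hs⟩

theorem SgnT.matrix {t : AzInv.LamInv R A lam} {n : ℕ} {ε : T ⊗[S] R} (h : SgnT T hlam t n ε) (m : ℕ) :
    SgnT T hlam (t.matrix (Fin m)) (m * n) ε := by
  obtain ⟨M, hM, hs⟩ := h
  exact ⟨_, model_matrix T hlam hfix hM m, hs.blocks m⟩

theorem SgnT.size {t : AzInv.LamInv R A lam} {n n' : ℕ} {ε ε' : T ⊗[S] R} (h : SgnT T hlam t n ε)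
    (h' : SgnT T hlam t n' ε') : n = n' := by
  obtain ⟨M, hM, -⟩ := h
  obtain ⟨M', hM', -⟩ := h'
  exact size_eq T hlam hfix (hM.symm.trans hM')

theorem SgnT.unique {t : AzInv.LamInv R A lam} {n : ℕ} (hn : 0 < n) {n' : ℕ} {ε ε' : T ⊗[S] R} (h : SgnT T hlam t n ε)
    (h' : SgnT T hlam t n' ε') : ε - ε' ∈ maximalIdeal (T ⊗[S] R) := by
  obtain rfl := h.size T hlam hfix h'
  obtain ⟨M, hM, hs⟩ := h
  obtain ⟨M', hM', hs'⟩ := h'
  exact Sgn.unique (resT T hlam hfix) hn (hs.of_invIso (innerT T hlam hfix n) (hM.symm.trans hM')) hs'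

variable (hsqT : ∀ x : T, IsUnit x → ∃ y, y * y = x) (h2 : IsUnit (2 : T ⊗[S] R))

include hsqT h2

theorem sgnT_cases (t : AzInv.LamInv R A lam) {n : ℕ} (hn : 0 < n) (hA : AzInv.IsAzumayaDeg R A n) :
    SgnT T hlam t n 1 ∨ SgnT T hlam t n (-1) := by
  obtain ⟨M, hM⟩ := exists_model T hlam hfix t n hA
  exact (sgn_cases (hσ := σT_invol T hlam) (resT T hlam hfix) (sqT T hlam hfix hsqT) h2 (innerT T hlam hfix n) hn M).imp
    (fun h => ⟨M, hM, h⟩) fun h => ⟨M, hM, h⟩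

theorem SgnT.invIso_transpose {t : AzInv.LamInv R A lam} {n : ℕ} (hn : 0 < n) (h : SgnT T hlam t n 1) :
    InvIso (bcInv T t) (bcInv T (AzInv.LamInv.transpose lam (Fin n) hlam)) := by
  obtain ⟨M, hM, hs⟩ := h
  exact (hM.trans (Sgn.invIso_transpose (resT T hlam hfix) (sqT T hlam hfix hsqT) h2 (innerT T hlam hfix n) hn hs)).trans
    (bc_transpose T hlam n).symm

theorem SgnT.invIso {t : AzInv.LamInv R A lam} {t' : AzInv.LamInv R A' lam} {n n' : ℕ} (hn : 0 < n) (hnn : n = n')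
    {ε : T ⊗[S] R} (hε : ε = 1 ∨ ε = -1) (h : SgnT T hlam t n ε) (h' : SgnT T hlam t' n' ε) :
    InvIso (bcInv T t) (bcInv T t') := by
  subst hnn
  rcases hε with rfl | rfl
  · exact (h.invIso_transpose T hlam hfix hsqT h2 hn).trans (h'.invIso_transpose T hlam hfix hsqT h2 hn).symm
  · obtain ⟨M, hM, hs⟩ := h
    obtain ⟨M', hM', hs'⟩ := h'
    exact (hM.trans (Sgn.invIso_neg (resT T hlam hfix) (sqT T hlam hfix hsqT) h2 (innerT T hlam hfix n) hn hs hs').2).trans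
      hM'.symm

theorem sgnT_odd (t : AzInv.LamInv R A lam) {n : ℕ} (hn : Odd n) (hA : AzInv.IsAzumayaDeg R A n) :
    ¬ SgnT T hlam t n (-1) := by
  rintro ⟨M, -, hs⟩
  exact Nat.not_even_iff_odd.2 hn
    (Sgn.invIso_neg (resT T hlam hfix) (sqT T hlam hfix hsqT) h2 (innerT T hlam hfix n) hn.pos hs hs).1

/-- The criterion: an isomorphism of matrix algebras over `T` between algebras of the same degree comes down. -/
theorem invIso_of_matrix {t : AzInv.LamInv R A lam} {t' : AzInv.LamInv R A' lam} {n : ℕ} (hn : 0 < n)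
    (hA : AzInv.IsAzumayaDeg R A n) (hA' : AzInv.IsAzumayaDeg R A' n) {m m' : ℕ} (hm : 0 < m)
    (h : InvIso (bcInv T (t.matrix (Fin m))) (bcInv T (t'.matrix (Fin m')))) : InvIso (bcInv T t) (bcInv T t') := by
  have key : ∀ ε ε' : T ⊗[S] R, SgnT T hlam t n ε → SgnT T hlam t' n ε' → ε - ε' ∈ maximalIdeal (T ⊗[S] R) :=
    fun ε ε' hs hs' => ((hs.matrix T hlam hfix m).congr T hlam hfix h).unique T hlam hfix (Nat.mul_pos hm hn)
      (hs'.matrix T hlam hfix m')
  rcases sgnT_cases T hlam hfix hsqT h2 t hn hA with hs | hs <;>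
    rcases sgnT_cases T hlam hfix hsqT h2 t' hn hA' with hs' | hs'
  · exact SgnT.invIso T hlam hfix hsqT h2 hn rfl (Or.inl rfl) hs hs'
  · exact absurd (key _ _ hs hs') (not_one_sub_neg_one h2)
  · refine absurd (key _ _ hs hs') fun hmem => not_one_sub_neg_one h2 ?_
    rw [← neg_sub]
    exact (Ideal.neg_mem_iff _).2 hmem
  · exact SgnT.invIso T hlam hfix hsqT h2 hn rfl (Or.inr rfl) hs hs'

end Sign

omit hlam hfix in
theorem bcInv_conj_apply (t : AzInv.LamInv R A lam) (w : Aˣ) (e : R) (hw : t (w : A) = e • (w : A))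
    (he : lam e * e = 1) (x : T ⊗[S] A) :
    bcInv T (t.conj w e hw he) x = ((1 : T) ⊗ₜ[S] (w : A)) * bcInv T t x * ((1 : T) ⊗ₜ[S] (↑w⁻¹ : A)) := by
  induction x using TensorProduct.induction_on with
  | zero => simp [AzInv.LamInv.map_zero]
  | add a b ha hb => rw [AzInv.LamInv.map_add, AzInv.LamInv.map_add, mul_add, add_mul, ha, hb]
  | tmul p x =>
    rw [bcInv_tmul, bcInv_tmul, Algebra.TensorProduct.tmul_mul_tmul, Algebra.TensorProduct.tmul_mul_tmul, one_mul,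
      mul_one, AzInv.LamInv.conj_apply]

theorem sgnT_conj_transpose [IsLocalRing (T ⊗[S] R)] {n : ℕ} (w : (Matrix (Fin n) (Fin n) R)ˣ) (e : R)
    (hw : AzInv.LamInv.transpose lam (Fin n) hlam (w : Matrix (Fin n) (Fin n) R) = e • (w : Matrix (Fin n) (Fin n) R))
    (he : lam e * e = 1) (ε : T ⊗[S] R) (hε : ((1 : T) ⊗ₜ[S] e) - ε ∈ maximalIdeal (T ⊗[S] R)) :
    SgnT T hlam ((AzInv.LamInv.transpose lam (Fin n) hlam).conj w e hw he) n ε := by
  obtain ⟨F, hF⟩ := bc_transpose T hlam n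
  let wT : (T ⊗[S] Matrix (Fin n) (Fin n) R)ˣ :=
    Units.map (Algebra.TensorProduct.includeRight : Matrix (Fin n) (Fin n) R →ₐ[S] _).toRingHom.toMonoidHom w
  refine ⟨_, invIso_transp _ F, Units.map F.toAlgHom.toRingHom.toMonoidHom wT, (1 : T) ⊗ₜ[S] e, ⟨?_, fun x => ?_⟩, hε⟩
  · change AzInv.LamInv.transpose _ _ _ (F ((1 : T) ⊗ₜ[S] (w : Matrix (Fin n) (Fin n) R))) =
      ((1 : T) ⊗ₜ[S] e : T ⊗[S] R) • F ((1 : T) ⊗ₜ[S] (w : Matrix (Fin n) (Fin n) R))
    rw [← hF, bcInv_tmul, hw, ← map_smul]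
    congr 1
    rw [Algebra.smul_def, Algebra.smul_def, taAlgebra_map, taHom_tmul, Algebra.TensorProduct.tmul_mul_tmul, one_mul]
  · obtain ⟨y, rfl⟩ := F.surjective x
    rw [transp_apply, bcInv_conj_apply, map_mul, map_mul, hF]
    rfl

omit hlam in
/-- A unitary conjugating unit over `T`. -/
theorem innerAt_unitary (hlam : ∀ r, lam (lam r) = r) (hsqT : ∀ x : T, IsUnit x → ∃ y, y * y = x) {n : ℕ} (hn : 0 < n)
    (hA : AzInv.IsAzumayaDeg R A n) (t : AzInv.LamInv R A lam) (ψ : A ≃ₐ[R] A) (hψ : AzInv.IsInvHom t t ψ) :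
    InnerAt ψ true (t.linS S lam) T := by
  obtain ⟨w, hw⟩ := innerAt_hens T A lam hlam hfix n hA ψ
  obtain ⟨Φ⟩ := ta_split lam T A hlam hfix n hA
  set τ := bcInv T t
  have hcomm : ∀ x, Algebra.TensorProduct.congr (AlgEquiv.refl : T ≃ₐ[T] T) (ψ.restrictScalars S) (τ x) =
      τ (Algebra.TensorProduct.congr (AlgEquiv.refl : T ≃ₐ[T] T) (ψ.restrictScalars S) x) := fun x => by
    induction x using TensorProduct.induction_on with
    | zero => simp [τ, AzInv.LamInv.map_zero]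
    | add a b ha hb => simp only [AzInv.LamInv.map_add, map_add, ha, hb]
    | tmul p x =>
      rw [bcInv_tmul, Algebra.TensorProduct.congr_apply, Algebra.TensorProduct.map_tmul,
        Algebra.TensorProduct.congr_apply, Algebra.TensorProduct.map_tmul, bcInv_tmul]
      exact congrArg _ (hψ x)
  have hcen : ∀ x, x * (τ w * w) = τ w * w * x := fun x => by
    obtain ⟨y, rfl⟩ := τ.surjective x
    set p := Algebra.TensorProduct.congr (AlgEquiv.refl : T ≃ₐ[T] T) (ψ.restrictScalars S) y with hp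
    have h1 : τ w * τ p = τ y * τ w := by rw [← τ.map_mul, ← τ.map_mul, hw y]
    have h2 : τ p * (w : T ⊗[S] A) = w * τ y := by rw [hp, ← hcomm, hw]
    rw [← mul_assoc, ← h1, mul_assoc, h2, ← mul_assoc]
  obtain ⟨b, hb⟩ := scalar_of_comm (Φ (τ w * w)) fun z => by
    obtain ⟨x, rfl⟩ := Φ.surjective z
    rw [← map_mul, hcen, map_mul]
  have hc : τ w * w = algebraMap (T ⊗[S] R) (T ⊗[S] A) b :=
    Φ.injective (by rw [hb, Φ.commutes, Algebra.algebraMap_eq_smul_one])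
  have hbu : IsUnit b := by
    have hu : IsUnit (Φ (τ w * w)) := (IsUnit.mul (⟨⟨τ w, τ (↑w⁻¹ : T ⊗[S] A), τ.map_units_inv' w, τ.map_units_inv w⟩, rfl⟩ : IsUnit (τ (w : T ⊗[S] A))) w.isUnit).map Φ
    rw [hb] at hu
    obtain ⟨M, hM⟩ := hu.exists_right_inv
    refine IsUnit.of_mul_eq_one (M ⟨0, hn⟩ ⟨0, hn⟩) ?_
    simpa using congrFun (congrFun hM ⟨0, hn⟩) ⟨0, hn⟩
  have hbσ : σT T lam b = b := by
    have h1 : τ (τ w * w) = τ w * w := by rw [τ.map_mul, τ.invol]
    rw [hc, τ.map_algebraMap] at h1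
    have h2 := congrArg Φ h1
    rw [Φ.commutes, Φ.commutes] at h2
    exact smul_one_inj hn (by rwa [← Algebra.algebraMap_eq_smul_one, ← Algebra.algebraMap_eq_smul_one])
  obtain ⟨y, hy, hyy⟩ := sqT T hlam hfix hsqT b hbu hbσ
  obtain ⟨z, hz⟩ := (isUnit_of_mul_isUnit_left (hyy ▸ hbu)).exists_left_inv
  let zu : (T ⊗[S] R)ˣ := ⟨z, y, hz, (mul_comm _ _).trans hz⟩
  have hzσ : σT T lam z = z := by
    have h1 := congrArg (σT T lam) hz
    rw [map_mul, map_one, hy] at h1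
    exact left_inv_eq_right_inv h1 ((mul_comm _ _).trans hz)
  refine ⟨Units.map (algebraMap (T ⊗[S] R) (T ⊗[S] A)).toMonoidHom zu * w, fun x => ?_, fun _ => ?_⟩
  · change Algebra.TensorProduct.congr (AlgEquiv.refl : T ≃ₐ[T] T) (ψ.restrictScalars S) x *
        (algebraMap (T ⊗[S] R) (T ⊗[S] A) z * (w : T ⊗[S] A)) =
      algebraMap (T ⊗[S] R) (T ⊗[S] A) z * (w : T ⊗[S] A) * x
    rw [← mul_assoc, ← Algebra.commutes, mul_assoc, hw, ← mul_assoc]
  · change τ (algebraMap (T ⊗[S] R) (T ⊗[S] A) z * (w : T ⊗[S] A)) *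
        (algebraMap (T ⊗[S] R) (T ⊗[S] A) z * (w : T ⊗[S] A)) = 1
    rw [τ.map_mul, τ.map_algebraMap, hzσ, mul_assoc, ← mul_assoc (algebraMap (T ⊗[S] R) (T ⊗[S] A) z), ← map_mul,
      ← mul_assoc, ← Algebra.commutes, mul_assoc, hc, ← map_mul, show z * z * b = 1 by
        linear_combination -(z * z) * hyy + (z * y + 1) * hz, map_one]

end Groth.Misc12.AzI
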